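import Mathlib

/-!
The Artin-Schreier bit of an element of a finite field of characteristic two, and its character.
-/

set_option autoImplicit false

namespace Cfsg.Agent.CN9.Two

universe u

variable {F : Type u} [Field F]

/-- `a` is not of the form `b² + b` -/
noncomputable def asB (a : F) : Bool := by
  classical
  exact decide (∀ b : F, b * b + b ≠ a)

/-- the additive character of order two -/
noncomputable def chiAS (a : F) : ℝ := if asB a then -1 else 1

variable [CharP F 2]

/-- the map `b ↦ b² + b` -/
def asHom : F →+ F :=
  AddMonoidHom.mk' (fun b => b * b + b) fun a b => by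
    have e : a * b + a * b = 0 := CharTwo.add_self_eq_zero _
    linear_combination e

theorem asB_eq_false {a : F} : asB a = false ↔ ∃ b : F, b * b + b = a := by
  classical
  simp [asB]

theorem asB_eq_false_iff_mem {a : F} : asB a = false ↔ a ∈ (asHom (F := F)).range := by
  rw [asB_eq_false, AddMonoidHom.mem_range]
  rfl

theorem asB_zero : asB (0 : F) = false := asB_eq_false.2 ⟨0, by simp⟩

variable [Finite F]

theorem asHom_index : (asHom (F := F)).range.index = 2 := by
  classical
  haveI : Fintype F := Fintype.ofFinite F
  have hk : Nat.card (asHom (F := F)).ker = 2 := by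
    rw [Nat.card_eq_two_iff]
    refine ⟨⟨0, by simp⟩, ⟨1, ?_⟩, fun h => zero_ne_one (congrArg Subtype.val h), ?_⟩
    · show (1 : F) * 1 + 1 = 0
      rw [mul_one]
      exact CharTwo.add_self_eq_zero 1
    · refine Set.eq_univ_of_forall fun ⟨b, hb⟩ => ?_
      have h1 : b * (b + 1) = 0 := by
        have h0 : b * b + b = 0 := hb
        linear_combination h0
      rcases mul_eq_zero.1 h1 with h | h
      · exact Or.inl (Subtype.ext h)
      · refine Or.inr (Subtype.ext ?_)
        have e : (1 : F) + 1 = 0 := CharTwo.add_self_eq_zero 1
        show b = 1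
        linear_combination h - e
  have h1 := AddSubgroup.index_mul_card (asHom (F := F)).range
  have h2 := AddSubgroup.index_mul_card (asHom (F := F)).ker
  rw [AddSubgroup.index_ker, hk] at h2
  rw [← h2, mul_comm] at h1
  exact Nat.eq_of_mul_eq_mul_left Nat.card_pos h1

theorem asB_add (a b : F) : asB (a + b) = xor (asB a) (asB b) := by
  have h := AddSubgroup.add_mem_iff_of_index_two (asHom_index (F := F)) (a := a) (b := b)
  rw [← asB_eq_false_iff_mem, ← asB_eq_false_iff_mem, ← asB_eq_false_iff_mem] at h
  cases h1 : asB (a + b) <;> cases h2 : asB a <;> cases h3 : asB b <;> simp [h1, h2, h3] at h ⊢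

theorem asB_shift (a b : F) : asB (a + (b * b + b)) = asB a := by
  rw [asB_add, asB_eq_false.2 ⟨b, rfl⟩, Bool.xor_false]

theorem asB_sq (a : F) : asB (a * a) = asB a := by
  have h : a * a = a + (a * a + a) := by
    have e : a + a = (0 : F) := CharTwo.add_self_eq_zero a
    linear_combination -e
  conv_lhs => rw [h]
  rw [asB_shift]

theorem exists_asB_true : ∃ a : F, asB a = true := by
  by_contra h
  push Not at h
  have htop : (asHom (F := F)).range = ⊤ := by
    rw [eq_top_iff]
    intro a _
    exact asB_eq_false_iff_mem.1 (by simpa using h a)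
  have := asHom_index (F := F)
  rw [htop, AddSubgroup.index_top] at this
  omega

/-- a fixed element outside the image of `b ↦ b² + b`, with its square root -/
noncomputable def asRoot (F : Type u) [Field F] [CharP F 2] [Finite F] : F :=
  (exists_asB_true (F := F)).choose

/-- its square -/
noncomputable def asT (F : Type u) [Field F] [CharP F 2] [Finite F] : F := asRoot F * asRoot F

theorem asB_asT : asB (asT F) = true := by
  rw [asT, asB_sq]
  exact (exists_asB_true (F := F)).choose_spec

/-- the two representatives -/
noncomputable def asRep (F : Type u) [Field F] [CharP F 2] [Finite F] (b : Bool) : F :=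
  if b then asT F else 0

theorem asB_asRep (b : Bool) : asB (asRep F b) = b := by
  cases b
  · exact asB_zero
  · exact asB_asT

theorem exists_shift (a : F) : ∃ b : F, a + (b * b + b) = asRep F (asB a) := by
  have h : asB (a + asRep F (asB a)) = false := by rw [asB_add, asB_asRep, Bool.xor_self]
  obtain ⟨b, hb⟩ := asB_eq_false.1 h
  refine ⟨b, ?_⟩
  have e : a + a = (0 : F) := CharTwo.add_self_eq_zero a
  linear_combination hb + e

theorem chiAS_zero : chiAS (0 : F) = 1 := by simp [chiAS, asB_zero]

theorem chiAS_add (a b : F) : chiAS (a + b) = chiAS a * chiAS b := by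
  simp only [chiAS, asB_add]
  cases asB a <;> cases asB b <;> simp

theorem chiAS_sq (a : F) : chiAS (a * a) = chiAS a := by simp only [chiAS, asB_sq]

theorem chiAS_asRep (b : Bool) : chiAS (asRep F b) = if b then -1 else 1 := by
  simp only [chiAS, asB_asRep]

end Cfsg.Agent.CN9.Two
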