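import Cfsg.Agent.ClassNum9.Iso.Decomp

/-!
Isometries of quadratic forms in characteristic two: the calculus of the nilpotent part `g - 1`.
-/

set_option autoImplicit false

namespace Cfsg.Agent.CN9.Two

open Module

universe u v

variable {F : Type u} [Field F] {V : Type v} [AddCommGroup V] [Module F V]

/-- a quadratic map `Q` with polar form `B`, invariant under `g` -/
structure QAut (B : LinearMap.BilinForm F V) (Q : V → F) (g : V ≃ₗ[F] V) : Prop where
  add : ∀ x y, Q (x + y) = Q x + Q y + B x y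
  smul : ∀ (c : F) x, Q (c • x) = c * c * Q x
  inv : ∀ x, Q (g x) = Q x

/-- the endomorphism `g - 1` -/
def nT (g : V ≃ₗ[F] V) : Module.End F V := (g : Module.End F V) - 1

/-- powers of `g - 1` -/
def tp (g : V ≃ₗ[F] V) (i : ℕ) : V →ₗ[F] V := nT g ^ i

theorem nT_apply (g : V ≃ₗ[F] V) (x : V) : nT g x = g x - x := rfl

theorem tp_zero (g : V ≃ₗ[F] V) (x : V) : tp g 0 x = x := rfl

theorem tp_succ (g : V ≃ₗ[F] V) (i : ℕ) (x : V) : tp g (i + 1) x = nT g (tp g i x) := by
  rw [tp, tp, pow_succ']; rfl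

theorem tp_one (g : V ≃ₗ[F] V) (x : V) : tp g 1 x = nT g x := by rw [tp, pow_one]

theorem tp_add (g : V ≃ₗ[F] V) (i j : ℕ) (x : V) : tp g (i + j) x = tp g i (tp g j x) := by
  rw [tp, tp, tp, pow_add]; rfl

theorem tp_comm (g : V ≃ₗ[F] V) (i j : ℕ) (x : V) : tp g i (tp g j x) = tp g j (tp g i x) := by
  rw [← tp_add, ← tp_add, add_comm]

theorem tp_of_le (g : V ≃ₗ[F] V) {i j : ℕ} (hij : i ≤ j) {x : V} (hx : tp g i x = 0) : tp g j x = 0 := by
  obtain ⟨k, rfl⟩ := Nat.exists_eq_add_of_le hij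
  rw [add_comm, tp_add, hx, map_zero]

theorem nT_mem {g : V ≃ₗ[F] V} {U : Submodule F V} (hU : ∀ x ∈ U, g x ∈ U) {x : V} (hx : x ∈ U) :
    nT g x ∈ U := by
  rw [nT_apply]; exact U.sub_mem (hU x hx) hx

theorem tp_mem {g : V ≃ₗ[F] V} {U : Submodule F V} (hU : ∀ x ∈ U, g x ∈ U) (i : ℕ) {x : V} (hx : x ∈ U) :
    tp g i x ∈ U := by
  induction i with
  | zero => exact hx
  | succ i ih => rw [tp_succ]; exact nT_mem hU ih

variable [CharP F 2]

include F in
theorem vadd_self (x : V) : x + x = 0 := by rw [← two_smul F x, CharTwo.two_eq_zero, zero_smul]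

include F in
theorem vsub_eq_add (x y : V) : x - y = x + y := by
  rw [sub_eq_add_neg, neg_eq_of_add_eq_zero_left (vadd_self (F := F) y)]

variable {B : LinearMap.BilinForm F V} {Q : V → F} {g : V ≃ₗ[F] V} (h : QAut B Q g)
include h

omit [CharP F 2] in
theorem QAut.q0 : Q 0 = 0 := by
  have := h.smul 0 0
  rwa [zero_smul, mul_zero, zero_mul] at this

theorem QAut.alt (x : V) : B x x = 0 := by
  have h1 := h.add x x
  rw [vadd_self (F := F) x, h.q0, CharTwo.add_self_eq_zero, zero_add] at h1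
  exact h1.symm

theorem QAut.symm (x y : V) : B x y = B y x := by
  have h1 := h.add x y
  rw [add_comm x y, h.add y x, add_comm (Q y)] at h1
  exact (add_left_cancel h1).symm

omit [CharP F 2] in
theorem QAut.binv (x y : V) : B (g x) (g y) = B x y := by
  have h1 := h.inv (x + y)
  rw [map_add, h.add, h.add, h.inv, h.inv] at h1
  exact add_left_cancel h1

theorem QAut.formAut : FormAut (1 : F) B g :=
  ⟨Or.inl rfl, fun x y => by rw [one_mul]; exact h.symm x y, h.binv⟩

/-- moving `g - 1` across the form -/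
theorem QAut.nT_right (x y : V) : B x (nT g y) = B (nT g x) y + B (nT g x) (nT g y) := by
  simp only [nT_apply, vsub_eq_add (F := F), map_add, LinearMap.add_apply, h.binv]
  have e : ∀ a : F, a + a = 0 := CharTwo.add_self_eq_zero
  linear_combination -(e (B (g x) y)) - e (B x y)

theorem QAut.q_nT (x : V) : Q (nT g x) = B (nT g x) x := by
  rw [nT_apply, vsub_eq_add (F := F), h.add, h.inv, map_add, LinearMap.add_apply, h.alt, add_zero,
    CharTwo.add_self_eq_zero, zero_add]

theorem QAut.q_tp (x : V) (i : ℕ) : Q (tp g (i + 1) x) = B (tp g (i + 1) x) (tp g i x) := by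
  rw [tp_succ, h.q_nT]

/-- products of high powers vanish -/
theorem QAut.pair_zero {N : ℕ} {x y : V} (hx : tp g N x = 0) :
    ∀ a b, N ≤ a + b → B (tp g a x) (tp g b y) = 0 := by
  suffices key : ∀ d b a, N ≤ a + d → N ≤ a + b → B (tp g a x) (tp g b y) = 0 from
    fun a b hab => key b b a hab hab
  intro d
  induction d with
  | zero => intro b a ha _; rw [tp_of_le g (by omega) hx, map_zero]; rfl
  | succ d ih =>
    intro b
    induction b with
    | zero => intro a _ hab; rw [tp_of_le g (show N ≤ a by omega) hx, map_zero]; rfl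
    | succ b ihb =>
      intro a had hab
      rw [tp_succ g b, h.nT_right, ← tp_succ g a, ← tp_succ g b, ih b (a + 1) (by omega) (by omega),
        ih (b + 1) (a + 1) (by omega) (by omega), add_zero]

theorem QAut.pair_step {N : ℕ} {x y : V} (hx : tp g N x = 0) {a b : ℕ} (hab : N ≤ a + b + 2) :
    B (tp g a x) (tp g (b + 1) y) = B (tp g (a + 1) x) (tp g b y) := by
  rw [tp_succ g b, h.nT_right, ← tp_succ g a, ← tp_succ g b, h.pair_zero hx (a + 1) (b + 1) (by omega), add_zero]

/-- the top antidiagonal is constant -/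
theorem QAut.pair_top {N : ℕ} {x y : V} (hx : tp g N x = 0) :
    ∀ a b, a + b + 1 = N → B (tp g a x) (tp g b y) = B (tp g (N - 1) x) y := by
  intro a b
  induction b generalizing a with
  | zero => intro hab; rw [tp_zero, show a = N - 1 by omega]
  | succ b ih => intro hab; rw [h.pair_step hx (by omega), ih (a + 1) (by omega)]

theorem QAut.q_zero {N : ℕ} {x : V} (hx : tp g N x = 0) {i : ℕ} (hi : N + 1 ≤ 2 * i) : Q (tp g i x) = 0 := by
  obtain ⟨j, rfl⟩ : ∃ j, i = j + 1 := ⟨i - 1, by omega⟩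
  rw [h.q_tp, h.pair_zero hx _ _ (by omega)]

theorem QAut.q_top {N : ℕ} {x : V} (hx : tp g N x = 0) {i : ℕ} (hi : 2 * i = N) (hN : 1 ≤ N) :
    Q (tp g i x) = B (tp g (N - 1) x) x := by
  obtain ⟨j, rfl⟩ : ∃ j, i = j + 1 := ⟨i - 1, by omega⟩
  rw [h.q_tp, h.pair_top hx _ _ (by omega)]

/-- for odd length the top diagonal vanishes -/
theorem QAut.top_odd {N : ℕ} {x : V} (hx : tp g N x = 0) (hN : Odd N) : B (tp g (N - 1) x) x = 0 := by
  obtain ⟨k, rfl⟩ := hN
  rw [← h.pair_top hx k k (by omega), h.alt]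

omit [CharP F 2] in
theorem QAut.restrict_q {U : Submodule F V} {gU : U ≃ₗ[F] U} (hg : ∀ x : U, (gU x : V) = g x) :
    QAut (B.compl₁₂ U.subtype U.subtype) (fun x : U => Q x) gU :=
  ⟨fun x y => h.add x y, fun c x => h.smul c x, fun x => by simpa [hg] using h.inv x⟩

end Cfsg.Agent.CN9.Two
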