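import Cfsg.Agent.ClassNum9.Two.Normalise
import Cfsg.Agent.ClassNum9.Sp.RegPoly

/-!
Normalised labels are encoded by self-dual polynomials, multiplicities and bits.
-/

set_option autoImplicit false

namespace Cfsg.Agent.CN9.Two

open Polynomial Finset Cfsg.Agent.GLSemi

universe u

variable {F : Type u} [Field F]

/-- the regular polynomial of a label with a given exponent -/
noncomputable def Lab.regs (k : ℕ) : Lab F → Multiset F[X]
  | .reg P e => if e = k then {P} else 0
  | .pv _ _ => 0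
  | .pw _ _ => 0

/-- indicator of a double piece -/
def Lab.wInd (k : ℕ) : Lab F → ℕ
  | .reg _ _ => 0
  | .pv _ _ => 0
  | .pw m _ => if m = k then 1 else 0

/-- indicator of a single piece -/
def Lab.vInd (k : ℕ) : Lab F → ℕ
  | .reg _ _ => 0
  | .pv l _ => if l = k then 1 else 0
  | .pw _ _ => 0

/-- the regular polynomials of an exponent -/
noncomputable def regsAt (M : Multiset (Lab F)) (k : ℕ) : Multiset F[X] := (M.map (Lab.regs k)).sum

/-- the number of double pieces -/
def nW (M : Multiset (Lab F)) (k : ℕ) : ℕ := (M.map (Lab.wInd k)).sum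

/-- the number of single pieces -/
def nV (M : Multiset (Lab F)) (k : ℕ) : ℕ := (M.map (Lab.vInd k)).sum

/-- the polynomial of an exponent -/
noncomputable def polyAt (M : Multiset (Lab F)) (k : ℕ) : F[X] :=
  (regsAt M k).prod * ((X - C 1) ^ 2) ^ nW M k

/-- the bit of a level -/
noncomputable def betaAt (M : Multiset (Lab F)) (j : ℕ) : Bool := by
  classical
  exact decide (∃ z ∈ M, z.bit = true ∧ (z.pos = 2 * j + 1 ∨ z.pos = 2 * j + 2))

theorem betaAt_iff (M : Multiset (Lab F)) (j : ℕ) :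
    betaAt M j = true ↔ ∃ z ∈ M, z.bit = true ∧ (z.pos = 2 * j + 1 ∨ z.pos = 2 * j + 2) := by
  classical
  simp [betaAt]

theorem mem_regsAt {M : Multiset (Lab F)} {k : ℕ} {P : F[X]} : P ∈ regsAt M k ↔ Lab.reg P k ∈ M := by
  induction M using Multiset.induction_on with
  | empty => simp [regsAt]
  | cons z M ih =>
    simp only [regsAt, Multiset.map_cons, Multiset.sum_cons, Multiset.mem_add, Multiset.mem_cons] at ih ⊢
    rw [ih]
    cases z with
    | reg P' e =>
      simp only [Lab.regs]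
      split_ifs with he
      · subst he; simp
      · simp [Ne.symm he]
    | pv l b => simp [Lab.regs]
    | pw m b => simp [Lab.regs]

theorem regsAt_isReg {M : Multiset (Lab F)} (hv : ∀ z ∈ M, z.Valid) (k : ℕ) : ∀ P ∈ regsAt M k, IsReg P :=
  fun _ hP => (hv _ (mem_regsAt.1 hP)).2

theorem count_regsAt [DecidableEq F[X]] [DecidableEq (Lab F)] (M : Multiset (Lab F)) (k : ℕ) (P : F[X]) :
    (regsAt M k).count P = M.count (Lab.reg P k) := by
  induction M using Multiset.induction_on with
  | empty => simp [regsAt]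
  | cons z M ih =>
    simp only [regsAt, Multiset.map_cons, Multiset.sum_cons, Multiset.count_add, Multiset.count_cons] at ih ⊢
    rw [ih]
    cases z with
    | reg P' e =>
      simp only [Lab.regs]
      split_ifs with he h1 h1
      · injection h1 with h1 h2; subst h1; simp [add_comm]
      · subst he
        have : P ≠ P' := fun e => h1 (by rw [e])
        simp [this]
      · injection h1 with h1 h2; exact absurd h2.symm he
      · simp
    | pv l b => simp [Lab.regs]
    | pw m b => simp [Lab.regs]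

theorem count_pw [DecidableEq (Lab F)] (M : Multiset (Lab F)) (m : ℕ) :
    M.count (Lab.pw m false) + M.count (Lab.pw m true) = nW M m := by
  induction M using Multiset.induction_on with
  | empty => simp [nW]
  | cons z M ih =>
    simp only [nW, Multiset.map_cons, Multiset.sum_cons, Multiset.count_cons] at ih ⊢
    cases z with
    | reg P e => simp [Lab.wInd]; omega
    | pv l b => simp [Lab.wInd]; omega
    | pw m' b =>
      by_cases he : m' = m
      · subst he; cases b <;> simp [Lab.wInd] <;> omega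
      · simp [Lab.wInd, he, Ne.symm he]; omega

theorem count_pv [DecidableEq (Lab F)] (M : Multiset (Lab F)) (k : ℕ) :
    M.count (Lab.pv k false) + M.count (Lab.pv k true) = nV M k := by
  induction M using Multiset.induction_on with
  | empty => simp [nV]
  | cons z M ih =>
    simp only [nV, Multiset.map_cons, Multiset.sum_cons, Multiset.count_cons] at ih ⊢
    cases z with
    | reg P e => simp [Lab.vInd]; omega
    | pw m b => simp [Lab.vInd]; omega
    | pv l b =>
      by_cases he : l = k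
      · subst he; cases b <;> simp [Lab.vInd] <;> omega
      · simp [Lab.vInd, he, Ne.symm he]; omega

theorem mem_of_nW_pos {M : Multiset (Lab F)} {m : ℕ} (hm : 0 < nW M m) : ∃ b, Lab.pw m b ∈ M := by
  classical
  have := count_pw M m
  rcases Nat.eq_zero_or_pos (M.count (Lab.pw m false)) with h | h
  · exact ⟨true, Multiset.count_pos.1 (by omega)⟩
  · exact ⟨false, Multiset.count_pos.1 h⟩

theorem mem_of_nV_pos {M : Multiset (Lab F)} {k : ℕ} (hk : 0 < nV M k) : ∃ b, Lab.pv k b ∈ M := by
  classical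
  have := count_pv M k
  rcases Nat.eq_zero_or_pos (M.count (Lab.pv k false)) with h | h
  · exact ⟨true, Multiset.count_pos.1 (by omega)⟩
  · exact ⟨false, Multiset.count_pos.1 h⟩

theorem nW_pos_of_mem {M : Multiset (Lab F)} {m : ℕ} {b : Bool} (h : Lab.pw m b ∈ M) : 0 < nW M m := by
  classical
  have := count_pw M m
  have h1 := Multiset.count_pos.2 h
  cases b <;> omega

theorem nV_pos_of_mem {M : Multiset (Lab F)} {k : ℕ} {b : Bool} (h : Lab.pv k b ∈ M) : 0 < nV M k := by
  classical
  have := count_pv M k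
  have h1 := Multiset.count_pos.2 h
  cases b <;> omega

theorem nV_le_two {M : Multiset (Lab F)} (hs : VSmall M) (k : ℕ) : nV M k ≤ 2 := by
  refine le_of_eq_of_le ?_ (hs k)
  clear hs
  induction M using Multiset.induction_on with
  | empty => simp [nV]
  | cons z M ih =>
    simp only [nV, Multiset.map_cons, Multiset.sum_cons, Multiset.filter_cons, Multiset.card_add] at ih ⊢
    rw [ih]
    cases z <;> simp [Lab.vInd, Lab.isPv] <;> split_ifs <;> simp_all

/-- what `Good` says about one bit -/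
theorem Good.not_mem {M : Multiset (Lab F)} (hG : Good M) {z z' : Lab F} (hz : z ∈ M) (hb : z.bit = true)
    (hne : z' ≠ z) (hl : Linked z z') : z' ∉ M := by
  classical
  intro hz'
  exact hG z _ (Multiset.cons_erase hz).symm hb z' ((Multiset.mem_erase_of_ne hne).2 hz') hl

theorem Good.count_le [DecidableEq (Lab F)] {M : Multiset (Lab F)} (hG : Good M) (hv : ∀ z ∈ M, z.Valid)
    {z : Lab F} (hb : z.bit = true) : M.count z ≤ 1 := by
  by_contra hc
  push Not at hc
  have hz : z ∈ M := Multiset.count_pos.1 (by omega)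
  refine hG z _ (Multiset.cons_erase hz).symm hb z ?_ ⟨node_of_bit (hv z hz) hb, Or.inl ⟨rfl, hb⟩⟩
  rw [← Multiset.count_pos, Multiset.count_erase_self]
  omega

theorem betaAt_cond {M : Multiset (Lab F)} (hv : ∀ z ∈ M, z.Valid) (hG : Good M) {j : ℕ}
    (hj : betaAt M j = true) : nV M j = 0 ∧ (0 < nW M (2 * j + 1) ∨ 0 < nV M (j + 1)) := by
  obtain ⟨z, hz, hb, hp⟩ := (betaAt_iff M j).1 hj
  refine ⟨?_, ?_⟩
  · by_contra hne
    obtain ⟨c, hc⟩ := mem_of_nV_pos (Nat.pos_of_ne_zero hne)
    refine hG.not_mem (z' := Lab.pv j c) hz hb (fun e => ?_) ⟨trivial, Or.inr ?_⟩ hc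
    · rw [← e] at hp
      simp only [Lab.pos] at hp
      omega
    · show 2 * j + 1 = z.pos ∨ (Even z.pos ∧ 2 * j + 2 = z.pos)
      rcases hp with hp | hp
      · exact Or.inl (by omega)
      · exact Or.inr ⟨⟨j + 1, by omega⟩, by omega⟩
  · cases z with
    | reg P e => simp [Lab.bit] at hb
    | pv k b =>
      simp only [Lab.pos] at hp
      obtain rfl : k = j + 1 := by omega
      exact Or.inr (nV_pos_of_mem hz)
    | pw m b =>
      have ho := Nat.odd_iff.1 ((hv _ hz).2 hb)
      simp only [Lab.pos] at hp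
      obtain rfl : m = 2 * j + 1 := by omega
      exact Or.inl (nW_pos_of_mem hz)

theorem count_pw_true [DecidableEq (Lab F)] {M : Multiset (Lab F)} (hv : ∀ z ∈ M, z.Valid) (hG : Good M) (j : ℕ) :
    M.count (Lab.pw (2 * j + 1) true) = if betaAt M j = true ∧ 0 < nW M (2 * j + 1) then 1 else 0 := by
  split_ifs with h
  · refine le_antisymm (hG.count_le hv rfl) (Multiset.count_pos.2 ?_)
    obtain ⟨z, hz, hb, hp⟩ := (betaAt_iff M j).1 h.1
    obtain ⟨c, hc⟩ := mem_of_nW_pos h.2
    cases z with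
    | reg P e => simp [Lab.bit] at hb
    | pv k b =>
      simp only [Lab.pos] at hp
      refine absurd hc (hG.not_mem (z' := Lab.pw (2 * j + 1) c) hz hb (by simp) ⟨⟨j, rfl⟩, Or.inr (Or.inl ?_)⟩)
      simp only [Lab.pos]
      omega
    | pw m b =>
      have ho := Nat.odd_iff.1 ((hv _ hz).2 hb)
      simp only [Lab.pos] at hp
      obtain rfl : m = 2 * j + 1 := by omega
      rw [show b = true from hb] at hz
      exact hz
  · refine Multiset.count_eq_zero_of_notMem fun hm => h ⟨(betaAt_iff M j).2 ⟨_, hm, rfl, Or.inl rfl⟩, ?_⟩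
    exact nW_pos_of_mem hm

theorem count_pv_true [DecidableEq (Lab F)] {M : Multiset (Lab F)} (hv : ∀ z ∈ M, z.Valid) (hG : Good M) (j : ℕ) :
    M.count (Lab.pv (j + 1) true) = if betaAt M j = true ∧ nW M (2 * j + 1) = 0 then 1 else 0 := by
  split_ifs with h
  · refine le_antisymm (hG.count_le hv rfl) (Multiset.count_pos.2 ?_)
    obtain ⟨z, hz, hb, hp⟩ := (betaAt_iff M j).1 h.1
    cases z with
    | reg P e => simp [Lab.bit] at hb
    | pv k b =>
      simp only [Lab.pos] at hp
      obtain rfl : k = j + 1 := by omega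
      rw [show b = true from hb] at hz
      exact hz
    | pw m b =>
      have ho := Nat.odd_iff.1 ((hv _ hz).2 hb)
      simp only [Lab.pos] at hp
      obtain rfl : m = 2 * j + 1 := by omega
      exact absurd (nW_pos_of_mem hz) (by omega)
  · refine Multiset.count_eq_zero_of_notMem fun hm => h ⟨(betaAt_iff M j).2 ⟨_, hm, rfl, Or.inr (by simp [Lab.pos]; omega)⟩, ?_⟩
    by_contra hne
    obtain ⟨c, hc⟩ := mem_of_nW_pos (Nat.pos_of_ne_zero hne)
    refine hG.not_mem (z' := Lab.pw (2 * j + 1) c) hm rfl (by simp) ⟨⟨j, rfl⟩, Or.inr (Or.inl ?_)⟩ hc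
    simp only [Lab.pos]
    omega

variable [CharP F 2]

omit [CharP F 2] in
theorem eval_one_eq_zero {P : F[X]} (h : SelfDual P) (hc : P.coeff 0 = 1) (h2 : (2 : F) = 0)
    (hodd : Odd P.natDegree) : P.eval 1 = 0 := by
  obtain ⟨d, hd⟩ := hodd
  rw [eval_eq_sum_range, hd]
  simp only [one_pow, mul_one]
  rw [show 2 * d + 1 + 1 = (d + 1) + (d + 1) by omega, sum_range_add]
  have hsym : ∀ i, i < d + 1 → P.coeff (d + 1 + i) = P.coeff (d - i) := by
    intro i hi
    have e := congrArg (fun p : F[X] => p.coeff (d - i)) h.2.2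
    rw [coeff_dual, hc, map_one, inv_one, one_mul, revAt_le (by omega), hd, RingHom.id_apply] at e
    rwa [show 2 * d + 1 - (d - i) = d + 1 + i by omega] at e
  have e2 : ∑ i ∈ range (d + 1), P.coeff (d + 1 + i) = ∑ i ∈ range (d + 1), P.coeff i := by
    rw [← sum_range_reflect (fun i => P.coeff i) (d + 1)]
    refine sum_congr rfl fun i hi => ?_
    rw [mem_range] at hi
    rw [hsym i hi, show d + 1 - 1 - i = d - i by omega]
  rw [e2, ← two_mul, h2, zero_mul]

/-- the shape of a regular polynomial -/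
theorem shape_two {P : F[X]} (h : IsReg P) : P.coeff 0 = 1 ∧ Even P.natDegree ∧ 0 < P.natDegree := by
  obtain ⟨hP, h1, h1', hirr⟩ := h
  have e1 := hP.eval_eq 1
  simp only [Units.val_one, inv_one, one_pow, mul_one] at e1
  have hc : P.coeff 0 = 1 := mul_right_cancel₀ h1 (e1.trans (one_mul _).symm)
  refine ⟨hc, ?_, ?_⟩
  · by_contra hodd
    exact h1 (eval_one_eq_zero hP hc CharTwo.two_eq_zero (Nat.not_even_iff_odd.1 hodd))
  · rcases hirr with hi | ⟨f, hfi, hfm, hf0, -, rfl⟩
    · exact hi.natDegree_pos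
    · rw [natDegree_mul hfi.ne_zero (monic_dual _ hf0).ne_zero]
      have := hfi.natDegree_pos
      omega

theorem selfDual_sq_one : SelfDual ((X - C (1 : F)) ^ 2) ∧ ((X - C (1 : F)) ^ 2).coeff 0 = 1 :=
  ⟨(selfDual_X_sub_C (Or.inl rfl)).pow 2, by simp [coeff_zero_eq_eval_zero]⟩

theorem polyAt_shape {M : Multiset (Lab F)} (hv : ∀ z ∈ M, z.Valid) (k : ℕ) :
    SelfDual (polyAt M k) ∧ (polyAt M k).coeff 0 = 1 ∧ Even (polyAt M k).natDegree := by
  obtain ⟨a, b, c⟩ := prod_selfDual (regsAt M k) fun P hP =>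
    ⟨(regsAt_isReg hv k P hP).1, (shape_two (regsAt_isReg hv k P hP)).1, (shape_two (regsAt_isReg hv k P hP)).2.1⟩
  obtain ⟨a1, b1⟩ := selfDual_sq_one (F := F)
  refine ⟨a.mul (a1.pow _), ?_, ?_⟩
  · rw [polyAt, mul_coeff_zero, b, one_mul, coeff_zero_eq_eval_zero, eval_pow, ← coeff_zero_eq_eval_zero, b1, one_pow]
  · rw [polyAt, natDegree_mul a.1.ne_zero (a1.pow _).1.ne_zero, natDegree_pow, natDegree_pow, natDegree_X_sub_C]
    exact c.add ⟨nW M k, by ring⟩

theorem polyAt_inj {M M' : Multiset (Lab F)} (hv : ∀ z ∈ M, z.Valid) (hv' : ∀ z ∈ M', z.Valid) {k : ℕ}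
    (he : polyAt M k = polyAt M' k) : regsAt M k = regsAt M' k ∧ nW M k = nW M' k := by
  classical
  have hroot : ∀ (M : Multiset (Lab F)), (∀ z ∈ M, z.Valid) →
      rootMultiplicity 1 (polyAt M k) = 2 * nW M k := by
    intro M hv
    have hne : (regsAt M k).prod ≠ 0 := (prod_selfDual (regsAt M k) fun P hP =>
      ⟨(regsAt_isReg hv k P hP).1, (shape_two (regsAt_isReg hv k P hP)).1,
        (shape_two (regsAt_isReg hv k P hP)).2.1⟩).1.1.ne_zero
    have h0 : rootMultiplicity 1 (regsAt M k).prod = 0 := by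
      refine rootMultiplicity_eq_zero fun hr => ?_
      rw [IsRoot, eval_multiset_prod, Multiset.prod_eq_zero_iff, Multiset.mem_map] at hr
      obtain ⟨P, hP, hPs⟩ := hr
      exact (regsAt_isReg hv k P hP).2.1 hPs
    rw [polyAt, rootMultiplicity_mul (mul_ne_zero hne (pow_ne_zero _ (pow_ne_zero _ (X_sub_C_ne_zero _)))),
      h0, ← pow_mul, rootMultiplicity_X_sub_C_pow, zero_add]
  have e1 : nW M k = nW M' k := by
    have := hroot M hv
    rw [he, hroot M' hv'] at this
    omega
  refine ⟨reg_prod_inj (regsAt_isReg hv k) (regsAt_isReg hv' k) ?_, e1⟩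
  rw [polyAt, polyAt, e1] at he
  exact mul_right_cancel₀ (pow_ne_zero _ (pow_ne_zero 2 (X_sub_C_ne_zero (1 : F)))) he

/-- the codes determine normalised labels -/
theorem labels_inj {M M' : Multiset (Lab F)} (hv : ∀ z ∈ M, z.Valid) (hv' : ∀ z ∈ M', z.Valid) (hG : Good M)
    (hG' : Good M') (hp : ∀ k, 1 ≤ k → polyAt M k = polyAt M' k) (hc : ∀ k, 1 ≤ k → nV M k = nV M' k)
    (hb : ∀ j, betaAt M j = betaAt M' j) : M = M' := by
  classical
  refine Multiset.ext.2 fun z => ?_
  by_cases hz : z.Valid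
  swap
  · rw [Multiset.count_eq_zero_of_notMem fun hm => hz (hv z hm),
      Multiset.count_eq_zero_of_notMem fun hm => hz (hv' z hm)]
  cases z with
  | reg P e => rw [← count_regsAt, ← count_regsAt, (polyAt_inj hv hv' (hp e hz.1)).1]
  | pv k b =>
    have hk : 1 ≤ k := hz
    obtain ⟨j, rfl⟩ : ∃ j, k = j + 1 := ⟨k - 1, by omega⟩
    have et : M.count (Lab.pv (j + 1) true) = M'.count (Lab.pv (j + 1) true) := by
      rw [count_pv_true hv hG, count_pv_true hv' hG', hb, (polyAt_inj hv hv' (hp (2 * j + 1) (by omega))).2]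
    cases b
    · have a := count_pv M (j + 1)
      have a' := count_pv M' (j + 1)
      rw [hc (j + 1) (by omega)] at a
      omega
    · exact et
  | pw m b =>
    have e1 := (polyAt_inj hv hv' (hp m hz.1)).2
    have et : M.count (Lab.pw m true) = M'.count (Lab.pw m true) := by
      rcases Nat.even_or_odd m with he | ⟨j, rfl⟩
      · rw [Multiset.count_eq_zero_of_notMem fun hm => Nat.not_odd_iff_even.2 he ((hv (Lab.pw m true) hm).2 rfl),
          Multiset.count_eq_zero_of_notMem fun hm => Nat.not_odd_iff_even.2 he ((hv' (Lab.pw m true) hm).2 rfl)]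
      · rw [count_pw_true hv hG, count_pw_true hv' hG', hb, e1]
    cases b
    · have a := count_pw M m
      have a' := count_pw M' m
      rw [e1] at a
      omega
    · exact et

omit [CharP F 2] in
theorem polyAt_degree {M : Multiset (Lab F)} (hv : ∀ z ∈ M, z.Valid) (k : ℕ) :
    (polyAt M k).natDegree = ((regsAt M k).map natDegree).sum + 2 * nW M k := by
  have hne : ∀ f ∈ regsAt M k, f.Monic := fun f hf => (regsAt_isReg hv k f hf).1.1
  have hp : (regsAt M k).prod.Monic := by simpa using monic_multiset_prod_of_monic (regsAt M k) id hne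
  rw [polyAt, hp.natDegree_mul (((monic_X_sub_C 1).pow 2).pow _), natDegree_multiset_prod_of_monic _ hne,
    natDegree_pow, natDegree_pow, natDegree_X_sub_C]
  ring

/-- the exponent of a label -/
def Lab.expo : Lab F → ℕ
  | .reg _ e => e
  | .pv k _ => k
  | .pw m _ => m

omit [CharP F 2] in
theorem dim_sum {M : Multiset (Lab F)} (hv : ∀ z ∈ M, z.Valid) (K : ℕ) (hK : ∀ z ∈ M, z.expo ≤ K) :
    (M.map Lab.dim).sum = ∑ k ∈ Finset.Icc 1 K, k * (((regsAt M k).map natDegree).sum + 2 * nW M k + 2 * nV M k) := by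
  induction M using Multiset.induction_on with
  | empty => simp [regsAt, nW, nV]
  | cons z M ih =>
    have hz := hv z (Multiset.mem_cons_self _ _)
    have hK' := hK z (Multiset.mem_cons_self _ _)
    rw [Multiset.map_cons, Multiset.sum_cons,
      ih (fun w hw => hv w (Multiset.mem_cons_of_mem hw)) fun w hw => hK w (Multiset.mem_cons_of_mem hw)]
    have h1 : ∀ k, k * (((regsAt (z ::ₘ M) k).map natDegree).sum + 2 * nW (z ::ₘ M) k + 2 * nV (z ::ₘ M) k) =
        (if k = z.expo then z.dim else 0) +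
          k * (((regsAt M k).map natDegree).sum + 2 * nW M k + 2 * nV M k) := by
      intro k
      simp only [regsAt, nW, nV, Multiset.map_cons, Multiset.sum_cons, Multiset.map_add, Multiset.sum_add]
      cases z with
      | reg P e =>
        by_cases he : e = k
        · subst he; simp [Lab.regs, Lab.wInd, Lab.vInd, Lab.expo, Lab.dim]; ring
        · simp [Lab.regs, Lab.wInd, Lab.vInd, Lab.expo, he, Ne.symm he]
      | pv l b =>
        by_cases he : l = k
        · subst he; simp [Lab.regs, Lab.wInd, Lab.vInd, Lab.expo, Lab.dim]; ring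
        · simp [Lab.regs, Lab.wInd, Lab.vInd, Lab.expo, he, Ne.symm he]
      | pw l b =>
        by_cases he : l = k
        · subst he; simp [Lab.regs, Lab.wInd, Lab.vInd, Lab.expo, Lab.dim]; ring
        · simp [Lab.regs, Lab.wInd, Lab.vInd, Lab.expo, he, Ne.symm he]
    have hz1 : 1 ≤ z.expo := by cases z <;> [exact hz.1; exact hz; exact hz.1]
    simp only [h1, sum_add_distrib, Finset.sum_ite_eq', Finset.mem_Icc, hz1, hK', and_self, if_true]

/-- the code space -/
abbrev Code (F : Type u) [Field F] (n : ℕ) : Type u :=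
  (Fin (2 * n) → Σ d : Fin (n + 1), SPoly F d) × (Fin n → Fin 3) × (Fin n → Bool)

/-- the weight -/
noncomputable def cWt {n : ℕ} (x : Code F n) : ℕ :=
  ∑ i : Fin (2 * n), ((i : ℕ) + 1) * ((x.1 i).1 : ℕ) + ∑ j : Fin n, ((j : ℕ) + 1) * (x.2.1 j : ℕ)

/-- the conditions on the bits -/
def CCond {n : ℕ} (x : Code F n) : Prop :=
  ∀ j : Fin n, x.2.2 j = true →
    (∀ i : Fin n, (i : ℕ) + 1 = j → (x.2.1 i : ℕ) = 0) ∧
      (((X - C (1 : F)) ^ 2 ∣ ((x.1 ⟨2 * (j : ℕ), by omega⟩).2 : F[X])) ∨ (x.2.1 j : ℕ) ≠ 0)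

/-- normalised labels of dimension `2n` -/
def LSet (F : Type u) [Field F] (n : ℕ) : Type u :=
  {M : Multiset (Lab F) // (∀ z ∈ M, z.Valid) ∧ VSmall M ∧ Good M ∧ (M.map Lab.dim).sum = 2 * n}

theorem expo_le {n : ℕ} (M : LSet F n) : ∀ z ∈ M.1, z.expo ≤ n := by
  intro z hz
  have h : z.dim ≤ 2 * n := M.2.2.2.2 ▸ Multiset.le_sum_of_mem (Multiset.mem_map_of_mem Lab.dim hz)
  cases z with
  | reg P e =>
    obtain ⟨-, ⟨a, ha⟩, hpos⟩ := shape_two (M.2.1 _ hz).2
    simp only [Lab.dim, Lab.expo] at h ⊢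
    have : e * 2 ≤ e * P.natDegree := Nat.mul_le_mul_left e (by omega)
    omega
  | pv k b => simp only [Lab.dim, Lab.expo] at h ⊢; omega
  | pw m b => simp only [Lab.dim, Lab.expo] at h ⊢; omega

theorem none_above {n : ℕ} (M : LSet F n) {k : ℕ} (hk : n < k) :
    polyAt M.1 k = 1 ∧ nW M.1 k = 0 ∧ nV M.1 k = 0 := by
  have hw : nW M.1 k = 0 := by
    by_contra hne
    obtain ⟨b, hb⟩ := mem_of_nW_pos (Nat.pos_of_ne_zero hne)
    have := expo_le M _ hb
    simp only [Lab.expo] at this
    omega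
  have hV : nV M.1 k = 0 := by
    by_contra hne
    obtain ⟨b, hb⟩ := mem_of_nV_pos (Nat.pos_of_ne_zero hne)
    have := expo_le M _ hb
    simp only [Lab.expo] at this
    omega
  have hr : regsAt M.1 k = 0 := Multiset.eq_zero_of_forall_notMem fun P hP => by
    have := expo_le M _ (mem_regsAt.1 hP)
    simp only [Lab.expo] at this
    omega
  exact ⟨by simp [polyAt, hr, hw], hw, hV⟩

theorem weight_eq {n : ℕ} (M : LSet F n) :
    ∑ k ∈ Finset.Icc 1 (2 * n), k * ((polyAt M.1 k).natDegree / 2) + ∑ k ∈ Finset.Icc 1 n, k * nV M.1 k = n := by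
  have h := dim_sum M.2.1 (2 * n) fun z hz => by have := expo_le M z hz; omega
  rw [M.2.2.2.2] at h
  have e : ∀ k, k * (((regsAt M.1 k).map natDegree).sum + 2 * nW M.1 k + 2 * nV M.1 k) =
      2 * (k * ((polyAt M.1 k).natDegree / 2) + k * nV M.1 k) := by
    intro k
    obtain ⟨a, ha⟩ := (polyAt_shape M.2.1 k).2.2
    rw [← polyAt_degree M.2.1, ha, show (a + a) / 2 = a by omega]
    ring
  simp only [e, ← mul_sum, sum_add_distrib] at h
  have e2 : ∑ k ∈ Finset.Icc 1 (2 * n), k * nV M.1 k = ∑ k ∈ Finset.Icc 1 n, k * nV M.1 k := by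
    refine (sum_subset (fun k hk => ?_) fun k hk hk' => ?_).symm
    · simp only [Finset.mem_Icc] at hk ⊢; omega
    · simp only [Finset.mem_Icc] at hk hk'
      rw [(none_above M (show n < k by omega)).2.2, mul_zero]
  omega

/-- the code of normalised labels -/
noncomputable def codeOf {n : ℕ} (M : LSet F n) : {x : Code F n // cWt x = n ∧ CCond x} :=
  have hd : ∀ i : Fin (2 * n), (polyAt M.1 ((i : ℕ) + 1)).natDegree / 2 < n + 1 := fun i => by
    have h := weight_eq M
    have h1 := single_le_sum (f := fun k => k * ((polyAt M.1 k).natDegree / 2)) (fun _ _ => Nat.zero_le _)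
      (show (i : ℕ) + 1 ∈ Icc 1 (2 * n) by simp)
    have h2 := Nat.le_mul_of_pos_left ((polyAt M.1 ((i : ℕ) + 1)).natDegree / 2) (show 0 < (i : ℕ) + 1 by omega)
    omega
  ⟨(fun i => ⟨⟨_, hd i⟩, polyAt M.1 ((i : ℕ) + 1), (polyAt_shape M.2.1 _).1,
      by
        show _ = 2 * ((polyAt M.1 ((i : ℕ) + 1)).natDegree / 2)
        have := Nat.even_iff.1 (polyAt_shape M.2.1 ((i : ℕ) + 1)).2.2
        omega,
      (polyAt_shape M.2.1 _).2.1⟩,
    fun j => ⟨nV M.1 ((j : ℕ) + 1), Nat.lt_succ_of_le (nV_le_two M.2.2.1 _)⟩,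
    fun j => betaAt M.1 j), by
    refine ⟨Eq.trans ?_ (weight_eq M), fun j hj => ?_⟩
    · simp only [cWt]
      congr 1
      · rw [Fin.sum_univ_eq_sum_range (fun i => (i + 1) * ((polyAt M.1 (i + 1)).natDegree / 2)) (2 * n),
          ← Finset.Ico_add_one_right_eq_Icc, sum_Ico_eq_sum_range, Nat.add_sub_cancel]
        simp only [add_comm 1]
      · rw [Fin.sum_univ_eq_sum_range (fun j => (j + 1) * nV M.1 (j + 1)) n,
          ← Finset.Ico_add_one_right_eq_Icc, sum_Ico_eq_sum_range, Nat.add_sub_cancel]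
        simp only [add_comm 1]
    · obtain ⟨h1, h2⟩ := betaAt_cond M.2.1 M.2.2.2.1 hj
      refine ⟨fun i hi => by show nV M.1 ((i : ℕ) + 1) = 0; rw [hi]; exact h1, ?_⟩
      rcases h2 with h2 | h2
      · refine Or.inl ?_
        show (X - C (1 : F)) ^ 2 ∣ polyAt M.1 (2 * (j : ℕ) + 1)
        exact dvd_mul_of_dvd_right (dvd_pow_self _ h2.ne') _
      · exact Or.inr h2.ne'⟩

theorem codeOf_inj {n : ℕ} : Function.Injective (codeOf (F := F) (n := n)) := by
  intro M M' h
  refine Subtype.ext (labels_inj M.2.1 M'.2.1 M.2.2.2.1 M'.2.2.2.1 (fun k hk => ?_) (fun k hk => ?_) fun j => ?_)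
  · rcases Nat.lt_or_ge (2 * n) k with hlt | hle
    · rw [(none_above M (by omega)).1, (none_above M' (by omega)).1]
    · have hk' : k - 1 < 2 * n := by omega
      have h1 := congrArg (fun x : {x : Code F n // cWt x = n ∧ CCond x} => ((x.1.1 ⟨k - 1, hk'⟩).2 : F[X])) h
      simp only [codeOf, Nat.sub_add_cancel hk] at h1
      exact h1
  · rcases Nat.lt_or_ge n k with hlt | hle
    · rw [(none_above M hlt).2.2, (none_above M' hlt).2.2]
    · have hk' : k - 1 < n := by omega
      have h1 := congrArg (fun x : {x : Code F n // cWt x = n ∧ CCond x} => ((x.1.2.1 ⟨k - 1, hk'⟩ : Fin 3) : ℕ)) h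
      simp only [codeOf, Nat.sub_add_cancel hk] at h1
      exact h1
  · rcases Nat.lt_or_ge j n with hlt | hge
    · exact congrArg (fun x : {x : Code F n // cWt x = n ∧ CCond x} => x.1.2.2 ⟨j, hlt⟩) h
    · have hnone : ∀ C : LSet F n, betaAt C.1 j = false := fun C => by
        by_contra hc
        obtain ⟨-, h1⟩ := betaAt_cond C.2.1 C.2.2.2.1 (Bool.eq_true_of_not_eq_false hc)
        obtain ⟨-, a, -⟩ := none_above C (show n < 2 * j + 1 by omega)
        obtain ⟨-, -, b⟩ := none_above C (show n < j + 1 by omega)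
        omega
      rw [hnone M, hnone M']

end Cfsg.Agent.CN9.Two
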