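import Mathlib

/-!
Bounds for the sums over codes of class numbers in characteristic two.
-/

set_option autoImplicit false

namespace Cfsg.Agent.CN9.Two

/-- the sum over polynomials at exponent `2j + 1` -/
noncomputable def tF (j : ℕ) : ℝ := if j = 0 then 1 else 1 / (1 - (1 / 2 : ℝ) ^ (2 * j))

/-- the part divisible by `(x - 1)^2` -/
noncomputable def wF (j : ℕ) : ℝ := (1 / 2 : ℝ) ^ (2 * j + 1) * tF j

/-- the two multiplicities -/
noncomputable def vF (j : ℕ) : ℝ := (1 / 2 : ℝ) ^ (j + 1) + (1 / 2 : ℝ) ^ (2 * j + 2)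

/-- the sum over polynomials at exponent `2j + 2` -/
noncomputable def eF (j : ℕ) : ℝ := 1 / (1 - (1 / 2 : ℝ) ^ (2 * j + 1))

/-- sums over `L` levels from level `j`: after a present piece, after an absent one, without nodes -/
noncomputable def gSum : ℕ → ℕ → ℝ × ℝ × ℝ
  | 0, _ => (1, 1, 1)
  | L + 1, j =>
    (eF j * (tF j * (gSum L (j + 1)).2.1 + tF j * vF j * (gSum L (j + 1)).1),
      eF j * ((tF j + wF j) * (gSum L (j + 1)).2.1 + 2 * tF j * vF j * (gSum L (j + 1)).1),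
      eF j * tF j * (gSum L (j + 1)).2.2)

/-- explicit bounds -/
noncomputable def kTab : List (ℝ × ℝ × ℝ) :=
  [ (151829/10000, 159591/6250, 86637/25000),
    (92007/25000, 120781/25000, 86637/50000),
    (82911/50000, 189699/100000, 113711/100000),
    (124629/100000, 66537/50000, 12909/12500),
    (55377/50000, 3574/3125, 3152/3125),
    (105041/100000, 667/625, 100273/100000),
    (102451/100000, 103261/100000, 50063/50000),
    (50609/50000, 6351/6250, 100089/100000),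
    (100617/100000, 50407/50000, 100079/100000),
    (627/625, 50209/50000, 25019/25000),
    (100173/100000, 100221/100000, 4003/4000),
    (50049/50000, 100123/100000, 50037/50000) ]

/-- the bound for the sums from level `j` -/
noncomputable def kB (j : ℕ) : ℝ × ℝ × ℝ :=
  kTab.getD j (1 + 3 * (1 / 2) ^ j, 1 + 3 * (1 / 2) ^ j, 1 + 3 * (1 / 2) ^ j)

theorem tF_nonneg (j : ℕ) : 0 ≤ tF j := by
  unfold tF
  split_ifs with h
  · exact zero_le_one
  · exact div_nonneg zero_le_one (sub_nonneg.2 (pow_le_one₀ (by norm_num) (by norm_num)))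

theorem eF_nonneg (j : ℕ) : 0 ≤ eF j :=
  div_nonneg zero_le_one (sub_nonneg.2 (pow_le_one₀ (by norm_num) (by norm_num)))

theorem vF_nonneg (j : ℕ) : 0 ≤ vF j := by unfold vF; positivity

theorem wF_nonneg (j : ℕ) : 0 ≤ wF j := mul_nonneg (by positivity) (tF_nonneg j)

theorem kB_of_ge {j : ℕ} (hj : 12 ≤ j) :
    kB j = (1 + 3 * (1 / 2) ^ j, 1 + 3 * (1 / 2) ^ j, 1 + 3 * (1 / 2) ^ j) := by
  have : kTab.length ≤ j := by simpa [kTab] using hj
  rw [kB, List.getD_eq_getElem?_getD, List.getElem?_eq_none this, Option.getD_none]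

theorem kB_step (j : ℕ) :
    1 ≤ (kB j).1 ∧ 1 ≤ (kB j).2.1 ∧ 1 ≤ (kB j).2.2 ∧
    eF j * (tF j * (kB (j + 1)).2.1 + tF j * vF j * (kB (j + 1)).1) ≤ (kB j).1 ∧
    eF j * ((tF j + wF j) * (kB (j + 1)).2.1 + 2 * tF j * vF j * (kB (j + 1)).1) ≤ (kB j).2.1 ∧
    eF j * tF j * (kB (j + 1)).2.2 ≤ (kB j).2.2 := by
  rcases Nat.lt_or_ge j 12 with hj | hj
  · interval_cases j <;> norm_num [kB, kTab, eF, tF, wF, vF]
  · rw [kB_of_ge hj, kB_of_ge (show 12 ≤ j + 1 by omega)]
    set u := (1 / 2 : ℝ) ^ j with hu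
    have hu0 : 0 < u := by positivity
    have hu1 : u ≤ (1 / 2) ^ 12 := pow_le_pow_of_le_one (by norm_num) (by norm_num) hj
    norm_num at hu1
    have e1 : (1 / 2 : ℝ) ^ (j + 1) = u / 2 := by rw [hu]; ring
    have e2 : (1 / 2 : ℝ) ^ (2 * j + 2) = u * u / 4 := by rw [hu]; ring
    have e3 : (1 / 2 : ℝ) ^ (2 * j + 1) = u * u / 2 := by rw [hu]; ring
    have e4 : (1 / 2 : ℝ) ^ (2 * j) = u * u := by rw [hu]; ring
    have ht : tF j = 1 / (1 - u * u) := by rw [tF, if_neg (by omega), e4]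
    have hd : 0 < 1 - u * u := by nlinarith
    have hd' : 0 < 1 - u * u / 2 := by nlinarith
    simp only [eF, wF, vF, ht, e1, e2, e3]
    refine ⟨by linarith, by linarith, by linarith, ?_, ?_, ?_⟩
    all_goals field_simp
    all_goals rw [div_le_iff₀ (mul_pos (by nlinarith) (by nlinarith))]
    all_goals nlinarith [mul_pos hu0 hu0, mul_pos (mul_pos hu0 hu0) hu0, mul_le_mul_of_nonneg_left hu1 hu0.le,
      mul_le_mul_of_nonneg_left hu1 (mul_pos hu0 hu0).le, pow_pos hu0 4, pow_pos hu0 5]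

theorem gSum_le : ∀ L j, (0 ≤ (gSum L j).1 ∧ 0 ≤ (gSum L j).2.1 ∧ 0 ≤ (gSum L j).2.2) ∧
    (gSum L j).1 ≤ (kB j).1 ∧ (gSum L j).2.1 ≤ (kB j).2.1 ∧ (gSum L j).2.2 ≤ (kB j).2.2 := by
  intro L
  induction L with
  | zero =>
    intro j
    exact ⟨⟨zero_le_one, zero_le_one, zero_le_one⟩, (kB_step j).1, (kB_step j).2.1, (kB_step j).2.2.1⟩
  | succ L ih =>
    intro j
    obtain ⟨⟨n1, n2, n3⟩, b1, b2, b3⟩ := ih (j + 1)
    obtain ⟨-, -, -, s1, s2, s3⟩ := kB_step j
    have hE := eF_nonneg j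
    have hT := tF_nonneg j
    have hV := vF_nonneg j
    have hW := wF_nonneg j
    simp only [gSum]
    refine ⟨⟨by positivity, by positivity, by positivity⟩, le_trans ?_ s1, le_trans ?_ s2, le_trans ?_ s3⟩ <;> gcongr

theorem gSum_sp (L : ℕ) : (gSum L 0).1 ≤ 76 / 5 := by
  refine (gSum_le L 0).2.1.trans ?_
  norm_num [kB, kTab]

theorem gSum_o (L : ℕ) : (gSum L 0).2.1 + (gSum L 0).2.2 ≤ 30 := by
  obtain ⟨-, -, h1, h2⟩ := gSum_le L 0
  refine (add_le_add h1 h2).trans ?_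
  norm_num [kB, kTab]

end Cfsg.Agent.CN9.Two
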