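import Cfsg.Agent.ClassNum9.Two.Code
import Cfsg.Agent.ClassNum9.Two.Numeric
import Cfsg.Agent.ClassNum9.Sp.Numeric

/-!
Counting codes.
-/

set_option autoImplicit false

namespace Cfsg.Agent.CN9.Two

open Polynomial Finset Cfsg.Agent.GLSemi

universe u

variable {F : Type u} [Field F]

/-- the multiplicity and bit of a level -/
def cbOf {n : ℕ} (x : Code F n) : Fin n → Fin 3 × Bool := fun j => (x.2.1 j, x.2.2 j)

/-- the weight of a level -/
noncomputable def lw (j : ℕ) (a : Fin 3 × Bool) : ℝ :=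
  eF j * (if a.2 = true ∧ (a.1 : ℕ) = 0 then wF j else tF j) * (1 / 2) ^ ((j + 1) * (a.1 : ℕ))

/-- the weight of a level after a present or absent piece -/
noncomputable def lv (j : ℕ) (p : Bool) (a : Fin 3 × Bool) : ℝ :=
  if a.2 = true ∧ p = true then 0 else lw j a

/-- whether the previous piece is present -/
def prevOf {n : ℕ} (p : Bool) (α : Fin n → Fin 3 × Bool) (i : Fin n) : Bool :=
  if (i : ℕ) = 0 then p else decide ((α ⟨(i : ℕ) - 1, by omega⟩).1 ≠ 0)

theorem lw_nonneg (j : ℕ) (a : Fin 3 × Bool) : 0 ≤ lw j a := by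
  unfold lw
  have := eF_nonneg j
  have := tF_nonneg j
  have := wF_nonneg j
  split_ifs <;> positivity

theorem sum_chain : ∀ (L j : ℕ) (p : Bool),
    ∑ α : Fin L → Fin 3 × Bool, ∏ i : Fin L, lv (j + i) (prevOf p α i) (α i) =
      if p then (gSum L j).1 else (gSum L j).2.1 := by
  intro L
  induction L with
  | zero => intro j p; cases p <;> simp [gSum]
  | succ L ih =>
    intro j p
    rw [← (Fin.consEquiv fun _ : Fin (L + 1) => Fin 3 × Bool).sum_comp, Fintype.sum_prod_type]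
    have hstep : ∀ (a : Fin 3 × Bool) (α : Fin L → Fin 3 × Bool),
        ∏ i : Fin (L + 1), lv (j + i) (prevOf p (Fin.cons a α : Fin (L + 1) → Fin 3 × Bool) i)
          ((Fin.cons a α : Fin (L + 1) → Fin 3 × Bool) i) =
        lv j p a * ∏ i : Fin L, lv (j + 1 + i) (prevOf (decide (a.1 ≠ 0)) α i) (α i) := by
      intro a α
      rw [Fin.prod_univ_succ]
      congr 1
      refine prod_congr rfl fun i _ => ?_
      have e1 : prevOf p (Fin.cons a α : Fin (L + 1) → Fin 3 × Bool) i.succ = prevOf (decide (a.1 ≠ 0)) α i := by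
        unfold prevOf
        simp only [Fin.val_succ, Nat.add_one_ne_zero, if_false, Nat.add_sub_cancel]
        rcases i with ⟨_ | k, hk⟩
        · simp
        · simp only [Nat.add_one_ne_zero, if_false, Nat.add_sub_cancel]
          rfl
      rw [e1, Fin.cons_succ, Fin.val_succ, show j + ((i : ℕ) + 1) = j + 1 + i by omega]
    simp only [Fin.consEquiv, Equiv.coe_fn_mk, hstep, ← mul_sum, ih]
    rw [Fintype.sum_prod_type, Fin.sum_univ_three]
    simp only [Fintype.sum_bool, lv, lw, gSum, vF]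
    cases p <;> simp <;> ring

theorem prod_pairs {M : Type*} [CommMonoid M] (f : ℕ → M) :
    ∀ n : ℕ, ∏ i ∈ range (2 * n), f i = ∏ j ∈ range n, f (2 * j) * f (2 * j + 1) := by
  intro n
  induction n with
  | zero => simp
  | succ n ih =>
    rw [show 2 * (n + 1) = 2 * n + 1 + 1 by ring, prod_range_succ, prod_range_succ, ih, prod_range_succ (n := n), mul_assoc]

variable [Fintype F] [CharP F 2]

theorem card_SPoly_dvd (d : ℕ) :
    Nat.card {P : SPoly F d // (X - C (1 : F)) ^ 2 ∣ (P : F[X])} ≤ if d = 0 then 0 else Fintype.card F ^ (d - 1) := by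
  haveI := (card_SPoly_le (F := F) (d - 1)).1
  obtain ⟨hs, hc⟩ := selfDual_sq_one (F := F)
  have hdeg : ((X - C (1 : F)) ^ 2).natDegree = 2 := by rw [natDegree_pow, natDegree_X_sub_C]
  split_ifs with hd
  · subst hd
    refine Nat.le_zero.2 (Nat.card_eq_zero.2 (Or.inl ⟨fun P => ?_⟩))
    have := natDegree_le_of_dvd P.2 P.1.2.1.1.ne_zero
    rw [hdeg, P.1.2.2.1] at this
    omega
  · choose R hR using fun P : {P : SPoly F d // (X - C (1 : F)) ^ 2 ∣ (P : F[X])} => P.2
    have hmem : ∀ P, R P ∈ SPoly F (d - 1) := by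
      intro P
      obtain ⟨⟨hm, h0, hdual⟩, hPd, hP0⟩ := P.1.2
      rw [hR P] at hm h0 hdual hPd hP0
      have hRm : (R P).Monic := hs.1.of_mul_monic_left hm
      rw [mul_coeff_zero, hc, one_mul] at h0 hP0
      refine ⟨⟨hRm, h0, ?_⟩, ?_, hP0⟩
      · rw [dual_mul, hs.2.2] at hdual
        exact mul_left_cancel₀ hs.1.ne_zero hdual
      · rw [hs.1.natDegree_mul hRm, hdeg] at hPd
        omega
    refine le_trans (Nat.card_le_card_of_injective (fun P => (⟨R P, hmem P⟩ : SPoly F (d - 1))) fun P P' h => ?_)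
      (card_SPoly_le (F := F) (d - 1)).2
    have h1 : R P = R P' := congrArg Subtype.val h
    exact Subtype.ext (Subtype.ext (by rw [hR P, hR P', h1]))

omit [CharP F 2] in
theorem card_codes_le [CharP F 2] (n : ℕ) (S : Finset (Fin n → Fin 3 × Bool)) :
    (Nat.card {x : Code F n // cWt x = n ∧ CCond x ∧ cbOf x ∈ S} : ℝ) ≤
      (Fintype.card F : ℝ) ^ n * ∑ cb ∈ S, ∏ j : Fin n, lw j (cb j) := by
  classical
  haveI : ∀ d, Finite (SPoly F d) := fun d => (card_SPoly_le d).1
  haveI : ∀ d, Fintype (SPoly F d) := fun d => Fintype.ofFinite _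
  set q := Fintype.card F with hqdef
  have hq2 : (2 : ℝ) ≤ q := by exact_mod_cast Fintype.one_lt_card (α := F)
  set z : ℝ := 1 / (q : ℝ) with hz
  have hz0 : 0 < z := by positivity
  have hqz : (q : ℝ) * z = 1 := by rw [hz]; field_simp
  have hz2 : z ≤ 1 / 2 := one_div_le_one_div_of_le (by norm_num) hq2
  rcases Nat.eq_zero_or_pos n with rfl | hn
  · simp only [pow_zero, one_mul, univ_eq_empty, prod_empty, sum_const, nsmul_eq_mul, mul_one]
    have hsub : Subsingleton (Code F 0) := ⟨fun x y => Prod.ext (funext fun k => Fin.elim0 k)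
      (Prod.ext (funext fun k => Fin.elim0 k) (funext fun k => Fin.elim0 k))⟩
    rcases S.eq_empty_or_nonempty with rfl | hS
    · simp
    · have h1 : Nat.card {x : Code F 0 // cWt x = 0 ∧ CCond x ∧ cbOf x ∈ S} ≤ 1 :=
        Finite.card_le_one_iff_subsingleton.2 inferInstance
      exact_mod_cast h1.trans hS.card_pos
  obtain ⟨m, hm⟩ : ∃ m, 2 * n = m + 1 := ⟨2 * n - 1, by omega⟩
  let T := Σ d : Fin (n + 1), SPoly F d
  let R := (Fin m → T) × {cb // cb ∈ S}
  let cN : (Fin n → Fin 3 × Bool) → ℕ → Fin 3 × Bool := fun cb j => if h : j < n then cb ⟨j, h⟩ else (0, false)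
  let need : (Fin n → Fin 3 × Bool) → ℕ → Prop := fun cb i =>
    i % 2 = 0 ∧ (cN cb (i / 2)).2 = true ∧ ((cN cb (i / 2)).1 : ℕ) = 0
  let ok : (Fin n → Fin 3 × Bool) → ℕ → T → Prop := fun cb i t =>
    need cb i → (X - C (1 : F)) ^ 2 ∣ (t.2 : F[X])
  let wc : (Fin n → Fin 3 × Bool) → ℕ := fun cb => ∑ j : Fin n, ((j : ℕ) + 1) * ((cb j).1 : ℕ)
  let wp : (Fin m → T) → ℕ := fun r => ∑ k : Fin m, ((k : ℕ) + 2) * ((r k).1 : ℕ)
  let e : Fin (m + 1) → Fin (2 * n) := Fin.cast hm.symm
  let Fib : R → Type u := fun r =>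
    {t : T // (t.1 : ℕ) + (wp r.1 + wc r.2.1) = n ∧ ok r.2.1 0 t ∧ ∀ k : Fin m, ok r.2.1 ((k : ℕ) + 1) (r.1 k)}
  let rest : {x : Code F n // cWt x = n ∧ CCond x ∧ cbOf x ∈ S} → Σ r : R, Fib r := fun x =>
    ⟨(fun k => x.1.1 (e k.succ), ⟨cbOf x.1, x.2.2.2⟩), x.1.1 (e 0), by
      have hok : ∀ i : Fin (m + 1), ok (cbOf x.1) i (x.1.1 (e i)) := by
        rintro ⟨i, hi⟩ ⟨h1, h2, h3⟩
        dsimp only at h1 h2 h3
        simp only [cN] at h2 h3
        have hlt : i / 2 < n := by omega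
        rw [dif_pos hlt] at h2 h3
        obtain ⟨-, hor⟩ := x.2.2.1 ⟨i / 2, hlt⟩ h2
        have hee : e ⟨i, hi⟩ = ⟨2 * (i / 2), by omega⟩ := Fin.ext (by simp [e]; omega)
        rw [hee]
        exact hor.resolve_right (fun hne => hne h3)
      refine ⟨?_, hok 0, fun k => hok k.succ⟩
      have h := x.2.1
      rw [cWt, ← (finCongr hm.symm).sum_comp, Fin.sum_univ_succ] at h
      simp only [finCongr_apply, Fin.val_cast, Fin.val_zero, zero_add, one_mul, Fin.val_succ, add_assoc] at h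
      simp only [wp, wc, cbOf, e]
      rw [show (1 : ℕ) + 1 = 2 from rfl] at h
      exact h⟩
  have hinj : Function.Injective rest := by
    intro x y h
    refine Subtype.ext (Prod.ext (funext fun k => ?_) (Prod.ext (funext fun j => ?_) (funext fun j => ?_)))
    · obtain ⟨i, rfl⟩ : ∃ i, k = e i := ⟨Fin.cast hm k, Fin.ext rfl⟩
      cases i using Fin.cases with
      | zero => exact congrArg (fun p : Σ r : R, Fib r => p.2.1) h
      | succ i => exact congrArg (fun p : Σ r : R, Fib r => p.1.1 i) h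
    · exact congrArg (fun p : Σ r : R, Fib r => (p.1.2.1 j).1) h
    · exact congrArg (fun p : Σ r : R, Fib r => (p.1.2.1 j).2) h
  let ind : (Fin n → Fin 3 × Bool) → ℕ → T → ℝ := fun cb i t => if ok cb i t then 1 else 0
  let f0 : (Fin n → Fin 3 × Bool) → ℝ := fun cb => if need cb 0 then 1 / 2 else 1
  have hfib : ∀ r : R, (Fintype.card (Fib r) : ℝ) ≤ (q : ℝ) ^ n *
      (f0 r.2.1 * z ^ wc r.2.1 * ∏ k : Fin m, ind r.2.1 ((k : ℕ) + 1) (r.1 k) * z ^ (((k : ℕ) + 2) * ((r.1 k).1 : ℕ))) := by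
    intro r
    have hnn : 0 ≤ f0 r.2.1 * z ^ wc r.2.1 *
        ∏ k : Fin m, ind r.2.1 ((k : ℕ) + 1) (r.1 k) * z ^ (((k : ℕ) + 2) * ((r.1 k).1 : ℕ)) := by
      refine mul_nonneg (mul_nonneg ?_ (by positivity)) (prod_nonneg fun k _ => mul_nonneg ?_ (by positivity))
      · simp only [f0]; split_ifs <;> norm_num
      · simp only [ind]; split_ifs <;> norm_num
    by_cases hcase : wp r.1 + wc r.2.1 ≤ n ∧ ∀ k : Fin m, ok r.2.1 ((k : ℕ) + 1) (r.1 k)
    swap
    · rw [Fintype.card_eq_zero_iff.2 ⟨fun t : Fib r => hcase ⟨by have := t.2.1; omega, t.2.2.2⟩⟩]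
      push_cast
      positivity
    obtain ⟨hle, hoks⟩ := hcase
    have hprod : ∏ k : Fin m, ind r.2.1 ((k : ℕ) + 1) (r.1 k) * z ^ (((k : ℕ) + 2) * ((r.1 k).1 : ℕ)) = z ^ wp r.1 := by
      rw [prod_mul_distrib, prod_eq_one (fun k _ => if_pos (hoks k)), one_mul, prod_pow_eq_pow_sum]
    rw [hprod, mul_assoc, ← pow_add]
    set D := n - (wp r.1 + wc r.2.1) with hD
    have hqD : (q : ℝ) ^ n * z ^ (wc r.2.1 + wp r.1) = (q : ℝ) ^ D := by
      have key : ∀ a b c : ℕ, c = a + b → (q : ℝ) ^ c * z ^ b = (q : ℝ) ^ a := by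
        intro a b c hc
        rw [hc, pow_add, mul_assoc, ← mul_pow, hqz, one_pow, mul_one]
      exact key D _ n (by omega)
    let f : Fib r → {P : SPoly F D // need r.2.1 0 → (X - C (1 : F)) ^ 2 ∣ (P : F[X])} := fun t =>
      ⟨⟨(t.1.2 : F[X]), by
        obtain ⟨a, b, c⟩ := t.1.2.2
        exact ⟨a, by rw [b]; have := t.2.1; omega, c⟩⟩, fun hneed => t.2.2.1 hneed⟩
    have hf : Function.Injective f := by
      rintro ⟨⟨d, P⟩, hd, hd2⟩ ⟨⟨d', P'⟩, hd', hd2'⟩ h
      obtain rfl : d = d' := Fin.ext (by simp only at hd hd'; omega)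
      exact Subtype.ext (congrArg (Sigma.mk d) (Subtype.ext (congrArg (fun P => P.1.1) h :)))
    rw [← Nat.card_eq_fintype_card]
    refine (Nat.cast_le.2 (Nat.card_le_card_of_injective f hf)).trans ?_
    simp only [f0]
    by_cases hneed : need r.2.1 0
    · rw [if_pos hneed, mul_left_comm, hqD, show Nat.card {P : SPoly F D // need r.2.1 0 → (X - C (1 : F)) ^ 2 ∣ (P : F[X])} =
          Nat.card {P : SPoly F D // (X - C (1 : F)) ^ 2 ∣ (P : F[X])} from
        Nat.card_congr (Equiv.subtypeEquivRight fun P => ⟨fun h => h hneed, fun h _ => h⟩)]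
      refine (Nat.cast_le.2 (card_SPoly_dvd (F := F) D)).trans ?_
      split_ifs with hD0
      · push_cast; positivity
      · push_cast
        conv_rhs => rw [show D = D - 1 + 1 by omega, pow_succ]
        have : (q : ℝ) ^ (D - 1) * 2 ≤ (q : ℝ) ^ (D - 1) * q := mul_le_mul_of_nonneg_left hq2 (by positivity)
        linarith
    · rw [if_neg hneed, one_mul, hqD]
      calc (Nat.card _ : ℝ) ≤ (Nat.card (SPoly F D) : ℝ) :=
            Nat.cast_le.2 (Nat.card_le_card_of_injective Subtype.val Subtype.val_injective)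
        _ ≤ ((q ^ D : ℕ) : ℝ) := Nat.cast_le.2 (card_SPoly_le (F := F) D).2
        _ = _ := by push_cast; rfl
  have h1 : (Nat.card {x : Code F n // cWt x = n ∧ CCond x ∧ cbOf x ∈ S} : ℝ) ≤ (q : ℝ) ^ n * ∑ r : R,
      f0 r.2.1 * z ^ wc r.2.1 * ∏ k : Fin m, ind r.2.1 ((k : ℕ) + 1) (r.1 k) * z ^ (((k : ℕ) + 2) * ((r.1 k).1 : ℕ)) := by
    rw [mul_sum]
    refine le_trans ?_ (sum_le_sum fun r _ => hfib r)
    rw [← Nat.cast_sum, ← Fintype.card_sigma, ← Nat.card_eq_fintype_card (α := Σ r : R, _)]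
    exact Nat.cast_le.2 (Nat.card_le_card_of_injective rest hinj)
  refine h1.trans (mul_le_mul_of_nonneg_left ?_ (by positivity))
  rw [Fintype.sum_prod_type_right, ← Finset.sum_coe_sort S]
  refine sum_le_sum fun cb _ => ?_
  simp only []
  rw [← mul_sum, ← Fintype.prod_sum fun (k : Fin m) (t : T) => ind cb.1 ((k : ℕ) + 1) t * z ^ (((k : ℕ) + 2) * (t.1 : ℕ))]
  -- the factor of each exponent
  let g : ℕ → ℝ := fun i => if i % 2 = 0 then (if need cb.1 i then wF (i / 2) else tF (i / 2)) else eF (i / 2)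
  have hg : ∀ k : Fin m, ∑ t : T, ind cb.1 ((k : ℕ) + 1) t * z ^ (((k : ℕ) + 2) * (t.1 : ℕ)) ≤ g ((k : ℕ) + 1) := by
    intro k
    set i := (k : ℕ) + 1 with hi
    rw [show (k : ℕ) + 2 = i + 1 by omega]
    have hy0 : (0 : ℝ) ≤ (1 / 2) ^ i := by positivity
    have hy1 : (1 / 2 : ℝ) ^ i < 1 := pow_lt_one₀ (by norm_num) (by norm_num) (by omega)
    have hbase : ∀ d : ℕ, (q : ℝ) ^ d * z ^ ((i + 1) * d) ≤ ((1 / 2 : ℝ) ^ i) ^ d := by
      intro d
      rw [pow_mul, ← mul_pow, pow_succ' z, ← mul_assoc, hqz, one_mul]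
      exact pow_le_pow_left₀ (by positivity) (pow_le_pow_left₀ hz0.le hz2 _) d
    rw [Fintype.sum_sigma]
    by_cases hneed : need cb.1 i
    · have hgv : g i = (1 / 2) ^ (i + 1) * (1 / (1 - (1 / 2) ^ i)) := by
        obtain ⟨he, -⟩ := id hneed
        simp only [g, if_pos he, if_pos hneed, wF, tF]
        rw [if_neg (by omega), show 2 * (i / 2) = i by omega]
      rw [hgv]
      refine le_trans (sum_le_sum (g := fun d : Fin (n + 1) => if (d : ℕ) = 0 then 0
        else (q : ℝ) ^ ((d : ℕ) - 1) * z ^ ((i + 1) * (d : ℕ))) fun d _ => ?_) ?_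
      · simp only []
        rw [← sum_mul]
        have hc : (∑ P : SPoly F d, ind cb.1 i ⟨d, P⟩) ≤ if (d : ℕ) = 0 then 0 else (q : ℝ) ^ ((d : ℕ) - 1) := by
          have e2 : ∀ P : SPoly F d, ind cb.1 i ⟨d, P⟩ = if (X - C (1 : F)) ^ 2 ∣ (P : F[X]) then 1 else 0 := by
            intro P
            simp only [ind, ok, hneed, forall_const]
          rw [sum_congr rfl fun P _ => e2 P, sum_boole, ← Fintype.card_subtype, ← Nat.card_eq_fintype_card]
          refine (Nat.cast_le.2 (card_SPoly_dvd (F := F) d)).trans ?_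
          split_ifs <;> simp [hqdef]
        refine (mul_le_mul_of_nonneg_right hc (by positivity)).trans (le_of_eq ?_)
        split_ifs <;> simp
      · rw [Fin.sum_univ_eq_sum_range (fun d => if d = 0 then 0 else (q : ℝ) ^ (d - 1) * z ^ ((i + 1) * d)) (n + 1),
          sum_range_succ']
        simp only [Nat.add_one_ne_zero, if_false, if_true, Nat.add_sub_cancel, add_zero]
        refine le_trans (sum_le_sum (g := fun d => (1 / 2 : ℝ) ^ (i + 1) * ((1 / 2 : ℝ) ^ i) ^ d) fun d _ => ?_) ?_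
        · rw [mul_add, mul_one, pow_add, ← mul_assoc, mul_comm ((1 / 2 : ℝ) ^ (i + 1))]
          exact mul_le_mul (hbase d) (pow_le_pow_left₀ hz0.le hz2 _) (by positivity) (by positivity)
        · rw [← mul_sum]
          exact mul_le_mul_of_nonneg_left (geom_factor hy0 hy1 _) (by positivity)
    · have hgv : g i = 1 / (1 - (1 / 2) ^ i) := by
        simp only [g, if_neg hneed, tF, eF]
        split_ifs
        · omega
        · rw [show 2 * (i / 2) = i by omega]
        · rw [show 2 * (i / 2) + 1 = i by omega]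
      rw [hgv]
      refine le_trans (sum_le_sum (g := fun d : Fin (n + 1) => ((1 / 2 : ℝ) ^ i) ^ (d : ℕ)) fun d _ => ?_) ?_
      · simp only []
        rw [← sum_mul]
        refine le_trans (mul_le_mul_of_nonneg_right ?_ (by positivity)) (hbase d)
        refine le_trans (sum_le_sum (g := fun _ => (1 : ℝ)) fun P _ => ?_) ?_
        · simp only [ind]; split_ifs <;> norm_num
        · rw [sum_const, nsmul_eq_mul, mul_one, Finset.card_univ, ← Nat.card_eq_fintype_card]
          exact_mod_cast (card_SPoly_le (F := F) d).2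
      · rw [Fin.sum_univ_eq_sum_range (fun d => ((1 / 2 : ℝ) ^ i) ^ d)]
        exact geom_factor hy0 hy1 _
  have hg0 : f0 cb.1 = g 0 := by
    simp only [f0, g, wF, tF, Nat.zero_mod, if_true, Nat.zero_div, mul_one, mul_zero, zero_add, pow_one]
  have hfn : 0 ≤ f0 cb.1 := by simp only [f0]; split_ifs <;> norm_num
  refine (mul_le_mul (mul_le_mul_of_nonneg_left (pow_le_pow_left₀ hz0.le hz2 _) hfn)
    (prod_le_prod (fun k _ => sum_nonneg fun t _ => mul_nonneg (by simp only [ind]; split_ifs <;> norm_num)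
      (by positivity)) fun k _ => hg k)
    (prod_nonneg fun k _ => sum_nonneg fun t _ => mul_nonneg (by simp only [ind]; split_ifs <;> norm_num)
      (by positivity)) (mul_nonneg hfn (by positivity))).trans (le_of_eq ?_)
  rw [hg0, mul_right_comm, Fin.prod_univ_eq_prod_range (fun k => g (k + 1)) m, mul_comm (g 0), ← prod_range_succ',
    ← hm, prod_pairs, ← Fin.prod_univ_eq_prod_range (fun j => g (2 * j) * g (2 * j + 1)) n]
  simp only [wc]
  rw [← prod_pow_eq_pow_sum, ← prod_mul_distrib]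
  refine prod_congr rfl fun j _ => ?_
  simp only [g, lw, need, cN, show 2 * (j : ℕ) % 2 = 0 by omega, show (2 * (j : ℕ) + 1) % 2 ≠ 0 by omega,
    show 2 * (j : ℕ) / 2 = (j : ℕ) by omega, show (2 * (j : ℕ) + 1) / 2 = (j : ℕ) by omega, if_true, if_false,
    true_and, dif_pos j.2, Fin.eta]
  ring

/-- codes starting after a present or an absent piece -/
theorem card_chain_le (n : ℕ) (p : Bool) :
    (Nat.card {x : Code F n // cWt x = n ∧ CCond x ∧
      (p = true → ∀ j : Fin n, (j : ℕ) = 0 → x.2.2 j = false)} : ℝ) ≤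
      (Fintype.card F : ℝ) ^ n * if p then (gSum n 0).1 else (gSum n 0).2.1 := by
  classical
  haveI : ∀ d, Finite (SPoly F d) := fun d => (card_SPoly_le d).1
  let S : Finset (Fin n → Fin 3 × Bool) := univ.filter fun cb => ∀ j, (cb j).2 = true → prevOf p cb j = false
  have e : ∑ cb ∈ S, ∏ j : Fin n, lw j (cb j) = if p then (gSum n 0).1 else (gSum n 0).2.1 := by
    rw [← sum_chain n 0 p, sum_filter]
    refine sum_congr rfl fun cb _ => ?_
    split_ifs with hv
    · refine prod_congr rfl fun j _ => ?_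
      rw [zero_add, lv, if_neg]
      exact fun hc => by rw [hv j hc.1] at hc; exact Bool.false_ne_true hc.2
    · push Not at hv
      obtain ⟨j, hj1, hj2⟩ := hv
      refine (prod_eq_zero (mem_univ j) ?_).symm
      rw [lv, if_pos ⟨hj1, by simpa using hj2⟩]
  rw [← e]
  refine le_trans (Nat.cast_le.2 (Nat.card_le_card_of_injective
    (fun x => (⟨x.1, x.2.1, x.2.2.1, mem_filter.2 ⟨mem_univ _, fun j hj => ?_⟩⟩ :
      {x : Code F n // cWt x = n ∧ CCond x ∧ cbOf x ∈ S})) fun x y h => Subtype.ext (congrArg Subtype.val h :)))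
    (card_codes_le n S)
  unfold prevOf
  split_ifs with h0
  · by_contra hp
    have := x.2.2.2 (Bool.eq_true_of_not_eq_false hp) j h0
    rw [show x.1.2.2 j = true from hj] at this
    exact Bool.false_ne_true this.symm
  · obtain ⟨h1, -⟩ := x.2.2.1 j hj
    simp only [cbOf, ne_eq, decide_eq_false_iff_not, not_not]
    have e := h1 ⟨(j : ℕ) - 1, by omega⟩ (by show (j : ℕ) - 1 + 1 = (j : ℕ); omega)
    simp [Fin.val_eq_zero_iff.1 e]

/-- codes without nodes -/
theorem card_nonode_le (n : ℕ) :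
    (Nat.card {x : Code F n // cWt x = n ∧ CCond x ∧ cbOf x = fun _ => (0, false)} : ℝ) ≤
      (Fintype.card F : ℝ) ^ n * (gSum n 0).2.2 := by
  classical
  haveI : ∀ d, Finite (SPoly F d) := fun d => (card_SPoly_le d).1
  have hg : ∀ L j, (gSum L j).2.2 = ∏ i ∈ range L, eF (j + i) * tF (j + i) := by
    intro L
    induction L with
    | zero => intro j; simp [gSum]
    | succ L ih =>
      intro j
      rw [prod_range_succ', gSum]
      simp only [ih, add_zero]
      rw [mul_comm _ (eF j * tF j)]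
      congr 1
      refine prod_congr rfl fun i _ => ?_
      rw [show j + 1 + i = j + (i + 1) by omega]
  have e : (gSum n 0).2.2 = ∏ j : Fin n, lw j (((fun _ => (0, false)) : Fin n → Fin 3 × Bool) j) := by
    rw [hg, ← Fin.prod_univ_eq_prod_range (fun i => eF (0 + i) * tF (0 + i))]
    simp [lw]
  rw [e, ← sum_singleton (fun cb : Fin n → Fin 3 × Bool => ∏ j : Fin n, lw j (cb j)) (fun _ => (0, false))]
  refine le_trans (Nat.cast_le.2 (Nat.card_le_card_of_injective
    (fun x => (⟨x.1, x.2.1, x.2.2.1, mem_singleton.2 x.2.2.2⟩ :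
      {x : Code F n // cWt x = n ∧ CCond x ∧ cbOf x ∈ ({fun _ => (0, false)} : Finset _)}))
      fun x y h => Subtype.ext (congrArg Subtype.val h :)))
    (card_codes_le n _)

end Cfsg.Agent.CN9.Two
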