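import Cfsg.Agent.ClassNum9.Iso.Decomp

/-!
Regular pieces exist on invariant subspaces without eigenvalue `±1`, in any characteristic.
-/

set_option autoImplicit false

namespace Cfsg.Agent.CN9.Two

open Polynomial Module Cfsg.Agent.GLSemi

universe u v

variable {F : Type u} [Field F] {V : Type v} [AddCommGroup V] [Module F V] [FiniteDimensional F V]
variable {δ : F} {B : LinearMap.BilinForm F V} {g : V ≃ₗ[F] V}

/-- splitting off a regular piece -/
theorem exists_piece_reg (h : FormAut δ B g) {U : Submodule F V} (hU : ∀ x ∈ U, g x ∈ U)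
    (hnd : NdOn B U) (hne : U ≠ ⊥)
    (hfree : ∀ s : F, (s = 1 ∨ s = -1) → ∀ x ∈ U, g x = s • x → x = 0) :
    ∃ (W : Submodule F V) (z : (F[X] × ℕ) × Bool), W ≤ U ∧ W ≠ ⊥ ∧ 1 ≤ z.1.2 ∧ IsReg z.1.1 ∧
      ∃ v, IsCyc B g W (z.1.1 ^ z.1.2) v := by
  classical
  obtain ⟨μ, hμ, hμU, hμmin⟩ := exists_annihilator h hU hnd
  have hdeg : 0 < μ.natDegree := by
    by_contra h0
    have h1 := hμ.1.natDegree_eq_zero.1 (Nat.le_zero.1 (not_lt.1 h0))
    refine hne ((Submodule.eq_bot_iff _).2 fun x hx => ?_)
    simpa [h1] using hμU x hx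
  obtain ⟨f, hfm, hfi, hfμ⟩ := Polynomial.exists_monic_irreducible_factor μ
    (fun hu => by have := natDegree_eq_zero_of_isUnit hu; omega)
  have hf0 := coeff_zero_ne_of_dvd hfμ hμ.2.1
  obtain ⟨m, hm, hmf⟩ := (FiniteMultiplicity.of_prime_left hfi.prime hμ.1.ne_zero).exists_eq_pow_mul_and_not_dvd
  set e := multiplicity f μ with he_def
  have he : 1 ≤ e := by
    by_contra h0
    rw [show e = 0 by omega, pow_zero, one_mul] at hm
    exact hmf (hm ▸ hfμ)
  have hm0 : m ≠ 0 := fun h0 => hμ.1.ne_zero (by rw [hm, h0, mul_zero])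
  obtain ⟨v0, hv0U, hv0⟩ : ∃ v0 ∈ U, pev g (f ^ (e - 1) * m) v0 ≠ 0 := by
    by_contra hc
    push Not at hc
    have h1 := hμmin _ hc
    have hee : f ^ e = f * f ^ (e - 1) := by rw [← pow_succ']; congr 1; omega
    rw [hm, hee, mul_assoc] at h1
    obtain ⟨c, hc⟩ := h1
    have hne0 : f ^ (e - 1) * m ≠ 0 := mul_ne_zero (pow_ne_zero _ hfi.ne_zero) hm0
    have : f * c = 1 := mul_left_cancel₀ hne0 (by rw [mul_one]; linear_combination -hc)
    exact hfi.not_isUnit (IsUnit.of_mul_eq_one c this)
  set v1 := pev g m v0 with hv1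
  have hv1U : v1 ∈ U := pev_mem hU _ _ hv0U
  have hv1k : pev g (f ^ e) v1 = 0 := by rw [hv1, ← pev_mul, ← hm, hμU _ hv0U]
  have hv1z : pev g (f ^ (e - 1)) v1 ≠ 0 := by rwa [hv1, ← pev_mul]
  by_cases hd : dual (RingHom.id F) f = f
  · -- the self-dual component
    have hfs : SelfDual f := ⟨hfm, hf0, hd⟩
    let U1 : Submodule F V := U ⊓ LinearMap.ker (pev g (f ^ e))
    have hU1 : ∀ x ∈ U1, g x ∈ U1 := fun x hx => ⟨hU x hx.1, by
      show pev g (f ^ e) (g x) = 0
      rw [← pev_X g, pev_comm, show pev g (f ^ e) x = 0 from hx.2, map_zero]⟩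
    have hnd1 : NdOn B U1 := by
      intro x hx hxy
      refine hnd x hx.1 fun y hy => ?_
      obtain ⟨a, b, hab⟩ := ((hfi.coprime_iff_not_dvd.2 hmf).pow_left (m := e))
      have h1 : y = pev g (f ^ e) (pev g a y) + pev g (b * m) y := by
        rw [← pev_mul, ← LinearMap.add_apply, ← map_add, mul_comm (f ^ e) a, hab]; simp
      have hx0 : pev g (f ^ e) x = 0 := hx.2
      have h2' : B x (pev g (f ^ e) (pev g a y)) = 0 := by
        have h3 := h.adjoint_reverse (f ^ e) x (pev g a y)
        rw [hx0, (hfs.pow e).reverse_eq, pev_mul, pev_C, map_smul, map_zero, LinearMap.zero_apply, smul_eq_mul] at h3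
        exact (mul_eq_zero.1 h3.symm).resolve_left (hfs.pow e).2.1
      have h3 : B x (pev g (b * m) y) = 0 := hxy _ ⟨pev_mem hU _ _ hy, by
        show pev g (f ^ e) (pev g (b * m) y) = 0
        rw [← pev_mul, show f ^ e * (b * m) = b * μ by rw [hm]; ring, pev_mul, hμU y hy, map_zero]⟩
      rw [h1, map_add, h2', h3, add_zero]
    have hv1' : v1 ∈ U1 := ⟨hv1U, hv1k⟩
    by_cases hpm : f.eval 1 ≠ 0 ∧ f.eval (-1) ≠ 0
    · -- away from `±1`
      obtain ⟨v, hvU, r0, hr0⟩ : ∃ v ∈ U1, ∃ r0, B v (pev g (f ^ (e - 1) * r0) v) ≠ 0 := by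
        by_contra hc
        push Not at hc
        have hpol : ∀ x ∈ U1, ∀ y ∈ U1, ∀ r, B x (pev g (f ^ (e - 1) * r) y) + B y (pev g (f ^ (e - 1) * r) x) = 0 := by
          intro x hx y hy r
          have h1 := hc (x + y) (U1.add_mem hx hy) r
          simp only [map_add, LinearMap.add_apply, hc x hx r, hc y hy r, add_zero, zero_add] at h1
          linear_combination h1
        set d := (f ^ (e - 1)).natDegree
        set c := (f ^ (e - 1)).coeff 0
        set w := v1
        set z := pev g (f ^ (e - 1)) w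
        have hkey : ∀ r, pev g r (pev g (X ^ d) z) + (δ * c) • pev' g r z = 0 := by
          intro r
          have hrev : pev' g (f ^ (e - 1)) (pev g (X ^ d) w) = c • z := by
            rw [← pev_reverse, (hfs.pow (e - 1)).reverse_eq, pev_mul, pev_C]
          have hmem : pev g r (pev g (X ^ d) z) + (δ * c) • pev' g r z ∈ U1 := by
            refine U1.add_mem (pev_mem hU1 _ _ (pev_mem hU1 _ _ (pev_mem hU1 _ _ hv1'))) (U1.smul_mem _ ?_)
            have hs : ∀ x ∈ U1, g.symm x ∈ U1 := by
              intro x hx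
              have : U1.map (g : V →ₗ[F] V) = U1 := by
                refine Submodule.eq_of_le_of_finrank_eq ?_ (LinearEquiv.finrank_map_eq g U1)
                rintro _ ⟨a, ha, rfl⟩
                exact hU1 a ha
              rw [← this] at hx
              obtain ⟨a, ha, rfl⟩ := hx
              rwa [LinearEquiv.coe_coe, g.symm_apply_apply]
            exact pev_mem (g := g.symm) hs _ _ (pev_mem hU1 _ _ hv1')
          refine hnd1 _ hmem fun x hx => ?_
          have h1 := hpol x hx (pev g (X ^ d) w) (pev_mem hU1 _ _ hv1') r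
          rw [h.symm (pev g (X ^ d) w), h.adjoint, mul_comm (f ^ (e - 1)) r, map_mul (pev' g),
            Module.End.mul_apply, hrev, map_smul, map_smul, pev_mul, pev_comm g (f ^ (e - 1)), smul_eq_mul,
            ← mul_assoc] at h1
          rw [h.symm, map_add, map_smul, smul_eq_mul, h1, mul_zero]
        have h1 := hkey 1
        simp only [map_one, Module.End.one_apply] at h1
        have hX := hkey X
        rw [eq_neg_of_add_eq_zero_left h1, pev_X, map_neg, map_smul,
          show pev' g X z = g.symm z by simp [pev'], neg_add_eq_sub, ← smul_sub, smul_eq_zero, sub_eq_zero] at hX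
        have hgz : g.symm z = g z := hX.resolve_left (mul_ne_zero h.sign_ne (hfs.pow _).2.1)
        have hq : pev g ((X - C 1) * (X - C (-1))) z = 0 := by
          have e1 : g (g z) = z := by rw [← hgz, g.apply_symm_apply]
          rw [pev_mul, map_sub (pev g) X (C (-1)), LinearMap.sub_apply, pev_X, pev_C, map_sub (pev g) X (C 1),
            LinearMap.sub_apply, pev_X, pev_C, map_sub g, map_smul, e1]
          module
        have hfz : pev g f z = 0 := by
          rw [← pev_mul, ← pow_succ', show e - 1 + 1 = e by omega]; exact hv1k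
        obtain ⟨a, b, hab⟩ : IsCoprime f ((X - C 1) * (X - C (-1))) :=
          IsCoprime.mul_right ((irreducible_X_sub_C (1 : F)).coprime_iff_not_dvd.2
            fun hh => hpm.1 (dvd_iff_isRoot.1 hh)).symm
            ((irreducible_X_sub_C (-1 : F)).coprime_iff_not_dvd.2 fun hh => hpm.2 (dvd_iff_isRoot.1 hh)).symm
        refine hv1z ?_
        calc z = pev g (a * f + b * ((X - C 1) * (X - C (-1)))) z := by rw [hab]; simp
          _ = 0 := by rw [map_add, LinearMap.add_apply, pev_mul, hfz, pev_mul g b, hq, map_zero, map_zero, add_zero]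
      have hv : IsCyc B g (cycSpan g v) (f ^ e) v := isCyc_irreducible h hfi hvU.2 hr0
      refine ⟨_, ((f, e), false), (cycSpan_le hU hvU.1), ?_, he, ⟨hfs, hpm.1, hpm.2, Or.inl hfi⟩, v, hv⟩
      intro hb
      have : v = 0 := by
        have hmem : v ∈ cycSpan g v := ⟨1, by simp⟩
        rwa [hb, Submodule.mem_bot] at hmem
      exact hr0 (by rw [this]; simp)
    · -- at `±1` there are no eigenvectors
      obtain ⟨s, hs, rfl⟩ : ∃ s : F, (s = 1 ∨ s = -1) ∧ f = X - C s := by
        obtain ⟨s, hs, hroot⟩ : ∃ s : F, (s = 1 ∨ s = -1) ∧ f.eval s = 0 := by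
          by_cases h1 : f.eval 1 = 0
          · exact ⟨1, Or.inl rfl, h1⟩
          · exact ⟨-1, Or.inr rfl, not_not.1 fun h' => hpm ⟨h1, h'⟩⟩
        exact ⟨s, hs, eq_of_monic_of_associated hfm (monic_X_sub_C s)
          (((irreducible_X_sub_C s).associated_of_dvd hfi (dvd_iff_isRoot.2 hroot)).symm)⟩
      refine absurd (hfree s hs _ (pev_mem hU _ _ hv1U) ?_) hv1z
      have h0 : pev g (X - C s) (pev g ((X - C s) ^ (e - 1)) v1) = 0 := by
        rw [← pev_mul, ← pow_succ', show e - 1 + 1 = e by omega, hv1k]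
      rwa [map_sub, LinearMap.sub_apply, pev_X, pev_C, sub_eq_zero] at h0
  · -- a pair of dual components
    set f' := dual (RingHom.id F) f with hf'
    have hσ2 : ∀ a, RingHom.id F (RingHom.id F a) = a := fun a => rfl
    have hf'i : Irreducible f' := irreducible_dual _ hσ2 hfi hfm hf0
    have hf'm : f'.Monic := monic_dual _ hf0
    have hf'0 : f'.coeff 0 ≠ 0 := by rw [hf', coeff_zero_dual _ hfm]; simpa using hf0
    have hf'' : dual (RingHom.id F) f' = f := dual_dual _ hσ2 hfm hf0
    have hdpow : ∀ (P : F[X]) (i : ℕ), dual (RingHom.id F) (P ^ i) = dual (RingHom.id F) P ^ i := fun P i => by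
      induction i with
      | zero => rw [pow_zero, pow_zero, selfDual_one.2.2]
      | succ i ih => rw [pow_succ, pow_succ, dual_mul, ih]
    have hco : IsCoprime f f' := hfi.coprime_iff_not_dvd.mpr fun hdvd =>
      hd (eq_of_monic_of_associated hfm hf'm (hfi.associated_of_dvd hf'i hdvd)).symm
    obtain ⟨m', hm'⟩ : f' ^ e ∣ m := by
      refine (IsCoprime.pow hco.symm).dvd_of_dvd_mul_left (?_ : f' ^ e ∣ f ^ e * m)
      rw [← hm, ← hμ.2.2, hm, dual_mul, hdpow]
      exact dvd_mul_right _ _
    have hm'd : dual (RingHom.id F) m' = m' := by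
      have h1 := hμ.2.2
      rw [hm, hm', dual_mul, dual_mul, hdpow, hdpow, ← hf', hf''] at h1
      refine mul_left_cancel₀ (mul_ne_zero (pow_ne_zero e hfi.ne_zero) (pow_ne_zero e hf'i.ne_zero)) ?_
      linear_combination h1
    have hm'f : ¬ f ∣ m' := fun hh => hmf (hm' ▸ dvd_mul_of_dvd_right hh _)
    have hm'f' : ¬ f' ∣ m' := fun hh => hm'f (by
      have := dual_dvd (RingHom.id F) hh
      rwa [hf'', hm'd] at this)
    have hq : ∀ y, pev g (X ^ (f ^ e).natDegree) y = 0 → y = 0 := fun y hy => by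
      have : ∀ k : ℕ, ∀ y, pev g (X ^ k) y = 0 → y = 0 := by
        intro k
        induction k with
        | zero => intro y hy; simpa using hy
        | succ k ih => intro y hy; rw [pow_succ, pev_mul, pev_X] at hy; exact g.map_eq_zero_iff.1 (ih _ hy)
      exact this _ y hy
    -- the component of `f` is orthogonal to itself and to everything prime to `f'`
    have horth : ∀ x, pev g (f ^ e) x = 0 → ∀ y, B x (pev g (f' ^ e) y) = 0 := by
      intro x hx y
      have h3 := h.adjoint_reverse (f ^ e) x y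
      rw [hx, map_zero, LinearMap.zero_apply] at h3
      have hrev : (f ^ e).reverse = C ((f ^ e).coeff 0) * f' ^ e := by
        rw [hf', ← hdpow, dual, RingHom.id_apply, Polynomial.map_id, ← mul_assoc, ← C_mul, mul_inv_cancel₀, C_1,
          one_mul]
        rw [coeff_zero_eq_eval_zero, eval_pow, ← coeff_zero_eq_eval_zero]; exact pow_ne_zero _ hf0
      rw [hrev, pev_mul, pev_C, map_smul, smul_eq_mul] at h3
      refine (mul_eq_zero.1 h3.symm).resolve_left ?_
      rw [coeff_zero_eq_eval_zero, eval_pow, ← coeff_zero_eq_eval_zero]; exact pow_ne_zero _ hf0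
    obtain ⟨y, hyU, hy⟩ : ∃ y ∈ U, B (pev g (f ^ (e - 1)) v1) y ≠ 0 := by
      by_contra hc
      push Not at hc
      exact hv1z (hnd _ (pev_mem hU _ _ hv1U) hc)
    obtain ⟨a, b, hab⟩ : IsCoprime (f' ^ e) (f ^ e * m') :=
      (IsCoprime.pow hco.symm).mul_right ((hf'i.coprime_iff_not_dvd.2 hm'f').pow_left)
    set w := pev g (b * (f ^ e * m')) y with hw
    have hwU : w ∈ U := pev_mem hU _ _ hyU
    have hwk : pev g (f' ^ e) w = 0 := by
      rw [hw, ← pev_mul, show f' ^ e * (b * (f ^ e * m')) = b * μ by rw [hm, hm']; ring, pev_mul, hμU y hyU,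
        map_zero]
    have hz1k : pev g (f ^ e) (pev g (f ^ (e - 1)) v1) = 0 := by rw [pev_comm, hv1k, map_zero]
    have hzw : B (pev g (f ^ (e - 1)) v1) w ≠ 0 := by
      intro h0
      refine hy ?_
      have hy' : y = pev g (f' ^ e) (pev g a y) + w := by
        rw [hw, ← pev_mul, ← LinearMap.add_apply, ← map_add, mul_comm (f' ^ e) a, hab]; simp
      rw [hy', map_add, h0, add_zero]
      exact horth _ hz1k _
    set u := v1 + w with hu
    set P := f * f' with hP
    have hPs : SelfDual P := ⟨hfm.mul hf'm, by rw [hP, mul_coeff_zero]; exact mul_ne_zero hf0 hf'0, by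
      rw [hP, dual_mul, hf'', ← hf', mul_comm]⟩
    have huk : pev g (P ^ e) u = 0 := by
      rw [hu, map_add, hP, mul_pow, pev_mul g (f ^ e), pev_mul g (f ^ e), pev_comm g (f ^ e) (f' ^ e) v1, hv1k,
        hwk, map_zero, map_zero, add_zero]
    obtain ⟨a', b', hab'⟩ : IsCoprime (f' ^ e) (f ^ e) := IsCoprime.pow hco.symm
    have hself : ∀ x, pev g (f ^ e) x = 0 → ∀ x', pev g (f ^ e) x' = 0 → B x x' = 0 := by
      intro x hx x' hx'
      have : x' = pev g (f' ^ e) (pev g a' x') := by
        conv_lhs => rw [show x' = pev g (a' * f' ^ e + b' * f ^ e) x' by rw [hab']; simp]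
        rw [map_add, LinearMap.add_apply, pev_mul g b', hx', map_zero, add_zero, mul_comm, pev_mul]
      rw [this]; exact horth x hx _
    have hsoc : B u (pev g (f ^ (e - 1) * f' ^ e * a') u) ≠ 0 := by
      have e1 : pev g (f ^ (e - 1) * f' ^ e * a') u = pev g (f ^ (e - 1)) v1 := by
        rw [hu, map_add]
        have h1 : pev g (f ^ (e - 1) * f' ^ e * a') w = 0 := by
          rw [show f ^ (e - 1) * f' ^ e * a' = f ^ (e - 1) * a' * f' ^ e by ring, pev_mul, hwk, map_zero]
        have h2' : pev g (f ^ (e - 1) * f' ^ e * a') v1 = pev g (f ^ (e - 1)) v1 := by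
          have e2 : f ^ (e - 1) * f' ^ e * a' = f ^ (e - 1) - f ^ (e - 1) * b' * f ^ e := by
            linear_combination (f ^ (e - 1)) * hab'
          rw [e2, map_sub, LinearMap.sub_apply, pev_mul g (f ^ (e - 1) * b'), hv1k, map_zero, sub_zero]
        rw [h1, h2', add_zero]
      rw [e1, hu, map_add, LinearMap.add_apply, hself v1 hv1k _ hz1k, zero_add, h.symm]
      exact mul_ne_zero h.sign_ne hzw
    have hcy : IsCyc B g (cycSpan g u) (P ^ e) u := by
      refine ⟨fun p => ⟨p, rfl⟩, fun x hx => hx, huk, fun p hp => ?_⟩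
      rw [hP, mul_pow]
      have key : ∀ q : F[X], (∀ r, B u (pev g (q * r) u) = 0) → f ^ e ∣ q := by
        intro q hq
        by_contra hnd'
        obtain ⟨r, hr⟩ := exists_socle (Q := f') hfi e hnd'
        refine hsoc ?_
        have hmk : AdjoinRoot.mk (P ^ e) (q * r * a') = AdjoinRoot.mk (P ^ e) (f ^ (e - 1) * f' ^ e * a') := by
          rw [map_mul, hP, hr, ← map_mul]
        rw [← pev_congr huk hmk, mul_assoc]
        exact hq _
      refine (IsCoprime.pow hco).mul_dvd (key p hp) ?_
      by_contra hnd'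
      obtain ⟨r, hr⟩ := exists_socle (Q := f) hf'i e hnd'
      -- the other socle is moved by duality
      set q := f' ^ (e - 1) * f ^ e with hqdef
      have hq' : ∀ r', B u (pev g (q * r') u) = 0 := fun r' => by
        have hmk : AdjoinRoot.mk (P ^ e) (p * r * r') = AdjoinRoot.mk (P ^ e) (q * r') := by
          rw [mul_comm f' f, ← hP] at hr
          rw [map_mul, hr, ← map_mul]
        rw [← pev_congr huk hmk, mul_assoc]
        exact hp _
      have hq0 : q.coeff 0 ≠ 0 := by
        rw [hqdef, mul_coeff_zero, coeff_zero_eq_eval_zero, coeff_zero_eq_eval_zero, eval_pow, eval_pow,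
          ← coeff_zero_eq_eval_zero, ← coeff_zero_eq_eval_zero]
        exact mul_ne_zero (pow_ne_zero _ hf'0) (pow_ne_zero _ hf0)
      have h4 := h.dual_socle (hPs.pow e) huk hq0 hq' a'
      rw [hqdef, dual_mul, hdpow, hdpow, hf'', ← hf'] at h4
      exact hsoc h4
    have hev : ∀ s : F, (s = 1 ∨ s = -1) → f.eval s ≠ 0 ∧ f'.eval s ≠ 0 := by
      intro s hs
      have hss := (selfDual_X_sub_C hs).2.2
      constructor
      · intro h0
        refine hd ?_
        rw [eq_of_monic_of_associated hfm (monic_X_sub_C s)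
          (((irreducible_X_sub_C s).associated_of_dvd hfi (dvd_iff_isRoot.2 h0)).symm), hf',
          eq_of_monic_of_associated hfm (monic_X_sub_C s)
          (((irreducible_X_sub_C s).associated_of_dvd hfi (dvd_iff_isRoot.2 h0)).symm), hss]
      · intro h0
        have h1 := eq_of_monic_of_associated hf'm (monic_X_sub_C s)
          (((irreducible_X_sub_C s).associated_of_dvd hf'i (dvd_iff_isRoot.2 h0)).symm)
        exact hd (by rw [h1, ← hf'', h1, hss])
    refine ⟨_, ((P, e), false), cycSpan_le hU (U.add_mem hv1U hwU), ?_, he, ⟨hPs, ?_, ?_,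
      Or.inr ⟨f, hfi, hfm, hf0, hd, rfl⟩⟩, u, hcy⟩
    · intro hb
      have : u = 0 := by
        have hmem : u ∈ cycSpan g u := ⟨1, by simp⟩
        rwa [hb, Submodule.mem_bot] at hmem
      exact hsoc (by rw [this]; simp)
    · rw [hP, eval_mul]; exact mul_ne_zero (hev 1 (Or.inl rfl)).1 (hev 1 (Or.inl rfl)).2
    · rw [hP, eval_mul]; exact mul_ne_zero (hev (-1) (Or.inr rfl)).1 (hev (-1) (Or.inr rfl)).2

end Cfsg.Agent.CN9.Two
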