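import Cfsg.Agent.ClassNum9.Two.Piece
import Cfsg.Agent.ClassNum9.Two.RegPiece

/-!
Orthogonal decompositions in characteristic two.
-/

set_option autoImplicit false

namespace Cfsg.Agent.CN9.Two

open Polynomial Module Cfsg.Agent.GLSemi

universe u v w

/-- labels of pieces -/
inductive Lab (F : Type u) [Field F] : Type u
  | reg (P : F[X]) (e : ℕ) : Lab F
  | pv (k : ℕ) (b : Bool) : Lab F
  | pw (m : ℕ) (b : Bool) : Lab F

variable {F : Type u} [Field F] {V : Type v} [AddCommGroup V] [Module F V]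
variable {V' : Type w} [AddCommGroup V'] [Module F V']

/-- the dimension of a label -/
noncomputable def Lab.dim : Lab F → ℕ
  | .reg P e => e * P.natDegree
  | .pv k _ => 2 * k
  | .pw m _ => 2 * m

/-- the conditions on a label -/
def Lab.Valid : Lab F → Prop
  | .reg P e => 1 ≤ e ∧ IsReg P
  | .pv k _ => 1 ≤ k
  | .pw m b => 1 ≤ m ∧ (b = true → Odd m)

/-- pieces -/
def IsPc (B : LinearMap.BilinForm F V) (Q : V → F) (g : V ≃ₗ[F] V) (W : Submodule F V) : Lab F → Prop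
  | .reg P e => 1 ≤ e ∧ IsReg P ∧ ∃ v, IsCyc B g W (P ^ e) v
  | .pv k b => ∃ x, IsV B Q g k b x ∧ W = spanT g (2 * k) ![x]
  | .pw m b => ∃ x y, IsW B Q g m b x y ∧ W = spanT g m ![x, y]

/-- decompositions -/
inductive Dec (B : LinearMap.BilinForm F V) (Q : V → F) (g : V ≃ₗ[F] V) :
    Submodule F V → Multiset (Lab F) → Prop
  | zero : Dec B Q g ⊥ 0
  | cons {U W : Submodule F V} {z : Lab F} {M : Multiset (Lab F)}
      (hW : IsPc B Q g W z) (hle : W ≤ U) (hM : Dec B Q g (U ⊓ perp' B W) M) : Dec B Q g U (z ::ₘ M)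

variable {B : LinearMap.BilinForm F V} {Q : V → F} {g : V ≃ₗ[F] V}
variable {B' : LinearMap.BilinForm F V'} {Q' : V' → F} {g' : V' ≃ₗ[F] V'}

theorem IsPc.valid {W : Submodule F V} {z : Lab F} (hW : IsPc B Q g W z) : z.Valid := by
  rcases z with ⟨P, e⟩ | ⟨k, b⟩ | ⟨m, b⟩
  · exact ⟨hW.1, hW.2.1⟩
  · obtain ⟨x, hx, -⟩ := hW; exact hx.1
  · obtain ⟨x, y, hx, -⟩ := hW
    exact ⟨hx.1, fun hb => (hx.2.2.2.2.2.2.1 hb).1⟩

theorem Dec.valid {U : Submodule F V} {M : Multiset (Lab F)} (hM : Dec B Q g U M) : ∀ z ∈ M, z.Valid := by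
  induction hM with
  | zero => simp
  | cons hW _ _ ih => intro z hz; rcases Multiset.mem_cons.1 hz with rfl | hz <;> [exact hW.valid; exact ih z hz]

variable [CharP F 2]

variable (h : QAut B Q g)
include h

theorem QAut.reg_piece [FiniteDimensional F V] {W : Submodule F V} {P : F[X]} {e : ℕ} (hP : IsReg P) {v : V}
    (hW : IsCyc B g W (P ^ e) v) :
    (∀ x ∈ W, g x ∈ W) ∧ NdOn B W ∧ finrank F W = e * P.natDegree ∧ ∀ x ∈ W, ∃ y ∈ W, nT g y = x := by
  have hQ := hP.1.pow e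
  obtain ⟨τ, hτr, hττ⟩ := exists_bar hQ
  obtain ⟨ρ, φ, hinj, hr, hnd, hpair, hg, hsym, -⟩ := hW.model h.formAut hQ hτr
  subst hr
  refine ⟨?_, ?_, ?_, ?_⟩
  · rintro _ ⟨a, rfl⟩; exact ⟨_, (hg a).symm⟩
  · rintro _ ⟨a, rfl⟩ hx
    have : τ a = 0 := hnd _ fun b => by rw [← hpair]; exact hx _ ⟨b, rfl⟩
    rw [← hττ a, this, _root_.map_zero, _root_.map_zero]
  · rw [LinearMap.finrank_range_of_inj hinj, (AdjoinRoot.powerBasis' hQ.1).finrank, AdjoinRoot.powerBasis'_dim,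
      natDegree_pow]
  · rintro _ ⟨a, rfl⟩
    obtain ⟨c, hc⟩ := (isUnit_mk_X_sub_C hP.2.1 e).exists_right_inv
    refine ⟨ρ (c * a), ⟨_, rfl⟩, ?_⟩
    rw [map_sub, AdjoinRoot.mk_X, AdjoinRoot.mk_C, _root_.map_one] at hc
    rw [nT_apply, hg, ← _root_.map_sub]
    congr 1
    linear_combination a * hc

theorem QAut.perp_symm {W : Submodule F V} {x : V} (hx : x ∈ perp' B W) {w : V} (hw : w ∈ W) : B x w = 0 := by
  rw [h.symm]; exact hx w hw

theorem Dec.front {U : Submodule F V} {M : Multiset (Lab F)} (hM : Dec B Q g U M) {z : Lab F} (hz : z ∈ M) :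
    ∃ (W : Submodule F V) (M' : Multiset (Lab F)), IsPc B Q g W z ∧ W ≤ U ∧
      z ::ₘ M' = M ∧ Dec B Q g (U ⊓ perp' B W) M' := by
  induction hM with
  | zero => simp at hz
  | @cons U W0 z0 M hW hle hM ih =>
    by_cases he : z = z0
    · subst he; exact ⟨W0, M, hW, hle, rfl, hM⟩
    · obtain ⟨W, M', hWp, hWle, hM', hd⟩ := ih ((Multiset.mem_cons.1 hz).resolve_left he)
      refine ⟨W, z0 ::ₘ M', hWp, hWle.trans inf_le_left, by rw [Multiset.cons_swap, hM'], Dec.cons hW ?_ ?_⟩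
      · exact le_inf hle fun x hx w hw => h.perp_symm (hWle hw).2 hx
      · rwa [inf_right_comm]

variable [FiniteDimensional F V]

theorem pc_props {W : Submodule F V} {z : Lab F} (hW : IsPc B Q g W z) :
    (∀ x ∈ W, g x ∈ W) ∧ NdOn B W ∧ finrank F W = z.dim := by
  rcases z with ⟨P, e⟩ | ⟨k, b⟩ | ⟨m, b⟩
  · obtain ⟨-, hP, v, hv⟩ := hW
    obtain ⟨a, b, c, -⟩ := h.reg_piece hP hv
    exact ⟨a, b, c⟩
  · obtain ⟨x, hx, rfl⟩ := hW
    exact ⟨fun w hw => spanT_inv (hx.sys h).kill hw, (hx.sys h).ndOn h, by simp [(hx.sys h).finrank h, Lab.dim]⟩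
  · obtain ⟨x, y, hx, rfl⟩ := hW
    exact ⟨fun w hw => spanT_inv (hx.sys h).kill hw, (hx.sys h).ndOn h, by simp [(hx.sys h).finrank h, Lab.dim]⟩

variable [Fintype F]

theorem pc_iso [FiniteDimensional F V'] (h' : QAut B' Q' g') {W : Submodule F V} {W' : Submodule F V'} {z : Lab F}
    (hW : IsPc B Q g W z) (hW' : IsPc B' Q' g' W' z) : IsoQ B Q g W B' Q' g' W' := by
  rcases z with ⟨P, e⟩ | ⟨k, b⟩ | ⟨m, b⟩
  · obtain ⟨he, hP, v, hv⟩ := hW
    obtain ⟨-, -, v', hv'⟩ := hW'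
    obtain ⟨f, hf, hfB, hfg⟩ := cyc_reg_iso h.formAut h'.formAut hP.1 hP.2.1 hP.2.2.1 e hv hv'
    obtain ⟨-, -, -, hsur⟩ := h.reg_piece hP hv
    refine ⟨f, hf, hfB, fun x hx => ?_, hfg⟩
    obtain ⟨y, hy, rfl⟩ := hsur x hx
    have e1 : f (nT g y) = nT g' (f y) := by rw [nT_apply, nT_apply, _root_.map_sub, hfg y hy]
    rw [e1, h'.q_nT, h.q_nT, ← e1, hfB _ hx _ hy]
  · obtain ⟨x, hx, rfl⟩ := hW
    obtain ⟨x', hx', rfl⟩ := hW'
    exact hx.iso h h' hx'
  · obtain ⟨x, y, hx, rfl⟩ := hW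
    obtain ⟨x', y', hx', rfl⟩ := hW'
    exact hx.iso h h' hx'

theorem dec_iso [FiniteDimensional F V'] (h' : QAut B' Q' g') {U : Submodule F V} {M : Multiset (Lab F)}
    (hM : Dec B Q g U M) :
    ∀ {U' : Submodule F V'}, (∀ x ∈ U, g x ∈ U) → NdOn B U → Dec B' Q' g' U' M → IsoQ B Q g U B' Q' g' U' := by
  induction hM with
  | zero =>
    intro U' _ _ hM'
    have hU' : U' = ⊥ := by
      generalize he : (0 : Multiset (Lab F)) = M0 at hM'
      cases hM' with
      | zero => rfl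
      | cons _ _ _ => exact absurd he.symm (Multiset.cons_ne_zero)
    subst hU'
    refine ⟨0, Submodule.map_bot _, fun x hx y _ => ?_, fun x hx => ?_, fun x _ => by simp⟩
    · rw [Submodule.mem_bot] at hx; simp [hx]
    · rw [Submodule.mem_bot] at hx; simp [hx, h.q0, h'.q0]
  | @cons U W z M hW hle hM ih =>
    intro U' hU hnd hM'
    obtain ⟨hWi, hWnd, -⟩ := pc_props h hW
    obtain ⟨W', M', hW', hle', hMM, hd'⟩ := hM'.front h' (Multiset.mem_cons_self z M)
    rw [Multiset.cons_inj_right] at hMM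
    subst hMM
    obtain ⟨-, hW'nd, -⟩ := pc_props h' hW'
    obtain ⟨hU1, hnd1, hdis, hsup⟩ := rest_props h.formAut hU hnd hle hWi hWnd
    obtain ⟨f1, hf1, hf1B, hf1Q, hf1g⟩ := pc_iso h h' hW hW'
    obtain ⟨f2, hf2, hf2B, hf2Q, hf2g⟩ := ih hU1 hnd1 hd'
    obtain ⟨π, hπ, hperp, hfix, hkill⟩ := exists_proj h.formAut hWnd
    have hmem : ∀ x ∈ U, x - π x ∈ U ⊓ perp' B W := fun x hx => ⟨U.sub_mem hx (hle (hπ x)), hperp x⟩
    have h1 : ∀ x, f1 (π x) ∈ W' := fun x => hf1 ▸ Submodule.mem_map_of_mem (hπ x)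
    have h3 : ∀ x ∈ U, f2 (x - π x) ∈ U' ⊓ perp' B' W' := fun x hx => hf2 ▸ Submodule.mem_map_of_mem (hmem x hx)
    refine ⟨f1.comp π + f2.comp (LinearMap.id - π), ?_, fun x hx y hy => ?_, fun x hx => ?_, fun x hx => ?_⟩
    · refine le_antisymm ?_ fun y hy => ?_
      · rintro _ ⟨x, hx, rfl⟩
        exact U'.add_mem (hle' (h1 x)) (h3 x hx).1
      · obtain ⟨π', hπ', hperp', -, -⟩ := exists_proj h'.formAut hW'nd
        obtain ⟨a, ha, hay⟩ : π' y ∈ W.map f1 := hf1.symm ▸ hπ' y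
        obtain ⟨c, hc, hcy⟩ : y - π' y ∈ (U ⊓ perp' B W).map f2 := by
          rw [hf2]; exact ⟨U'.sub_mem hy (hle' (hπ' y)), hperp' y⟩
        refine ⟨a + c, U.add_mem (hle ha) hc.1, ?_⟩
        have hπa : π (a + c) = a := by rw [_root_.map_add, hfix a ha, hkill c hc.2, add_zero]
        simp only [LinearMap.add_apply, LinearMap.comp_apply, LinearMap.sub_apply, LinearMap.id_apply, hπa,
          add_sub_cancel_left, hay, hcy, add_sub_cancel]
    · have e : ∀ x, x = π x + (x - π x) := fun x => (add_sub_cancel (π x) x).symm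
      simp only [LinearMap.add_apply, LinearMap.comp_apply, LinearMap.sub_apply, LinearMap.id_apply]
      rw [_root_.map_add, _root_.map_add, LinearMap.add_apply, LinearMap.add_apply, hf1B _ (hπ x) _ (hπ y),
        hf2B _ (hmem x hx) _ (hmem y hy)]
      have c1 : B' (f1 (π x)) (f2 (y - π y)) = 0 := (h3 y hy).2 _ (h1 x)
      have c2 : B' (f2 (x - π x)) (f1 (π y)) = 0 := h'.perp_symm (h3 x hx).2 (h1 y)
      rw [c1, c2]
      conv_rhs => rw [e x, e y, _root_.map_add, _root_.map_add, LinearMap.add_apply, LinearMap.add_apply]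
      have c3 : B (π x) (y - π y) = 0 := hperp y _ (hπ x)
      have c4 : B (x - π x) (π y) = 0 := h.perp_symm (hperp x) (hπ y)
      rw [c3, c4]
    · simp only [LinearMap.add_apply, LinearMap.comp_apply, LinearMap.sub_apply, LinearMap.id_apply]
      rw [h'.add, hf1Q _ (hπ x), hf2Q _ (hmem x hx), (h3 x hx).2 _ (h1 x)]
      conv_rhs => rw [← add_sub_cancel (π x) x, h.add, hperp x _ (hπ x)]
    · have hgπ : π (g x) = g (π x) := by
        conv_lhs => rw [← add_sub_cancel (π x) x, _root_.map_add g, _root_.map_add π, hfix _ (hWi _ (hπ x)),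
          hkill _ (map_perp h.formAut hWi (hperp x)), add_zero]
      simp only [LinearMap.add_apply, LinearMap.comp_apply, LinearMap.sub_apply, LinearMap.id_apply, hgπ,
        _root_.map_add]
      rw [hf1g _ (hπ x), ← _root_.map_sub g, hf2g _ (hmem x hx)]

omit [Fintype F] in
theorem dec_dim {U : Submodule F V} {M : Multiset (Lab F)} (hM : Dec B Q g U M) :
    (∀ x ∈ U, g x ∈ U) → NdOn B U → (M.map Lab.dim).sum = finrank F U := by
  induction hM with
  | zero => simp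
  | @cons U W z M hW hle hM ih =>
    intro hU hnd
    obtain ⟨hWi, hWnd, hdim⟩ := pc_props h hW
    obtain ⟨hU1, hnd1, hdis, hsup⟩ := rest_props h.formAut hU hnd hle hWi hWnd
    have h1 := Submodule.finrank_sup_add_finrank_inf_eq W (U ⊓ perp' B W)
    rw [hsup, hdis.eq_bot, finrank_bot, add_zero] at h1
    rw [Multiset.map_cons, Multiset.sum_cons, ih hU1 hnd1, h1, hdim]

omit [Fintype F] in
/-- splitting off a piece -/
theorem exists_pc {U : Submodule F V} (hU : ∀ x ∈ U, g x ∈ U) (hnd : NdOn B U) (hne : U ≠ ⊥) :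
    ∃ (W : Submodule F V) (z : Lab F), W ≤ U ∧ W ≠ ⊥ ∧ IsPc B Q g W z := by
  classical
  by_cases hfix : ∀ x ∈ U, g x = x → x = 0
  · obtain ⟨W, z, hle, hW0, he, hP, v, hv⟩ := exists_piece_reg h.formAut hU hnd hne fun s hs x hx hgx =>
      hfix x hx (by
        rw [hgx]
        rcases hs with rfl | rfl
        · rw [one_smul]
        · rw [CharTwo.neg_eq, one_smul])
    exact ⟨W, Lab.reg z.1.1 z.1.2, hle, hW0, he, hP, v, hv⟩
  push Not at hfix
  obtain ⟨x0, hx0U, hx0, hx00⟩ := hfix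
  let TU : Module.End F U := (nT g).restrict fun x hx => nT_mem hU hx
  have hpow : ∀ (j : ℕ) (x : U), (((TU ^ j) x : U) : V) = tp g j (x : V) := by
    intro j
    induction j with
    | zero => intro x; rfl
    | succ j ih =>
      intro x
      rw [pow_succ', Module.End.mul_apply, tp_succ, ← ih x]
      rfl
  obtain ⟨N, hN, hN1⟩ := (TU.eventually_isCompl_ker_pow_range_pow.and (Filter.eventually_ge_atTop 1)).exists
  let U1 : Submodule F V := U ⊓ LinearMap.ker (tp g N)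
  have hU1 : ∀ x ∈ U1, g x ∈ U1 := fun x hx => ⟨hU x hx.1, by
    show tp g N (g x) = 0
    have e : g x = nT g x + x := by rw [nT_apply, sub_add_cancel]
    rw [e, _root_.map_add, ← tp_one, tp_comm, show tp g N x = 0 from hx.2, _root_.map_zero, add_zero]⟩
  have hnd1 : NdOn B U1 := by
    intro x hx hxy
    refine hnd x hx.1 fun y hy => ?_
    obtain ⟨a, ha, b, ⟨c, rfl⟩, hab⟩ := Submodule.mem_sup.1
      (hN.sup_eq_top ▸ Submodule.mem_top : (⟨y, hy⟩ : U) ∈ LinearMap.ker (TU ^ N) ⊔ LinearMap.range (TU ^ N))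
    have hy' : y = (a : V) + tp g N (c : V) := by rw [← hpow, ← Submodule.coe_add, hab]
    have h0 : B x (tp g N (c : V)) = 0 :=
      h.pair_zero (show tp g N x = 0 from hx.2) 0 N (by omega)
    have h1 : B x (a : V) = 0 := hxy _ ⟨a.2, by
      show tp g N (a : V) = 0
      rw [← hpow, LinearMap.mem_ker.1 ha, Submodule.coe_zero]⟩
    rw [hy', _root_.map_add, h0, h1, add_zero]
  have hex : ∃ j, ∀ x ∈ U1, tp g j x = 0 := ⟨N, fun x hx => hx.2⟩
  set e := Nat.find hex with he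
  have hkill : ∀ x ∈ U1, tp g e x = 0 := Nat.find_spec hex
  have hx01 : x0 ∈ U1 := ⟨hx0U, tp_of_le g hN1 (by rw [tp_one, nT_apply, hx0, sub_self])⟩
  have he1 : 1 ≤ e := Nat.one_le_iff_ne_zero.2 fun h0 => hx00 (by
    have := hkill x0 hx01
    rwa [h0, tp_zero] at this)
  obtain ⟨z, hz, hz0⟩ : ∃ z ∈ U1, tp g (e - 1) z ≠ 0 := by
    have := Nat.find_min hex (show e - 1 < e by omega)
    push Not at this
    exact this
  obtain ⟨w, hw, hzw⟩ : ∃ w ∈ U1, B (tp g (e - 1) z) w ≠ 0 := by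
    by_contra hc
    push Not at hc
    exact hz0 (hnd1 _ (tp_mem hU1 _ hz) hc)
  by_cases hd : ∃ x ∈ U1, B (tp g (e - 1) x) x ≠ 0
  · obtain ⟨x, hx, hxx⟩ := hd
    have heven : Even e := by
      rw [← Nat.not_odd_iff_even]
      exact fun ho => hxx (h.top_odd (hkill x hx) ho)
    obtain ⟨k, hk⟩ := heven
    rw [← two_mul] at hk
    refine ⟨spanT g (2 * k) ![x], Lab.pv k _, spanT_le hU (fun i => by fin_cases i; exact hx.1), ?_,
      x, ⟨by omega, hk ▸ hkill x hx, hk ▸ hxx, rfl⟩, rfl⟩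
    intro hb
    have hm : x ∈ spanT g (2 * k) ![x] := tp_mem_spanT (x := ![x]) (fun i => by fin_cases i; exact hk ▸ hkill x hx) 0 0
    rw [hb, Submodule.mem_bot] at hm
    exact hxx (by rw [hm]; simp)
  · push Not at hd
    have hk : ∀ i, tp g e (![z, w] i) = 0 := fun i => by fin_cases i <;> [exact hkill z hz; exact hkill w hw]
    refine ⟨spanT g e ![z, w], Lab.pw e (decide (Odd e ∧ asB (Q (tp g ((e - 1) / 2) z) * Q (tp g ((e - 1) / 2) w) /
        (B (tp g (e - 1) z) w * B (tp g (e - 1) z) w)) = true)),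
      spanT_le hU (fun i => by fin_cases i <;> [exact hz.1; exact hw.1]), ?_,
      z, w, ⟨he1, hkill z hz, hkill w hw, hzw, hd z hz, hd w hw, by simp⟩, rfl⟩
    intro hb
    have hm : z ∈ spanT g e ![z, w] := tp_mem_spanT (x := ![z, w]) hk 0 0
    rw [hb, Submodule.mem_bot] at hm
    exact hz0 (by rw [hm]; simp)

omit [Fintype F] in
theorem exists_dec : ∀ (k : ℕ) (U : Submodule F V), finrank F U = k → (∀ x ∈ U, g x ∈ U) → NdOn B U →
    ∃ M, Dec B Q g U M := by
  intro k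
  induction k using Nat.strong_induction_on with
  | _ k ih =>
    intro U hk hU hnd
    by_cases hb : U = ⊥
    · subst hb; exact ⟨0, Dec.zero⟩
    obtain ⟨W, z, hle, hne, hW⟩ := exists_pc h hU hnd hb
    obtain ⟨hWi, hWnd, -⟩ := pc_props h hW
    obtain ⟨hU', hnd', hdis, hsup⟩ := rest_props h.formAut hU hnd hle hWi hWnd
    have hlt : finrank F ↥(U ⊓ perp' B W) < k := by
      have h1 := Submodule.finrank_sup_add_finrank_inf_eq W (U ⊓ perp' B W)
      rw [hsup, hdis.eq_bot, finrank_bot, add_zero, hk] at h1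
      have h0 : 0 < finrank F W := Nat.pos_of_ne_zero fun e => hne (Submodule.finrank_eq_zero.1 e)
      omega
    obtain ⟨M, hM⟩ := ih _ hlt _ rfl hU' hnd'
    exact ⟨z ::ₘ M, Dec.cons hW hle hM⟩

end Cfsg.Agent.CN9.Two
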