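import Cfsg.Agent.ClassNum9.Two.Replace

/-!
Moves between decompositions: flipping the bits of linked pieces, and trading three equal pieces.
-/

set_option autoImplicit false

namespace Cfsg.Agent.CN9.Two

open Polynomial Module Cfsg.Agent.GLSemi

universe u v

variable {F : Type u} [Field F] [CharP F 2] {V : Type v} [AddCommGroup V] [Module F V]
variable {B : LinearMap.BilinForm F V} {Q : V → F} {g : V ≃ₗ[F] V}
variable (h : QAut B Q g)
include h

theorem Sys.lead_facts {ι : Type} [Fintype ι] {N : ℕ} {x : ι → V} (hs : Sys B g N x) {w : V}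
    (hw : w ∈ spanT g N x) {j : ℕ} (hj : j ≤ N) (hz : ∀ i a, N - j ≤ a → B (tp g a (x i)) w = 0) :
    ∃ c : ι → F, (∀ p, N ≤ 2 * (p + j) + 1 → Q (tp g p w) = Q (tp g (p + j) (∑ i, c i • x i))) ∧
      (j < N → ∀ l, B (tp g (N - 1 - j) (x l)) w = ∑ i, c i * B (tp g (N - 1) (x l)) (x i)) ∧
      ∃ u ∈ spanT g N x, w = tp g j u := by
  obtain ⟨c, r, hr, he⟩ := hs.lead h hw j hj hz
  have hmem : ∑ i, c i • x i ∈ spanT g N x :=
    Submodule.sum_mem _ fun i _ => Submodule.smul_mem _ _ (tp_mem_spanT hs.kill i 0)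
  refine ⟨c, fun p hp => ?_, fun hjN l => by rw [he]; exact hs.pair_lead h hjN c hr l,
    _, add_mem hmem (tp_mem (fun v hv => spanT_inv hs.kill hv) 1 hr), ?_⟩
  · rw [he, _root_.map_add, ← tp_add, ← tp_add, h.add, h.q_zero (spanT_kill hs.kill hr) (by omega),
      h.pair_zero (spanT_kill hs.kill hmem) _ _ (by omega), add_zero, add_zero]
  · rw [he, _root_.map_add, ← tp_add]

theorem IsW.scaled_one [Finite F] {m : ℕ} {b : Bool} {x y : V} (hW : IsW B Q g m b x y) (ho : Odd m) :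
    ∃ x' ∈ spanT g m ![x, y], ∃ y' ∈ spanT g m ![x, y], tp g m x' = 0 ∧ tp g m y' = 0 ∧
      B (tp g (m - 1) x') y' = 1 ∧ Q (tp g ((m - 1) / 2) x') = 1 ∧ asB (Q (tp g ((m - 1) / 2) y')) = b := by
  obtain ⟨u, hu, v, hv, hW', ht, hval⟩ := hW.scaled h
  obtain ⟨hm, hu0, hv0, -, huu, hvv, -⟩ := hW'
  obtain ⟨h1, h2⟩ := hval ho
  cases b
  · obtain ⟨q1, q2⟩ := h2 rfl
    refine ⟨u + v, add_mem hu hv, v, hv, by rw [_root_.map_add, hu0, hv0, add_zero], hv0, ?_, ?_, ?_⟩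
    · rw [_root_.map_add, LinearMap.map_add₂, ht, hvv, add_zero]
    · obtain ⟨l, hl⟩ := ho
      rw [_root_.map_add, h.add, q1, q2, h.pair_top hu0 _ _ (by omega), ht]
      simp
    · rw [q2, asB_zero]
  · obtain ⟨q1, q2⟩ := h1 rfl
    exact ⟨u, hu, v, hv, hu0, hv0, ht, q1, by rw [q2, asB_asT]⟩

theorem isV_of {k : ℕ} {b : Bool} {x : V} (hk : 1 ≤ k) (hx : tp g (2 * k) x = 0)
    (ht : B (tp g (2 * k - 1) x) x = 1) (hb : asB (Q (tp g (k - 1) x)) = b) : IsV B Q g k b x :=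
  ⟨hk, hx, by rw [ht]; exact one_ne_zero, by rw [ht, div_one, hb]⟩

theorem isW_of {m : ℕ} {b : Bool} {x y : V} (ho : Odd m) (hx : tp g m x = 0) (hy : tp g m y = 0)
    (ht : B (tp g (m - 1) x) y = 1)
    (hb : asB (Q (tp g ((m - 1) / 2) x) * Q (tp g ((m - 1) / 2) y)) = b) : IsW B Q g m b x y := by
  refine ⟨by obtain ⟨l, hl⟩ := ho; omega, hx, hy, by rw [ht]; exact one_ne_zero, h.top_odd hx ho, h.top_odd hy ho, ?_⟩
  rw [ht, mul_one, div_one, hb]
  exact ⟨fun e => ⟨ho, e⟩, fun e => e.2⟩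

variable [Fintype F] [FiniteDimensional F V]

theorem exists_gen {X : Submodule F V} {z1 z2 : Lab F} (hX : Dec B Q g X {z1, z2}) :
    ∃ W1 W2 : Submodule F V, IsPc B Q g W1 z1 ∧ IsPc B Q g W2 z2 ∧ W1 ≤ X ∧ W2 ≤ X ∧
      ∀ a ∈ W1, ∀ b ∈ W2, B a b = 0 := by
  have hX' : Dec B Q g X (z1 ::ₘ z2 ::ₘ 0) := hX
  obtain ⟨W1, M1, hW1, hle1, hMM1, hd1⟩ := hX'.front h (Multiset.mem_cons_self _ _)
  rw [Multiset.cons_inj_right] at hMM1
  subst hMM1
  obtain ⟨W2, M2, hW2, hle2, -, -⟩ := hd1.front h (Multiset.mem_cons_self _ _)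
  exact ⟨W1, W2, hW1, hW2, hle1, hle2.trans inf_le_left, fun a ha b hb => (hle2 hb).2 a ha⟩

theorem flipVV {X : Submodule F V} (hXi : ∀ x ∈ X, g x ∈ X) (hXnd : NdOn B X) {k l : ℕ} {b1 b2 : Bool}
    (hkl : k = l ∨ k = l + 1) (hX : Dec B Q g X {Lab.pv k b1, Lab.pv l b2}) :
    Dec B Q g X {Lab.pv k (!b1), Lab.pv l (!b2)} := by
  have hdim := dec_dim h hX hXi hXnd
  simp [Lab.dim] at hdim
  obtain ⟨W1, W2, ⟨x0, hx0, rfl⟩, ⟨y0, hy0, rfl⟩, hle1, hle2, horth⟩ := exists_gen h hX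
  obtain ⟨x, hxm, hVx, htx, -⟩ := hx0.normal h
  obtain ⟨y, hym, hVy, hty, -⟩ := hy0.normal h
  obtain ⟨hk, hx, -, hbx⟩ := hVx
  obtain ⟨hl, hy, -, hby⟩ := hVy
  rw [htx, div_one] at hbx
  rw [hty, div_one] at hby
  set α := asRoot F
  set d := 1 + l - k with hd
  set z := α • tp g d y with hz
  have hi1 : ∀ v ∈ spanT g (2 * k) ![x0], g v ∈ spanT g (2 * k) ![x0] := fun v hv => spanT_inv (hx0.sys h).kill hv
  have hi2 : ∀ v ∈ spanT g (2 * l) ![y0], g v ∈ spanT g (2 * l) ![y0] := fun v hv => spanT_inv (hy0.sys h).kill hv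
  have hzm : z ∈ spanT g (2 * l) ![y0] := Submodule.smul_mem _ _ (tp_mem hi2 _ hym)
  have ho : ∀ a b, ∀ v ∈ spanT g (2 * l) ![y0], B (tp g a x) (tp g b v) = 0 ∧ B (tp g b v) (tp g a x) = 0 :=
    fun a b v hv => ⟨horth _ (tp_mem hi1 a hxm) _ (tp_mem hi2 b hv),
      by rw [h.symm]; exact horth _ (tp_mem hi1 a hxm) _ (tp_mem hi2 b hv)⟩
  set x' := x + z with hx'
  have hzy : ∀ a, tp g a z = α • tp g (a + d) y := fun a => by rw [hz, _root_.map_smul, ← tp_add]
  have hz0 : tp g (2 * k) z = 0 := by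
    rw [hzy, tp_of_le g (show 2 * l ≤ 2 * k + d by omega) hy, smul_zero]
  have ht' : B (tp g (2 * k - 1) x') x' = 1 := by
    have e1 : B (tp g (2 * k - 1) x) z = 0 := by simpa [tp_zero] using (ho (2 * k - 1) 0 z hzm).1
    have e2 : B (tp g (2 * k - 1) z) x = 0 := by simpa [tp_zero] using (ho 0 (2 * k - 1) z hzm).2
    have e3 : B (tp g (2 * k - 1) z) z = 0 := by
      have := hzy 0
      rw [tp_zero, zero_add] at this
      rw [hzy, this, LinearMap.map_smul₂, _root_.map_smul, h.pair_zero hy (2 * k - 1 + d) d (by omega)]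
      simp
    simp only [hx', _root_.map_add, LinearMap.add_apply, htx, e1, e2, e3, add_zero]
  have hV' : IsV B Q g k (!b1) x' := by
    refine isV_of h hk ?_ ht' ?_
    · rw [hx', _root_.map_add, hx, hz0, add_zero]
    · rw [hx', _root_.map_add, h.add, (ho _ _ z hzm).1, add_zero, hzy, h.smul,
        h.q_top hy (show 2 * (k - 1 + d) = 2 * l by omega) (by omega), hty, mul_one, asB_add, hbx,
        show α * α = asT F from rfl, asB_asT, Bool.xor_true]
  have hs' := hV'.sys h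
  have hx'X : x' ∈ X := add_mem (hle1 hxm) (hle2 hzm)
  have hW1X : spanT g (2 * k) ![x'] ≤ X := spanT_le hXi fun i => by fin_cases i; exact hx'X
  obtain ⟨y', hy'X, w, hw, hsum, hy'i, hkill⟩ :=
    exists_part h hXi hXnd hW1X (fun v hv => spanT_inv hs'.kill hv) (hs'.ndOn h) (hle2 hym)
  obtain ⟨hy'0, hw0⟩ := hkill _ hy
  have hcross : ∀ a b, B (tp g a y') (tp g b w) = 0 ∧ B (tp g b w) (tp g a y') = 0 := fun a b =>
    ⟨h.perp_symm (hy'i a).2 (tp_mem (fun v hv => spanT_inv hs'.kill hv) b hw),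
      (hy'i a).2 _ (tp_mem (fun v hv => spanT_inv hs'.kill hv) b hw)⟩
  have hpw : ∀ a, B (tp g a x') w = α * B (tp g (a + d) y) y := fun a => by
    have e1 : B (tp g a x') y' = 0 := hy'X.2 _ (tp_mem_spanT (x := ![x']) hs'.kill 0 a)
    have e2 : B (tp g a x') y = α * B (tp g (a + d) y) y := by
      have e3 : B (tp g a x) y = 0 := by simpa [tp_zero] using (ho a 0 y hym).1
      rw [hx', _root_.map_add, LinearMap.map_add₂, e3, zero_add, hzy, LinearMap.map_smul₂, smul_eq_mul]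
    rw [← e2, hsum, _root_.map_add (B (tp g a x')), e1, zero_add]
  obtain ⟨c, hcq, hcl, u, hu, hwu⟩ := hs'.lead_facts h hw (j := k + 1 - l) (by omega) fun i a ha => by
    fin_cases i
    show B (tp g a x') w = 0
    rw [hpw, tp_of_le g (show 2 * l ≤ a + d by omega) hy]
    simp
  have hc0 : c 0 = α := by
    have e := hcl (by omega) 0
    simp only [Matrix.cons_val_fin_one, Fin.sum_univ_one] at e
    rw [hpw, show 2 * k - 1 - (k + 1 - l) + d = 2 * l - 1 by omega, hty, mul_one] at e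
    rw [ht', mul_one] at e
    exact e.symm
  have hqw : Q (tp g (l - 1) w) = α * α := by
    rw [hcq _ (by omega), show l - 1 + (k + 1 - l) = k by omega]
    simp only [Fin.sum_univ_one, Matrix.cons_val_fin_one]
    rw [hc0, _root_.map_smul, h.smul, h.q_top hV'.2.1 rfl (by omega)]
    rw [ht', mul_one]
  have hty' : B (tp g (2 * l - 1) y') y' = 1 := by
    have e1 : B (tp g (2 * l - 1) w) w = 0 := by
      rw [hwu, ← tp_add, h.pair_zero (spanT_kill hs'.kill hu) _ _ (by omega)]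
    have e2 := hty
    have e3 : B (tp g (2 * l - 1) y') w = 0 := by simpa [tp_zero] using (hcross (2 * l - 1) 0).1
    have e4 : B (tp g (2 * l - 1) w) y' = 0 := by simpa [tp_zero] using (hcross 0 (2 * l - 1)).2
    simp only [hsum, _root_.map_add, LinearMap.add_apply, e1, e3, e4, add_zero, zero_add] at e2
    exact e2
  have hq' : asB (Q (tp g (l - 1) y')) = !b2 := by
    have e : Q (tp g (l - 1) y) = Q (tp g (l - 1) y') + α * α := by
      rw [hsum, _root_.map_add, h.add, hqw, (hcross _ _).1, add_zero]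
    have e' := hby
    rw [e, asB_add, show α * α = asT F from rfl, asB_asT, Bool.xor_true] at e'
    rw [← e', Bool.not_not]
  have hV2 : IsV B Q g l (!b2) y' := isV_of h hl hy'0 hty' hq'
  refine Dec.two h hXi hXnd (show IsPc B Q g _ (Lab.pv k (!b1)) from ⟨x', hV', rfl⟩)
    (show IsPc B Q g _ (Lab.pv l (!b2)) from ⟨y', hV2, rfl⟩) hW1X
    (spanT_le (rest_props h.formAut hXi hXnd hW1X (fun v hv => spanT_inv hs'.kill hv) (hs'.ndOn h)).1
      fun i => by fin_cases i; exact hy'X) ?_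
  simp [Lab.dim]
  omega

theorem flipWW {X : Submodule F V} (hXi : ∀ x ∈ X, g x ∈ X) (hXnd : NdOn B X) {m : ℕ} {b1 b2 : Bool}
    (hm : Odd m) (hX : Dec B Q g X {Lab.pw m b1, Lab.pw m b2}) :
    Dec B Q g X {Lab.pw m (!b1), Lab.pw m (!b2)} := by
  have hdim := dec_dim h hX hXi hXnd
  simp [Lab.dim] at hdim
  obtain ⟨W1, W2, ⟨a0, b0, hW10, rfl⟩, ⟨c0', d0, hW20, rfl⟩, hle1, hle2, horth⟩ := exists_gen h hX
  obtain ⟨x1, hx1m, y1, hy1m, hx1, hy1, ht1, hqx1, hqy1⟩ := hW10.scaled_one h hm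
  obtain ⟨x2, hx2m, y2, hy2m, hx2, hy2, ht2, hqx2, hqy2⟩ := hW20.scaled_one h hm
  obtain ⟨H, hH⟩ := hm
  have hm : Odd m := ⟨H, hH⟩
  have hHe : (m - 1) / 2 = H := by omega
  rw [hHe] at hqx1 hqy1 hqx2 hqy2
  set α := asRoot F
  have hi1 : ∀ v ∈ spanT g m ![a0, b0], g v ∈ spanT g m ![a0, b0] := fun v hv => spanT_inv (hW10.sys h).kill hv
  have hi2 : ∀ v ∈ spanT g m ![c0', d0], g v ∈ spanT g m ![c0', d0] := fun v hv => spanT_inv (hW20.sys h).kill hv
  have ho : ∀ a b, ∀ u ∈ spanT g m ![a0, b0], ∀ v ∈ spanT g m ![c0', d0],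
      B (tp g a u) (tp g b v) = 0 ∧ B (tp g b v) (tp g a u) = 0 :=
    fun a b u hu v hv => ⟨horth _ (tp_mem hi1 a hu) _ (tp_mem hi2 b hv),
      by rw [h.symm]; exact horth _ (tp_mem hi1 a hu) _ (tp_mem hi2 b hv)⟩
  set y1' := y1 + α • x2 with hy1'
  have ho0 : ∀ u ∈ spanT g m ![a0, b0], ∀ v ∈ spanT g m ![c0', d0], ∀ a,
      B (tp g a u) v = 0 ∧ B (tp g a v) u = 0 := fun u hu v hv a =>
    ⟨by simpa [tp_zero] using (ho a 0 u hu v hv).1, by simpa [tp_zero] using (ho 0 a u hu v hv).2⟩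
  have hty : B (tp g (m - 1) x1) y1' = 1 := by
    rw [hy1', _root_.map_add, _root_.map_smul, (ho0 x1 hx1m x2 hx2m _).1, ht1, smul_zero, add_zero]
  have hW1 : IsW B Q g m (!b1) x1 y1' := by
    refine isW_of h hm hx1 ?_ hty ?_
    · rw [hy1', _root_.map_add, _root_.map_smul, hy1, hx2, smul_zero, add_zero]
    · rw [hHe, hqx1, one_mul, hy1', _root_.map_add, _root_.map_smul, h.add, h.smul, _root_.map_smul,
        (ho H H y1 hy1m x2 hx2m).1, smul_zero, add_zero, hqx2, mul_one, asB_add, hqy1,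
        show α * α = asT F from rfl, asB_asT, Bool.xor_true]
  have hs' := hW1.sys h
  have hinv' : ∀ v ∈ spanT g m ![x1, y1'], g v ∈ spanT g m ![x1, y1'] := fun v hv => spanT_inv hs'.kill hv
  have hW1X : spanT g m ![x1, y1'] ≤ X := spanT_le hXi fun i => by
    fin_cases i
    · exact hle1 hx1m
    · exact add_mem (hle1 hy1m) (Submodule.smul_mem _ _ (hle2 hx2m))
  obtain ⟨px, hpxX, wx, hwx, hsx, hpxi, hkx⟩ := exists_part h hXi hXnd hW1X hinv' (hs'.ndOn h) (hle2 hx2m)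
  obtain ⟨py, hpyX, wy, hwy, hsy, hpyi, hky⟩ := exists_part h hXi hXnd hW1X hinv' (hs'.ndOn h) (hle2 hy2m)
  have hpair : ∀ {p q w : V}, q = p + w → p ∈ X ⊓ perp' B (spanT g m ![x1, y1']) → ∀ i a,
      B (tp g a (![x1, y1'] i)) w = B (tp g a (![x1, y1'] i)) q := fun {p q w} e hp i a => by
    rw [e, _root_.map_add, hp.2 _ (tp_mem_spanT hs'.kill i a), zero_add]
  have hxx2 : B (tp g (m - 1) x2) x2 = 0 := h.top_odd hx2 hm
  obtain ⟨cx, hcxq, -, ux, hux, hwxu⟩ := hs'.lead_facts h hwx (j := 1) (by omega) fun i a ha => by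
    rw [hpair hsx hpxX]
    fin_cases i
    · exact (ho0 x1 hx1m x2 hx2m a).1
    · show B (tp g a (y1 + α • x2)) x2 = 0
      rw [_root_.map_add, _root_.map_smul, LinearMap.map_add₂, LinearMap.map_smul₂, (ho0 y1 hy1m x2 hx2m a).1]
      rcases Nat.lt_or_ge a m with h1 | h1
      · rw [show a = m - 1 by omega, hxx2]; simp
      · rw [tp_of_le g h1 hx2]; simp
  obtain ⟨cy, hcyq, hcyl, uy, huy, hwyu⟩ := hs'.lead_facts h hwy (j := 0) (Nat.zero_le m) fun i a ha => by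
    rw [tp_of_le g (by omega) (hs'.kill i)]; simp
  have e0 := hcyl (by omega) 0
  have e1 := hcyl (by omega) 1
  rw [hpair hsy hpyX] at e0 e1
  have hxx1 : B (tp g (m - 1) x1) x1 = 0 := h.top_odd hx1 hm
  have hyy1 : B (tp g (m - 1) y1') y1' = 0 := h.top_odd hW1.2.2.1 hm
  have hyx1 : B (tp g (m - 1) y1') x1 = 1 := by rw [h.top_comm (by omega) y1' hx1, hty]
  simp only [Fin.sum_univ_two, Nat.sub_zero, Matrix.cons_val_zero, Matrix.cons_val_one, hxx1, hyy1, hyx1, hty,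
    mul_zero, mul_one, zero_add, add_zero] at e0 e1
  rw [(ho0 x1 hx1m y2 hy2m _).1] at e0
  rw [hy1', _root_.map_add, _root_.map_smul, LinearMap.map_add₂, LinearMap.map_smul₂,
    (ho0 y1 hy1m y2 hy2m _).1, ht2, zero_add, smul_eq_mul, mul_one] at e1
  have hqwy : Q (tp g H wy) = α * α := by
    rw [hcyq H (by omega), Fin.sum_univ_two, ← e0, ← e1]
    simp only [Matrix.cons_val_zero, Matrix.cons_val_one, zero_smul, add_zero, _root_.map_smul]
    rw [h.smul, hqx1, mul_one]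
  have hqwx : Q (tp g H wx) = 0 := by
    rw [hwxu, ← tp_add]
    exact h.q_zero (spanT_kill hs'.kill hux) (by omega)
  obtain ⟨hpx0, -⟩ := hkx _ hx2
  obtain ⟨hpy0, -⟩ := hky _ hy2
  have hmem' : ∀ a, tp g a wy ∈ spanT g m ![x1, y1'] := fun a => tp_mem hinv' a hwy
  have htop : B (tp g (m - 1) px) py = 1 := by
    have e2 := ht2
    have z1 : B (tp g (m - 1) px) wy = 0 := h.perp_symm (hpxi _).2 hwy
    have z2 : B (tp g (m - 1) wx) py = 0 := hpyX.2 _ (tp_mem hinv' _ hwx)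
    have z3 : B (tp g (m - 1) wx) wy = 0 := by
      rw [hwxu, ← tp_add, tp_of_le g (show m ≤ m - 1 + 1 by omega) (spanT_kill hs'.kill hux)]
      simp
    simp only [hsx, hsy, _root_.map_add, LinearMap.add_apply, z1, z2, z3, add_zero, zero_add] at e2
    exact e2
  have hqp : ∀ {p q w : V}, q = p + w → p ∈ X ⊓ perp' B (spanT g m ![x1, y1']) → w ∈ spanT g m ![x1, y1'] →
      Q (tp g H q) = Q (tp g H p) + Q (tp g H w) := fun {p q w} e hp hw => by
    rw [e, _root_.map_add, h.add, h.perp_symm (tp_mem (rest_props h.formAut hXi hXnd hW1X hinv' (hs'.ndOn h)).1 H hp).2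
      (tp_mem hinv' H hw), add_zero]
  have hW2 : IsW B Q g m (!b2) px py := by
    refine isW_of h hm hpx0 hpy0 htop ?_
    have e2 := hqp hsx hpxX hwx
    have e3 := hqp hsy hpyX hwy
    rw [hqx2, hqwx, add_zero] at e2
    have e4 := hqy2
    rw [e3, hqwy, asB_add, show α * α = asT F from rfl, asB_asT, Bool.xor_true] at e4
    rw [hHe, ← e2, one_mul, ← e4, Bool.not_not]
  refine Dec.two h hXi hXnd (show IsPc B Q g _ (Lab.pw m (!b1)) from ⟨x1, y1', hW1, rfl⟩)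
    (show IsPc B Q g _ (Lab.pw m (!b2)) from ⟨px, py, hW2, rfl⟩) hW1X
    (spanT_le (rest_props h.formAut hXi hXnd hW1X hinv' (hs'.ndOn h)).1
      fun i => by fin_cases i <;> [exact hpxX; exact hpyX]) ?_
  simp [Lab.dim]
  omega

theorem flipVW {X : Submodule F V} (hXi : ∀ x ∈ X, g x ∈ X) (hXnd : NdOn B X) {k d : ℕ} {b1 b2 : Bool}
    (hd : d ≤ 1) (hk : 1 ≤ k) (hX : Dec B Q g X {Lab.pv k b1, Lab.pw (2 * k - 1 + 2 * d) b2}) :
    Dec B Q g X {Lab.pv k (!b1), Lab.pw (2 * k - 1 + 2 * d) (!b2)} := by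
  set m := 2 * k - 1 + 2 * d with hmdef
  have hdim := dec_dim h hX hXi hXnd
  simp [Lab.dim] at hdim
  obtain ⟨W1, W2, ⟨x0, hx0, rfl⟩, ⟨a0, c0', hW20, rfl⟩, hle1, hle2, horth⟩ := exists_gen h hX
  have hm : Odd m := ⟨k - 1 + d, by omega⟩
  obtain ⟨v, hvm, hVv, htv, -⟩ := hx0.normal h
  obtain ⟨p, hpm, q, hqm, hp, hq, htpq, hqp, hqq⟩ := hW20.scaled_one h hm
  obtain ⟨-, hv, -, hbv⟩ := hVv
  rw [htv, div_one] at hbv
  have hHe : (m - 1) / 2 = k - 1 + d := by omega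
  rw [hHe] at hqp hqq
  set α := asRoot F
  have hi1 : ∀ u ∈ spanT g (2 * k) ![x0], g u ∈ spanT g (2 * k) ![x0] := fun u hu => spanT_inv (hx0.sys h).kill hu
  have hi2 : ∀ u ∈ spanT g m ![a0, c0'], g u ∈ spanT g m ![a0, c0'] := fun u hu => spanT_inv (hW20.sys h).kill hu
  have ho : ∀ a b, ∀ u ∈ spanT g m ![a0, c0'],
      B (tp g a v) (tp g b u) = 0 ∧ B (tp g b u) (tp g a v) = 0 :=
    fun a b u hu => ⟨horth _ (tp_mem hi1 a hvm) _ (tp_mem hi2 b hu),
      by rw [h.symm]; exact horth _ (tp_mem hi1 a hvm) _ (tp_mem hi2 b hu)⟩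
  have ho0 : ∀ u ∈ spanT g m ![a0, c0'], ∀ a, B (tp g a v) u = 0 ∧ B (tp g a u) v = 0 := fun u hu a =>
    ⟨by simpa [tp_zero] using (ho a 0 u hu).1, by simpa [tp_zero] using (ho 0 a u hu).2⟩
  set z := α • tp g d p with hz
  have hzm : z ∈ spanT g m ![a0, c0'] := Submodule.smul_mem _ _ (tp_mem hi2 _ hpm)
  have hzy : ∀ a, tp g a z = α • tp g (a + d) p := fun a => by rw [hz, _root_.map_smul, ← tp_add]
  set x' := v + z with hx'
  have ht' : B (tp g (2 * k - 1) x') x' = 1 := by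
    have e3 : B (tp g (2 * k - 1) z) z = 0 := by
      have := hzy 0
      rw [tp_zero, zero_add] at this
      rw [hzy, this, LinearMap.map_smul₂, _root_.map_smul, h.pair_zero hp (2 * k - 1 + d) d (by omega)]
      simp
    simp only [hx', _root_.map_add, LinearMap.add_apply, htv, (ho0 z hzm _).1, (ho0 z hzm _).2, e3, add_zero]
  have hV' : IsV B Q g k (!b1) x' := by
    refine isV_of h hk ?_ ht' ?_
    · rw [hx', _root_.map_add, hv, hzy, tp_of_le g (show m ≤ 2 * k + d by omega) hp, smul_zero, add_zero]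
    · rw [hx', _root_.map_add, h.add, (ho _ _ z hzm).1, add_zero, hzy, h.smul, hqp, mul_one, asB_add, hbv,
        show α * α = asT F from rfl, asB_asT, Bool.xor_true]
  have hs' := hV'.sys h
  have hinv' : ∀ u ∈ spanT g (2 * k) ![x'], g u ∈ spanT g (2 * k) ![x'] := fun u hu => spanT_inv hs'.kill hu
  have hW1X : spanT g (2 * k) ![x'] ≤ X := spanT_le hXi fun i => by
    fin_cases i; exact add_mem (hle1 hvm) (hle2 hzm)
  obtain ⟨p', hp'X, wp, hwp, hsp, hp'i, hkp⟩ := exists_part h hXi hXnd hW1X hinv' (hs'.ndOn h) (hle2 hpm)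
  obtain ⟨q', hq'X, wq, hwq, hsq, hq'i, hkq⟩ := exists_part h hXi hXnd hW1X hinv' (hs'.ndOn h) (hle2 hqm)
  have hpair : ∀ {r s w : V}, s = r + w → r ∈ X ⊓ perp' B (spanT g (2 * k) ![x']) →
      s ∈ spanT g m ![a0, c0'] → ∀ a, B (tp g a x') w = α * B (tp g (a + d) p) s := fun {r s w} e hr hs a => by
    have e1 : B (tp g a x') w = B (tp g a x') s := by
      rw [e, _root_.map_add (B (tp g a x')), show B (tp g a x') r = 0 from hr.2 _ (tp_mem_spanT (x := ![x']) hs'.kill 0 a), zero_add]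
    rw [e1, hx', _root_.map_add, LinearMap.map_add₂, (ho0 s hs a).1, zero_add, hzy, LinearMap.map_smul₂,
      smul_eq_mul]
  obtain ⟨cp, hcpq, -, up, hup, hwpu⟩ := hs'.lead_facts h hwp (j := 2 - d) (by omega) fun i a ha => by
    fin_cases i
    show B (tp g a x') wp = 0
    rw [hpair hsp hp'X hpm]
    rcases Nat.lt_or_ge (a + d) m with h1 | h1
    · rw [show a + d = m - 1 by omega, h.top_odd hp hm, mul_zero]
    · rw [tp_of_le g h1 hp]; simp
  obtain ⟨cq, hcqq, hcql, uq, huq, hwqu⟩ := hs'.lead_facts h hwq (j := 1 - d) (by omega) fun i a ha => by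
    fin_cases i
    show B (tp g a x') wq = 0
    rw [hpair hsq hq'X hqm]
    rcases Nat.lt_or_ge (a + d) m with h1 | h1
    · omega
    · rw [tp_of_le g h1 hp]; simp
  have e1 := hcql (by omega) 0
  simp only [Fin.sum_univ_one, Matrix.cons_val_fin_one] at e1
  rw [hpair hsq hq'X hqm, show 2 * k - 1 - (1 - d) + d = m - 1 by omega, htpq, ht', mul_one, mul_one] at e1
  have hqwq : Q (tp g (k - 1 + d) wq) = α * α := by
    rw [hcqq _ (by omega), show k - 1 + d + (1 - d) = k by omega]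
    simp only [Fin.sum_univ_one, Matrix.cons_val_fin_one]
    rw [← e1, _root_.map_smul, h.smul, h.q_top hV'.2.1 rfl (by omega), ht', mul_one]
  have hqwp : Q (tp g (k - 1 + d) wp) = 0 := by
    rw [hwpu, ← tp_add]
    exact h.q_zero (spanT_kill hs'.kill hup) (by omega)
  obtain ⟨hp0, -⟩ := hkp _ hp
  obtain ⟨hq0, -⟩ := hkq _ hq
  have htop : B (tp g (m - 1) p') q' = 1 := by
    have e2 := htpq
    have z1 : B (tp g (m - 1) p') wq = 0 := h.perp_symm (hp'i _).2 hwq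
    have z2 : B (tp g (m - 1) wp) q' = 0 := hq'X.2 _ (tp_mem hinv' _ hwp)
    have z3 : B (tp g (m - 1) wp) wq = 0 := by
      rw [hwpu, ← tp_add, tp_of_le g (show 2 * k ≤ m - 1 + (2 - d) by omega) (spanT_kill hs'.kill hup)]
      simp
    simp only [hsp, hsq, _root_.map_add, LinearMap.add_apply, z1, z2, z3, add_zero, zero_add] at e2
    exact e2
  have hqs : ∀ {r s w : V}, s = r + w → r ∈ X ⊓ perp' B (spanT g (2 * k) ![x']) → w ∈ spanT g (2 * k) ![x'] →
      Q (tp g (k - 1 + d) s) = Q (tp g (k - 1 + d) r) + Q (tp g (k - 1 + d) w) := fun {r s w} e hr hw => by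
    rw [e, _root_.map_add, h.add,
      h.perp_symm (tp_mem (rest_props h.formAut hXi hXnd hW1X hinv' (hs'.ndOn h)).1 (k - 1 + d) hr).2
        (tp_mem hinv' _ hw), add_zero]
  have hW2 : IsW B Q g m (!b2) p' q' := by
    refine isW_of h hm hp0 hq0 htop ?_
    have e2 := hqs hsp hp'X hwp
    have e3 := hqs hsq hq'X hwq
    rw [hqp, hqwp, add_zero] at e2
    have e4 := hqq
    rw [e3, hqwq, asB_add, show α * α = asT F from rfl, asB_asT, Bool.xor_true] at e4
    rw [hHe, ← e2, one_mul, ← e4, Bool.not_not]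
  refine Dec.two h hXi hXnd (show IsPc B Q g _ (Lab.pv k (!b1)) from ⟨x', hV', rfl⟩)
    (show IsPc B Q g _ (Lab.pw m (!b2)) from ⟨p', q', hW2, rfl⟩) hW1X
    (spanT_le (rest_props h.formAut hXi hXnd hW1X hinv' (hs'.ndOn h)).1
      fun i => by fin_cases i <;> [exact hp'X; exact hq'X]) ?_
  simp [Lab.dim]
  omega

/-- three equal pieces of size `2k` contain one of size `2k + 2k` -/
theorem tradeVVV {X : Submodule F V} (hXi : ∀ x ∈ X, g x ∈ X) (hXnd : NdOn B X) {k : ℕ} {b1 b2 b3 : Bool}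
    (hX : Dec B Q g X (Lab.pv k b1 ::ₘ Lab.pv k b2 ::ₘ Lab.pv k b3 ::ₘ 0)) :
    ∃ b, Dec B Q g X {Lab.pw (2 * k) false, Lab.pv k b} := by
  have hdim := dec_dim h hX hXi hXnd
  simp [Lab.dim] at hdim
  obtain ⟨A, M1, hA, hleA, hMM1, hd1⟩ := hX.front h (Multiset.mem_cons_self _ _)
  rw [Multiset.cons_inj_right] at hMM1
  subst hMM1
  obtain ⟨Bb, M2, hBp, hleB, hMM2, hd2⟩ := hd1.front h (Multiset.mem_cons_self _ _)
  rw [Multiset.cons_inj_right] at hMM2
  subst hMM2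
  obtain ⟨Cc, M3, hCp, hleC, -, -⟩ := hd2.front h (Multiset.mem_cons_self _ _)
  obtain ⟨a0, ha0, rfl⟩ := hA
  obtain ⟨b0, hb0, rfl⟩ := hBp
  obtain ⟨c0, hc0, rfl⟩ := hCp
  obtain ⟨a, ham, ⟨hk, ha, -⟩, hta, -⟩ := ha0.normal h
  obtain ⟨b, hbm, ⟨-, hb, -⟩, htb, -⟩ := hb0.normal h
  obtain ⟨c, hcm, ⟨-, hc, -⟩, htc, -⟩ := hc0.normal h
  have haX : a ∈ X := hleA ham
  have hbX : b ∈ X := (hleB hbm).1
  have hcX : c ∈ X := (hleC hcm).1.1
  have hiA : ∀ v ∈ spanT g (2 * k) ![a0], g v ∈ spanT g (2 * k) ![a0] := fun v hv => spanT_inv (ha0.sys h).kill hv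
  have hiB : ∀ v ∈ spanT g (2 * k) ![b0], g v ∈ spanT g (2 * k) ![b0] := fun v hv => spanT_inv (hb0.sys h).kill hv
  have hiC : ∀ v ∈ spanT g (2 * k) ![c0], g v ∈ spanT g (2 * k) ![c0] := fun v hv => spanT_inv (hc0.sys h).kill hv
  set e := 2 * k - 1
  have o1 : B (tp g e a) b = 0 := (hleB hbm).2 _ (tp_mem hiA e ham)
  have o1' : B (tp g e b) a = 0 := h.perp_symm (hleB (tp_mem hiB e hbm)).2 ham
  have o2 : B (tp g e a) c = 0 := (hleC hcm).1.2 _ (tp_mem hiA e ham)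
  have o2' : B (tp g e c) a = 0 := h.perp_symm (hleC (tp_mem hiC e hcm)).1.2 ham
  have o3 : B (tp g e b) c = 0 := (hleC hcm).2 _ (tp_mem hiB e hbm)
  have o3' : B (tp g e c) b = 0 := h.perp_symm (hleC (tp_mem hiC e hcm)).2 hbm
  have two : (1 : F) + 1 = 0 := CharTwo.add_self_eq_zero 1
  have hW : IsW B Q g (2 * k) false (a + b) (b + c) := by
    refine ⟨by omega, by rw [_root_.map_add, ha, hb, add_zero], by rw [_root_.map_add, hb, hc, add_zero], ?_, ?_, ?_, ?_⟩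
    · simp only [_root_.map_add, LinearMap.add_apply]
      rw [o1, o2, o3, htb]
      simp
    · simp only [_root_.map_add, LinearMap.add_apply]
      rw [o1, o1', hta, htb, zero_add, add_zero, two]
    · simp only [_root_.map_add, LinearMap.add_apply]
      rw [o3, o3', htb, htc, zero_add, add_zero, two]
    · simp
  have hs' := hW.sys h
  have hinv' : ∀ v ∈ spanT g (2 * k) ![a + b, b + c], g v ∈ spanT g (2 * k) ![a + b, b + c] :=
    fun v hv => spanT_inv hs'.kill hv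
  have hW1X : spanT g (2 * k) ![a + b, b + c] ≤ X := spanT_le hXi fun i => by
    fin_cases i <;> [exact add_mem haX hbX; exact add_mem hbX hcX]
  obtain ⟨z', hz'X, w, hw, hsum, hz'i, hkill⟩ :=
    exists_part h hXi hXnd hW1X hinv' (hs'.ndOn h) (add_mem (add_mem haX hbX) hcX)
  obtain ⟨hz'0, -⟩ := hkill (2 * k) (by simp [ha, hb, hc])
  obtain ⟨cw, -, -, u, hu, hwu⟩ := hs'.lead_facts h hw (j := 1) (by omega) fun i n hn => by
    rcases Nat.lt_or_ge n (2 * k) with h1 | h1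
    swap
    · rw [tp_of_le g h1 (hs'.kill i)]; simp
    obtain rfl : n = e := by omega
    have e1 : B (tp g e (![a + b, b + c] i)) w = B (tp g e (![a + b, b + c] i)) (a + b + c) := by
      rw [hsum, _root_.map_add, hz'X.2 _ (tp_mem_spanT hs'.kill i e), zero_add]
    rw [e1]
    fin_cases i <;>
      simp only [Matrix.cons_val_zero, Matrix.cons_val_one, Fin.zero_eta, Fin.mk_one, _root_.map_add,
        LinearMap.add_apply, o1, o1', o2, o2', o3, o3', hta, htb, htc, add_zero, zero_add, two]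
  have htz : B (tp g e z') z' = 1 := by
    have e1 : B (tp g e (a + b + c)) (a + b + c) = 1 := by
      simp only [_root_.map_add, LinearMap.add_apply, o1, o1', o2, o2', o3, o3', hta, htb, htc, add_zero, zero_add]
      linear_combination two
    have z1 : B (tp g e z') w = 0 := h.perp_symm (hz'i _).2 hw
    have z2 : B (tp g e w) z' = 0 := hz'X.2 _ (tp_mem hinv' _ hw)
    have z3 : B (tp g e w) w = 0 := by
      rw [hwu, ← tp_add, tp_of_le g (show 2 * k ≤ e + 1 by omega) (spanT_kill hs'.kill hu)]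
      simp
    simp only [hsum, _root_.map_add, LinearMap.add_apply, z1, z2, z3, add_zero, zero_add] at e1
    exact e1
  refine ⟨_, Dec.two h hXi hXnd (show IsPc B Q g _ (Lab.pw (2 * k) false) from ⟨a + b, b + c, hW, rfl⟩)
    (show IsPc B Q g _ (Lab.pv k _) from ⟨z', isV_of h hk hz'0 htz rfl, rfl⟩) hW1X
    (spanT_le (rest_props h.formAut hXi hXnd hW1X hinv' (hs'.ndOn h)).1
      fun i => by fin_cases i; exact hz'X) ?_⟩
  simp [Lab.dim]
  omega

end Cfsg.Agent.CN9.Two
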