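import Cfsg.Agent.ClassNum9.Two.Normalise

/-!
Gauss sums of quadratic forms in characteristic two.
-/

set_option autoImplicit false

namespace Cfsg.Agent.CN9.Two

open Polynomial Module Cfsg.Agent.GLSemi

universe u v w

variable {F : Type u} [Field F] [Fintype F] [CharP F 2] {V : Type v} [AddCommGroup V] [Module F V]
variable {V' : Type w} [AddCommGroup V'] [Module F V']
variable {B : LinearMap.BilinForm F V} {Q : V → F} {g : V ≃ₗ[F] V}
variable {B' : LinearMap.BilinForm F V'} {Q' : V' → F} {g' : V' ≃ₗ[F] V'}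

/-- the Gauss sum on a subspace -/
noncomputable def gauss (Q : V → F) (W : Submodule F V) : ℝ := ∑ᶠ u : W, chiAS (Q u)

variable [FiniteDimensional F V] [FiniteDimensional F V']

omit [CharP F 2] in
theorem finite_sub (W : Submodule F V) : Finite W := by
  haveI : Finite V := Module.finite_of_finite F
  infer_instance

theorem sum_chi_linear {M : Type*} [AddCommGroup M] [Module F M] [Fintype M] (l : M →ₗ[F] F) (hl : l ≠ 0) :
    ∑ u : M, chiAS (l u) = 0 := by
  obtain ⟨u1, hu1⟩ : ∃ u, l u ≠ 0 := by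
    by_contra hc
    push Not at hc
    exact hl (LinearMap.ext hc)
  set u0 := (asT F / l u1) • u1
  have h1 : ∀ u, chiAS (l (u + u0)) = -chiAS (l u) := fun u => by
    rw [map_add, chiAS_add, show l u0 = asT F by simp [u0, hu1]]
    simp [chiAS, asB_asT]
  have h2 : ∑ u : M, chiAS (l (u + u0)) = ∑ u : M, chiAS (l u) :=
    Fintype.sum_equiv (Equiv.addRight u0) _ _ fun u => rfl
  simp only [h1, Finset.sum_neg_distrib] at h2
  linarith

variable (h : QAut B Q g)
include h

theorem gauss_bot : gauss Q (⊥ : Submodule F V) = 1 := by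
  rw [gauss, finsum_unique]
  rw [show ((default : (⊥ : Submodule F V)) : V) = 0 from (Submodule.mem_bot F).1 (default : (⊥ : Submodule F V)).2, h.q0, chiAS_zero]

theorem gauss_prod {U W : Submodule F V} (hU : ∀ x ∈ U, g x ∈ U) (hnd : NdOn B U) (hle : W ≤ U)
    (hWi : ∀ x ∈ W, g x ∈ W) (hWnd : NdOn B W) :
    gauss Q U = gauss Q W * gauss Q (U ⊓ perp' B W) := by
  classical
  haveI := finite_sub (F := F) U
  haveI := finite_sub (F := F) W
  haveI := finite_sub (F := F) (U ⊓ perp' B W)
  haveI := Fintype.ofFinite U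
  haveI := Fintype.ofFinite W
  haveI := Fintype.ofFinite ↥(U ⊓ perp' B W)
  obtain ⟨-, -, hdis, hsup⟩ := rest_props h.formAut hU hnd hle hWi hWnd
  rw [gauss, gauss, gauss, finsum_eq_sum_of_fintype, finsum_eq_sum_of_fintype, finsum_eq_sum_of_fintype,
    Finset.sum_mul_sum, ← Fintype.sum_prod_type']
  symm
  refine Fintype.sum_bijective (fun p : W × ↥(U ⊓ perp' B W) =>
    (⟨(p.1 : V) + p.2, U.add_mem (hle p.1.2) p.2.2.1⟩ : U)) ⟨?_, ?_⟩ _ _ fun p => ?_
  · rintro ⟨a, b⟩ ⟨a', b'⟩ he
    have e : (a : V) + b = a' + b' := congrArg Subtype.val he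
    have e2 : (a : V) - a' = b' - b := by rw [sub_eq_sub_iff_add_eq_add, e, add_comm]
    have e3 : (a : V) - a' = 0 :=
      Submodule.disjoint_def.1 hdis _ (W.sub_mem a.2 a'.2) (e2 ▸ Submodule.sub_mem _ b'.2 b.2)
    rw [e3, eq_comm, sub_eq_zero] at e2
    rw [sub_eq_zero] at e3
    exact Prod.ext (Subtype.ext e3) (Subtype.ext e2.symm)
  · rintro ⟨u, hu⟩
    obtain ⟨a, ha, b, hb, rfl⟩ := Submodule.mem_sup.1 (hsup.symm ▸ hu : u ∈ W ⊔ (U ⊓ perp' B W))
    exact ⟨(⟨a, ha⟩, ⟨b, hb⟩), rfl⟩
  · show _ = chiAS (Q ((p.1 : V) + p.2))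
    rw [h.add, show B (p.1 : V) (p.2 : V) = 0 from p.2.2.2 _ p.1.2, add_zero, chiAS_add]

theorem gauss_sq {U : Submodule F V} (hnd : NdOn B U) : gauss Q U * gauss Q U = (Nat.card U : ℝ) := by
  classical
  haveI := finite_sub (F := F) U
  haveI := Fintype.ofFinite U
  rw [gauss, finsum_eq_sum_of_fintype, Finset.sum_mul_sum, Nat.card_eq_fintype_card]
  have h1 : ∀ u : U, ∑ v : U, chiAS (Q u) * chiAS (Q v) = ∑ w : U, chiAS (Q w) * chiAS (B u w) := by
    intro u
    rw [← Equiv.sum_comp (Equiv.addLeft u)]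
    refine Finset.sum_congr rfl fun w _ => ?_
    rw [← chiAS_add, ← chiAS_add, show ((Equiv.addLeft u) w : V) = (u : V) + w from rfl, h.add]
    congr 1
    have e : Q u + Q u = 0 := CharTwo.add_self_eq_zero _
    linear_combination e
  rw [Finset.sum_congr rfl fun u _ => h1 u, Finset.sum_comm, Finset.sum_eq_single (0 : U)]
  · simp [h.q0, chiAS_zero]
  · intro w _ hw
    rw [← Finset.mul_sum]
    refine mul_eq_zero_of_right _ (sum_chi_linear ((B.flip (w : V)).comp U.subtype) fun hl => hw (Subtype.ext ?_))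
    refine hnd _ w.2 fun y hy => ?_
    rw [h.symm]
    exact LinearMap.congr_fun hl ⟨y, hy⟩
  · simp

theorem gauss_ne {U : Submodule F V} (hnd : NdOn B U) : gauss Q U ≠ 0 := by
  intro h0
  have h1 := gauss_sq h hnd
  haveI := finite_sub (F := F) U
  rw [h0, zero_mul] at h1
  exact (Nat.cast_ne_zero.2 (Nat.card_pos (α := U)).ne') h1.symm

omit [CharP F 2] [FiniteDimensional F V] [FiniteDimensional F V'] [Fintype F] h in
theorem IsoQ.gauss_eq {U : Submodule F V} {U' : Submodule F V'} (hi : IsoQ B Q g U B' Q' g' U')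
    (hnd : NdOn B U) : gauss Q' U' = gauss Q U := by
  obtain ⟨f, hf, hfB, hfQ, -⟩ := hi
  subst hf
  symm
  refine finsum_eq_of_bijective (fun u : U => (⟨f u, Submodule.mem_map_of_mem u.2⟩ : U.map f)) ⟨?_, ?_⟩ fun u => ?_
  · intro a b he
    have e : f a = f b := congrArg Subtype.val he
    refine Subtype.ext (sub_eq_zero.1 (hnd _ (U.sub_mem a.2 b.2) fun y hy => ?_))
    rw [map_sub, LinearMap.sub_apply, ← hfB _ a.2 _ hy, ← hfB _ b.2 _ hy, e, sub_self]
  · rintro ⟨_, a, ha, rfl⟩
    exact ⟨⟨a, ha⟩, rfl⟩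
  · show _ = chiAS (Q' (f u))
    rw [hfQ _ u.2]

omit [CharP F 2] [FiniteDimensional F V] [Fintype F] [FiniteDimensional F V'] h in
theorem tp_spanT {ι : Type} [Fintype ι] {N : ℕ} {x : ι → V} (hk : ∀ i, tp g N (x i) = 0) (j : ℕ) {w : V}
    (hw : w ∈ spanT g N x) : tp g j w ∈ spanT g N (fun i => tp g j (x i)) := by
  induction hw using Submodule.span_induction with
  | mem w hw =>
    obtain ⟨⟨i, a⟩, rfl⟩ := hw
    rw [tp_comm]
    exact tp_mem_spanT (x := fun i => tp g j (x i)) (fun i => by rw [tp_comm, hk, map_zero]) i a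
  | zero => rw [map_zero]; exact zero_mem _
  | add a b _ _ ha hb => rw [map_add]; exact add_mem ha hb
  | smul c a _ ha => rw [map_smul]; exact Submodule.smul_mem _ c ha

/-- only the upper half contributes -/
theorem gauss_upper {ι : Type} [Fintype ι] {N : ℕ} {x : ι → V} (hs : Sys B g N x) {j : ℕ} (hj : 2 * j < N) :
    gauss Q (spanT g N x) = gauss Q (spanT g N fun i => tp g j (x i)) := by
  classical
  set W := spanT g N x
  set L := spanT g N fun i => tp g (N - j) (x i)
  set P := spanT g N fun i => tp g j (x i)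
  have hinv : ∀ v ∈ W, g v ∈ W := fun v hv => spanT_inv hs.kill hv
  have hLW : L ≤ W := spanT_le hinv fun i => tp_mem_spanT hs.kill i _
  have hPW : P ≤ W := spanT_le hinv fun i => tp_mem_spanT hs.kill i _
  haveI := finite_sub (F := F) W
  haveI := finite_sub (F := F) L
  haveI := finite_sub (F := F) P
  haveI := Fintype.ofFinite W
  haveI := Fintype.ofFinite L
  haveI := Fintype.ofFinite P
  -- `Q` vanishes on `L`
  have hBL : ∀ a ∈ L, ∀ i b, j ≤ b → B (tp g b (x i)) a = 0 := by
    intro a ha i b hb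
    induction ha using Submodule.span_induction with
    | mem a ha =>
      obtain ⟨⟨l, c⟩, rfl⟩ := ha
      simp only [← tp_add]
      exact h.pair_zero (hs.kill i) _ _ (by omega)
    | zero => simp
    | add a c _ _ e1 e2 => rw [map_add, e1, e2, add_zero]
    | smul d a _ e1 => rw [map_smul, e1, smul_zero]
  have hQL : ∀ a ∈ L, Q a = 0 := by
    intro a ha
    induction ha using Submodule.span_induction with
    | mem a ha =>
      obtain ⟨⟨l, c⟩, rfl⟩ := ha
      simp only [← tp_add]
      exact h.q_zero (hs.kill l) (by omega)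
    | zero => exact h.q0
    | add a c ha hc e1 e2 =>
      rw [h.add, e1, e2, zero_add, zero_add]
      have hLa : ∀ b ∈ L, B b c = 0 := by
        intro b hb
        induction hb using Submodule.span_induction with
        | mem b hb =>
          obtain ⟨⟨l, d⟩, rfl⟩ := hb
          simp only [← tp_add]
          exact hBL c hc l _ (by omega)
        | zero => simp
        | add p q _ _ f1 f2 => rw [LinearMap.map_add₂, f1, f2, add_zero]
        | smul d p _ f1 => rw [LinearMap.map_smul₂, f1, smul_zero]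
      exact hLa a ha
    | smul d a _ e1 => rw [h.smul, e1, mul_zero]
  have hperp : ∀ u : W, (∀ l ∈ L, B u l = 0) ↔ (u : V) ∈ P := by
    intro u
    constructor
    · intro hu
      obtain ⟨c, r, hr, he⟩ := hs.lead h u.2 j (by omega) fun i a ha => by
        rw [h.symm]
        refine hu _ ?_
        obtain ⟨e, rfl⟩ := Nat.exists_eq_add_of_le ha
        rw [add_comm, tp_add]
        exact tp_mem_spanT (x := fun i => tp g (N - j) (x i))
          (fun i => by rw [tp_comm, hs.kill, map_zero]) i e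
      rw [he]
      refine add_mem (tp_spanT hs.kill j (Submodule.sum_mem _ fun i _ =>
        Submodule.smul_mem _ _ (tp_mem_spanT hs.kill i 0))) ?_
      rw [tp_add]
      exact tp_spanT hs.kill j (tp_mem hinv 1 hr)
    · intro hu l hl
      have key : ∀ b ∈ spanT g N (fun i => tp g j (x i)), B b l = 0 := by
        intro b hb
        induction hb using Submodule.span_induction with
        | mem b hb =>
          obtain ⟨⟨i, d⟩, rfl⟩ := hb
          simp only [← tp_add]
          exact hBL l hl i _ (by omega)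
        | zero => simp
        | add p q _ _ f1 f2 => rw [LinearMap.map_add₂, f1, f2, add_zero]
        | smul d p _ f1 => rw [LinearMap.map_smul₂, f1, smul_zero]
      exact key _ hu
  rw [gauss, gauss, finsum_eq_sum_of_fintype, finsum_eq_sum_of_fintype]
  have h1 : ∀ l : L, ∑ u : W, chiAS (Q u) = ∑ u : W, chiAS (Q u) * chiAS (B u l) := fun l => by
    rw [← Equiv.sum_comp (Equiv.addRight (⟨(l : V), hLW l.2⟩ : W))]
    refine Finset.sum_congr rfl fun u _ => ?_
    show chiAS (Q ((u : V) + l)) = _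
    rw [h.add, hQL _ l.2, add_zero, chiAS_add]
  have h2 : (Fintype.card L : ℝ) * ∑ u : W, chiAS (Q u) = (Fintype.card L : ℝ) * ∑ u : P, chiAS (Q u) := by
    have e : ∀ u : W, ∑ l : L, chiAS (B u l) = if (u : V) ∈ P then (Fintype.card L : ℝ) else 0 := by
      intro u
      split_ifs with hu
      · rw [Finset.sum_congr rfl fun (l : L) _ => show chiAS (B u l) = 1 by rw [(hperp u).2 hu _ l.2, chiAS_zero]]
        simp
      · refine sum_chi_linear ((B u).comp L.subtype) fun hl => hu ((hperp u).1 fun l hl' => LinearMap.congr_fun hl ⟨l, hl'⟩)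
    calc (Fintype.card L : ℝ) * ∑ u : W, chiAS (Q u) = ∑ l : L, ∑ u : W, chiAS (Q u) * chiAS (B u l) := by
          rw [← Finset.sum_congr rfl fun l _ => h1 l]; simp
      _ = ∑ u : W, chiAS (Q u) * ∑ l : L, chiAS (B u l) := by
          rw [Finset.sum_comm]; simp only [Finset.mul_sum]
      _ = ∑ u ∈ Finset.univ.filter (fun u : W => (u : V) ∈ P), chiAS (Q u) * (Fintype.card L : ℝ) := by
          rw [Finset.sum_filter]
          refine Finset.sum_congr rfl fun u _ => ?_
          rw [e]
          split_ifs <;> simp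
      _ = _ := by
          rw [← Finset.sum_mul, mul_comm]
          congr 1
          refine Finset.sum_bij' (fun u hu => (⟨(u : V), (Finset.mem_filter.1 hu).2⟩ : P))
            (fun u _ => (⟨(u : V), hPW u.2⟩ : W)) ?_ ?_ ?_ ?_ ?_ <;> intros <;> simp
  exact mul_left_cancel₀ (Nat.cast_ne_zero.2 Fintype.card_ne_zero) h2

/-- changing `Q` by a square on the upper half -/
theorem gauss_flip_sys (h' : QAut B' Q' g') {ι : Type} [Fintype ι] {N : ℕ} {x : ι → V} {x' : ι → V'}
    (hs : Sys B g N x) (hs' : Sys B' g' N x') {j : ℕ} (hj : 2 * j < N)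
    (hgram : ∀ i l a b, j ≤ a → j ≤ b → B' (tp g' a (x' i)) (tp g' b (x' l)) = B (tp g a (x i)) (tp g b (x l)))
    {w : V} (hw : w ∈ spanT g N fun i => tp g j (x i)) (hwq : asB (Q w) = true)
    (hq : ∀ i a, j ≤ a → Q' (tp g' a (x' i)) = Q (tp g a (x i)) + B w (tp g a (x i)) * B w (tp g a (x i))) :
    gauss Q' (spanT g' N x') = -gauss Q (spanT g N x) := by
  classical
  rw [gauss_upper h hs hj, gauss_upper h' hs' hj]
  set P := spanT g N fun i => tp g j (x i) with hP
  set P' := spanT g' N fun i => tp g' j (x' i) with hP'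
  haveI := finite_sub (F := F) P
  haveI := finite_sub (F := F) P'
  haveI := Fintype.ofFinite P
  haveI := Fintype.ofFinite P'
  let ρ : (ι × Fin N → F) →ₗ[F] V := Fintype.linearCombination F fun p => tp g p.2 (x p.1)
  let ρ' : (ι × Fin N → F) →ₗ[F] V' := Fintype.linearCombination F fun p => tp g' p.2 (x' p.1)
  have hinj : Function.Injective ρ := by
    rw [← LinearMap.ker_eq_bot, LinearMap.ker_eq_bot']
    intro c hc
    exact funext (Fintype.linearIndependent_iff.1 (hs.indep h) c hc)
  have hinj' : Function.Injective ρ' := by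
    rw [← LinearMap.ker_eq_bot, LinearMap.ker_eq_bot']
    intro c hc
    exact funext (Fintype.linearIndependent_iff.1 (hs'.indep h') c hc)
  obtain ⟨l, hl⟩ := ρ.exists_leftInverse_of_injective (LinearMap.ker_eq_bot.2 hinj)
  let f : V →ₗ[F] V' := ρ'.comp l
  have hρ : spanT g N x = LinearMap.range ρ := (Fintype.range_linearCombination F _).symm
  have hfinj : ∀ u ∈ spanT g N x, f u = 0 → u = 0 := by
    intro u hu hfu
    rw [hρ] at hu
    obtain ⟨c, rfl⟩ := hu
    have e : l (ρ c) = c := LinearMap.congr_fun hl c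
    simp only [f, LinearMap.comp_apply, e] at hfu
    rw [hinj' (hfu.trans (map_zero ρ').symm), map_zero]
  have hf : ∀ i a, f (tp g a (x i)) = tp g' a (x' i) := by
    intro i a
    rcases Nat.lt_or_ge a N with ha | ha
    · have e1 : ρ (Pi.single (i, ⟨a, ha⟩) 1) = tp g a (x i) := by simp [ρ, Fintype.linearCombination_apply_single]
      have e2 : ρ' (Pi.single (i, ⟨a, ha⟩) 1) = tp g' a (x' i) := by simp [ρ', Fintype.linearCombination_apply_single]
      rw [← e1, ← e2]
      exact congrArg ρ' (LinearMap.congr_fun hl _)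
    · rw [tp_of_le g ha (hs.kill i), tp_of_le g' ha (hs'.kill i), map_zero]
  have hB : ∀ p ∈ P, ∀ r ∈ P, B' (f p) (f r) = B p r := by
    intro p hp r hr
    induction hp using Submodule.span_induction with
    | mem p hp =>
      obtain ⟨⟨i, a⟩, rfl⟩ := hp
      induction hr using Submodule.span_induction with
      | mem r hr =>
        obtain ⟨⟨i', b⟩, rfl⟩ := hr
        simp only [← tp_add, hf]
        exact hgram _ _ _ _ (by omega) (by omega)
      | zero => simp
      | add a b _ _ ha hb => rw [map_add, map_add, ha, hb, map_add]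
      | smul c a _ ha => rw [map_smul, map_smul, ha, map_smul]
    | zero => simp
    | add a b _ _ ha hb => rw [map_add, LinearMap.map_add₂, ha, hb, LinearMap.map_add₂]
    | smul c a _ ha => rw [map_smul, LinearMap.map_smul₂, ha, LinearMap.map_smul₂]
  have hQ : ∀ p ∈ P, Q' (f p) = Q p + B w p * B w p := by
    intro p hp
    induction hp using Submodule.span_induction with
    | mem p hp =>
      obtain ⟨⟨i, a⟩, rfl⟩ := hp
      simp only [← tp_add, hf]
      exact hq i _ (by omega)
    | zero => simp [h.q0, h'.q0]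
    | add a b ha' hb' ha hb =>
      rw [map_add, h'.add, ha, hb, hB a ha' b hb', h.add, map_add]
      have e : B w a * B w b + B w a * B w b = 0 := CharTwo.add_self_eq_zero _
      linear_combination -e
    | smul c a _ ha =>
      rw [map_smul, h'.smul, ha, h.smul, map_smul, smul_eq_mul]
      ring
  have hmap : P.map f = P' := by
    rw [hP, hP', spanT, spanT, Submodule.map_span, ← Set.range_comp]
    congr 1
    refine congrArg Set.range (funext fun p => ?_)
    simp only [Function.comp_apply, ← tp_add, hf]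
  rw [gauss, gauss, finsum_eq_sum_of_fintype, finsum_eq_sum_of_fintype]
  have e1 : ∑ u : P', chiAS (Q' u) = ∑ u : P, chiAS (Q' (f u)) := by
    refine (Fintype.sum_bijective (fun u : P => (⟨f u, hmap ▸ Submodule.mem_map_of_mem u.2⟩ : P')) ⟨?_, ?_⟩ _ _
      fun u => rfl).symm
    · intro a b he
      have e : f a = f b := congrArg Subtype.val he
      have hPW : P ≤ spanT g N x := spanT_le (fun v hv => spanT_inv hs.kill hv) fun i => tp_mem_spanT hs.kill i j
      refine Subtype.ext (sub_eq_zero.1 (hfinj _ (Submodule.sub_mem _ (hPW a.2) (hPW b.2)) ?_))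
      rw [map_sub, e, sub_self]
    · rintro ⟨u, hu⟩
      rw [← hmap] at hu
      obtain ⟨a, ha, rfl⟩ := hu
      exact ⟨⟨a, ha⟩, rfl⟩
  have hχ : chiAS (Q w) = -1 := by simp [chiAS, hwq]
  have e2 : ∀ u : P, chiAS (Q' (f u)) = -chiAS (Q (((Equiv.addRight (⟨w, hw⟩ : P)) u : P) : V)) := by
    intro u
    show _ = -chiAS (Q ((u : V) + w))
    rw [hQ _ u.2, chiAS_add, chiAS_sq, h.add, chiAS_add, chiAS_add, hχ, h.symm w]
    ring
  rw [e1, Finset.sum_congr rfl fun u _ => e2 u, Finset.sum_neg_distrib,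
    Equiv.sum_comp (Equiv.addRight (⟨w, hw⟩ : P)) fun u : P => chiAS (Q (u : V))]

theorem gauss_pv_flip (h' : QAut B' Q' g') {k : ℕ} {b : Bool} {x : V} {x' : V'} (hV : IsV B Q g k b x)
    (hV' : IsV B' Q' g' k (!b) x') :
    gauss Q' (spanT g' (2 * k) ![x']) = -gauss Q (spanT g (2 * k) ![x]) := by
  obtain ⟨y, hy, hVy, hty, hqy⟩ := hV.normal h
  obtain ⟨y', hy', hVy', hty', hqy'⟩ := hV'.normal h'
  have hsy := hVy.sys h
  rw [← (hV.sys h).span_eq h hsy (fun i => by fin_cases i; exact hy),
    ← (hV'.sys h').span_eq h' (hVy'.sys h') (fun i => by fin_cases i; exact hy')]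
  have hsy' := hVy'.sys h'
  obtain ⟨hk, hy0, -, -⟩ := hVy
  obtain ⟨-, hy0', -, -⟩ := hVy'
  set α := asRoot F
  refine gauss_flip_sys h h' hsy hsy' (j := k - 1) (by omega) (fun i l a b ha hb => ?_)
    (w := α • tp g k y) ?_ ?_ fun i a ha => ?_
  · fin_cases i
    fin_cases l
    show B' (tp g' a y') (tp g' b y') = B (tp g a y) (tp g b y)
    rcases Nat.lt_trichotomy (a + b + 1) (2 * k) with h1 | h1 | h1
    · rw [show a = k - 1 by omega, show b = k - 1 by omega, h.alt, h'.alt]
    · rw [h.pair_top hy0 _ _ h1, h'.pair_top hy0' _ _ h1, hty, hty']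
    · rw [h.pair_zero hy0 _ _ (by omega), h'.pair_zero hy0' _ _ (by omega)]
  · refine Submodule.smul_mem _ _ ?_
    have e := tp_mem_spanT (g := g) (N := 2 * k) (x := fun i => tp g (k - 1) (![y] i))
      (fun i => by rw [tp_comm, hsy.kill, map_zero]) 0 1
    rw [← tp_add, show 1 + (k - 1) = k by omega] at e
    exact e
  · rw [h.smul, h.q_top hy0 rfl (by omega), hty, mul_one]
    exact asB_asT
  · fin_cases i
    show Q' (tp g' a y') = Q (tp g a y) + B (α • tp g k y) (tp g a y) * B (α • tp g k y) (tp g a y)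
    rw [LinearMap.map_smul₂, smul_eq_mul]
    rcases Nat.lt_trichotomy a k with h1 | h1 | h1
    · rw [hqy a h1, hqy' a h1, if_pos (by omega), if_pos (by omega), h.pair_top hy0 _ _ (by omega), hty, mul_one]
      cases b
      · simp [asRep, α, asT]
      · simp only [asRep, Bool.not_true, Bool.false_eq_true, if_false, if_true]
        exact (CharTwo.add_self_eq_zero _).symm
    · rw [h1, h.q_top hy0 rfl (by omega), h'.q_top hy0' rfl (by omega), hty, hty', h.alt]
      simp
    · rw [h.q_zero hy0 (by omega), h'.q_zero hy0' (by omega), h.pair_zero hy0 _ _ (by omega)]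
      simp

theorem gauss_pw_flip (h' : QAut B' Q' g') {m : ℕ} (ho : Odd m) {x y : V} {x' y' : V'}
    (hW : IsW B Q g m false x y) (hW' : IsW B' Q' g' m true x' y') :
    gauss Q' (spanT g' m ![x', y']) = -gauss Q (spanT g m ![x, y]) := by
  obtain ⟨u, hu, v, hv, hWu, htu, hqu⟩ := hW.normal h
  obtain ⟨u', hu', v', hv', hWu', htu', hqu'⟩ := hW'.normal h'
  have hs := hWu.sys h
  rw [← (hW.sys h).span_eq h hs (fun i => by fin_cases i <;> [exact hu; exact hv]),
    ← (hW'.sys h').span_eq h' (hWu'.sys h') (fun i => by fin_cases i <;> [exact hu'; exact hv'])]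
  have hs' := hWu'.sys h'
  obtain ⟨hm, hu0, hv0, -, huu, hvv, -⟩ := hWu
  obtain ⟨-, hu0', hv0', -, huu', hvv', -⟩ := hWu'
  obtain ⟨H, rfl⟩ := ho
  have ht : B (tp g (2 * H + 1 - 1) u) v = 1 := by rw [htu _ (by omega), if_pos (by omega)]
  have ht' : B' (tp g' (2 * H + 1 - 1) u') v' = 1 := by rw [htu' _ (by omega), if_pos (by omega)]
  set α := asRoot F
  refine gauss_flip_sys h h' hs hs' (j := H) (by omega) (fun i l a b ha hb => ?_)
    (w := α • tp g H u + tp g H v) ?_ ?_ fun i a ha => ?_
  · rcases Nat.lt_or_ge (a + b) (2 * H + 1) with h1 | h1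
    · have he : a + b + 1 = 2 * H + 1 := by omega
      fin_cases i <;> fin_cases l
      · exact (h'.pair_top hu0' _ _ he).trans (huu'.trans (huu.symm.trans (h.pair_top hu0 _ _ he).symm))
      · exact (h'.pair_top hu0' _ _ he).trans (ht'.trans (ht.symm.trans (h.pair_top hu0 _ _ he).symm))
      · refine (h'.pair_top hv0' _ _ he).trans (Eq.trans ?_ (h.pair_top hv0 _ _ he).symm)
        show B' (tp g' (2 * H + 1 - 1) v') u' = B (tp g (2 * H + 1 - 1) v) u
        rw [h.top_comm (by omega) v hu0, h'.top_comm (by omega) v' hu0', ht, ht']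
      · exact (h'.pair_top hv0' _ _ he).trans (hvv'.trans (hvv.symm.trans (h.pair_top hv0 _ _ he).symm))
    · rw [h.pair_zero (hs.kill i) _ _ h1, h'.pair_zero (hs'.kill i) _ _ h1]
  · have hk : ∀ i, tp g (2 * H + 1) (tp g H (![u, v] i)) = 0 := fun i => by rw [tp_comm, hs.kill, map_zero]
    exact add_mem (Submodule.smul_mem _ _ (tp_mem_spanT (x := fun i => tp g H (![u, v] i)) hk 0 0))
      (tp_mem_spanT (x := fun i => tp g H (![u, v] i)) hk 1 0)
  · obtain ⟨q1, q2⟩ := hqu H (by omega)
    simp only [Bool.false_eq_true, and_false, if_false] at q1 q2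
    rw [h.add, h.smul, q1, q2, LinearMap.map_smul₂, h.pair_top hu0 _ _ (by omega), ht, smul_eq_mul, mul_one,
      mul_zero, zero_add, zero_add]
    exact (exists_asB_true (F := F)).choose_spec
  · have hp : ∀ z : V, B (α • tp g H u + tp g H v) z = α * B (tp g H u) z + B (tp g H v) z := fun z => by
      rw [LinearMap.map_add₂, LinearMap.map_smul₂, smul_eq_mul]
    rcases Nat.eq_or_lt_of_le ha with h1 | h1
    · subst h1
      obtain ⟨q1, q2⟩ := hqu H (by omega)
      obtain ⟨q1', q2'⟩ := hqu' H (by omega)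
      have e1 : B (tp g H u) (tp g H v) = 1 := by rw [h.pair_top hu0 _ _ (by omega), ht]
      fin_cases i
      · show Q' (tp g' H u') = _
        simp [hp, q1, q1', h.alt, h.symm (tp g H v) (tp g H u), e1]
      · show Q' (tp g' H v') = _
        simp [hp, q2, q2', h.alt, e1, α, asT]
    · fin_cases i
      · show Q' (tp g' a u') = _
        simp [hp, h.q_high hm hu0 huu (show 2 * H + 1 ≤ 2 * a by omega),
          h'.q_high hm hu0' huu' (show 2 * H + 1 ≤ 2 * a by omega), h.pair_zero hu0 H a (by omega),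
          h.pair_zero hv0 H a (by omega)]
      · show Q' (tp g' a v') = _
        simp [hp, h.q_high hm hv0 hvv (show 2 * H + 1 ≤ 2 * a by omega),
          h'.q_high hm hv0' hvv' (show 2 * H + 1 ≤ 2 * a by omega), h.pair_zero hu0 H a (by omega),
          h.pair_zero hv0 H a (by omega)]

theorem gauss_pc_flip (h' : QAut B' Q' g') {W : Submodule F V} {W' : Submodule F V'} {z : Lab F} (hn : z.IsNode)
    (hW : IsPc B Q g W z) (hW' : IsPc B' Q' g' W' z.flip) : gauss Q' W' = -gauss Q W := by
  cases z with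
  | reg P e => exact hn.elim
  | pv k b =>
    obtain ⟨x, hx, rfl⟩ := hW
    obtain ⟨x', hx', rfl⟩ := hW'
    exact gauss_pv_flip h h' hx hx'
  | pw m b =>
    obtain ⟨x, y, hx, rfl⟩ := hW
    obtain ⟨x', y', hx', rfl⟩ := hW'
    cases b
    · exact gauss_pw_flip h h' hn hx hx'
    · have := gauss_pw_flip h' h hn hx' hx
      linarith

/-- spaces with labels differing in one bit have opposite sums -/
theorem gauss_dec_flip (h' : QAut B' Q' g') (hnd : NdOn B (⊤ : Submodule F V)) (hnd' : NdOn B' (⊤ : Submodule F V'))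
    {z : Lab F} {R : Multiset (Lab F)} (hn : z.IsNode) (hM : Dec B Q g ⊤ (z ::ₘ R))
    (hM' : Dec B' Q' g' ⊤ (z.flip ::ₘ R)) : gauss Q' ⊤ = -gauss Q ⊤ := by
  obtain ⟨W, M1, hW, hle, he, hR⟩ := hM.front h (Multiset.mem_cons_self z R)
  rw [Multiset.cons_inj_right] at he
  subst he
  obtain ⟨W', M2, hW', hle', he', hR'⟩ := hM'.front h' (Multiset.mem_cons_self z.flip M1)
  rw [Multiset.cons_inj_right] at he'
  subst he'
  obtain ⟨hWi, hWnd, -⟩ := pc_props h hW
  obtain ⟨hWi', hWnd', -⟩ := pc_props h' hW'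
  obtain ⟨hRi, hRnd, -, -⟩ := rest_props h.formAut (fun _ _ => Submodule.mem_top) hnd hle hWi hWnd
  rw [gauss_prod h (fun _ _ => Submodule.mem_top) hnd hle hWi hWnd,
    gauss_prod h' (fun _ _ => Submodule.mem_top) hnd' hle' hWi' hWnd',
    (dec_iso h h' hR hRi hRnd hR').gauss_eq hRnd, gauss_pc_flip h h' hn hW hW', neg_mul]

theorem flip_absurd (hnd : NdOn B (⊤ : Submodule F V)) {g2 : V ≃ₗ[F] V} (h2 : QAut B Q g2) {z : Lab F}
    {R : Multiset (Lab F)} (hn : z.IsNode) (hM : Dec B Q g ⊤ (z ::ₘ R)) (hM2 : Dec B Q g2 ⊤ (z.flip ::ₘ R)) :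
    False := by
  have e := gauss_dec_flip h h2 hnd hnd hn hM hM2
  exact gauss_ne h hnd (by linarith)

end Cfsg.Agent.CN9.Two
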