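import Cfsg.Agent.ClassNum9.Two.Flip

/-!
Normalised decompositions: bits only on the lowest node of each chain.
-/

set_option autoImplicit false

namespace Cfsg.Agent.CN9.Two

open Polynomial Module Cfsg.Agent.GLSemi

universe u v

variable {F : Type u} [Field F]

/-- the position of a label -/
def Lab.pos : Lab F → ℕ
  | .reg _ _ => 0
  | .pv k _ => 2 * k
  | .pw m _ => m

/-- the bit of a label -/
def Lab.bit : Lab F → Bool
  | .reg _ _ => false
  | .pv _ b => b
  | .pw _ b => b

/-- the other bit -/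
def Lab.flip : Lab F → Lab F
  | .reg P e => .reg P e
  | .pv k b => .pv k (!b)
  | .pw m b => .pw m (!b)

/-- labels carrying a bit -/
def Lab.IsNode : Lab F → Prop
  | .reg _ _ => False
  | .pv _ _ => True
  | .pw m _ => Odd m

/-- `z'` can absorb the bit of `z` -/
def Linked (z z' : Lab F) : Prop :=
  z'.IsNode ∧ ((z'.pos = z.pos ∧ z'.bit = true) ∨ z'.pos + 1 = z.pos ∨ (Even z.pos ∧ z'.pos + 2 = z.pos))

/-- bits only on lowest nodes, one for each -/
def Good (M : Multiset (Lab F)) : Prop :=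
  ∀ z R, M = z ::ₘ R → z.bit = true → ∀ z' ∈ R, ¬ Linked z z'

/-- the pieces of size `2k` -/
def Lab.isPv (k : ℕ) : Lab F → Bool
  | .reg _ _ => false
  | .pv l _ => l == k
  | .pw _ _ => false

/-- at most two pieces of each size `2k` -/
def VSmall (M : Multiset (Lab F)) : Prop := ∀ k, (M.filter fun z => z.isPv k = true).card ≤ 2

/-- the weight of the bits -/
def bitWt (M : Multiset (Lab F)) : ℕ := (M.map fun z => if z.bit then 2 ^ z.pos else 0).sum

theorem bitWt_cons (z : Lab F) (M : Multiset (Lab F)) :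
    bitWt (z ::ₘ M) = (if z.bit then 2 ^ z.pos else 0) + bitWt M := by simp [bitWt]

theorem isPv_flip (k : ℕ) (z : Lab F) : z.flip.isPv k = z.isPv k := by cases z <;> rfl

theorem bit_flip {z : Lab F} (hz : z.IsNode) : z.flip.bit = !z.bit ∧ z.flip.pos = z.pos := by
  cases z
  · exact hz.elim
  · exact ⟨rfl, rfl⟩
  · exact ⟨rfl, rfl⟩

theorem node_of_bit {z : Lab F} (hv : z.Valid) (hb : z.bit = true) : z.IsNode := by
  cases z
  · simp [Lab.bit] at hb
  · exact trivial
  · exact hv.2 hb

variable [Fintype F] [CharP F 2] {V : Type v} [AddCommGroup V] [Module F V] [FiniteDimensional F V]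
variable {B : LinearMap.BilinForm F V} {Q : V → F} {g : V ≃ₗ[F] V}
variable (h : QAut B Q g)
include h

theorem Dec.toggle {U : Submodule F V} {z z' : Lab F} {R : Multiset (Lab F)} (hz : z.IsNode) (hl : Linked z z')
    (hM : Dec B Q g U (z ::ₘ z' ::ₘ R)) : Dec B Q g U (z.flip ::ₘ z'.flip ::ₘ R) := by
  have e : ∀ a b : Lab F, a ::ₘ b ::ₘ R = ({a, b} : Multiset (Lab F)) + R := fun a b => by
    show _ = (a ::ₘ b ::ₘ 0) + R
    rw [Multiset.cons_add, Multiset.cons_add, zero_add]
  have hvz : z'.Valid := hM.valid z' (Multiset.mem_cons_of_mem (Multiset.mem_cons_self _ _))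
  have hvz0 : z.Valid := hM.valid z (Multiset.mem_cons_self _ _)
  rw [e] at hM ⊢
  refine Dec.replace h (fun X hXi hXnd hX => ?_) hM
  obtain ⟨hz', hpos⟩ := hl
  cases z with
  | reg P e => exact hz.elim
  | pv k b =>
    cases z' with
    | reg P e => exact hz'.elim
    | pv l c =>
      simp only [Lab.pos, Nat.even_iff] at hpos
      exact flipVV h hXi hXnd (by omega) hX
    | pw m c =>
      have ho : m % 2 = 1 := Nat.odd_iff.1 hz'
      simp only [Lab.pos, Nat.even_iff] at hpos
      have hk : 1 ≤ k := hvz0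
      obtain rfl : m = 2 * k - 1 + 2 * 0 := by omega
      exact flipVW h hXi hXnd (Nat.zero_le 1) hk hX
  | pw m b =>
    have ho : m % 2 = 1 := Nat.odd_iff.1 hz
    cases z' with
    | reg P e => exact hz'.elim
    | pv l c =>
      simp only [Lab.pos, Nat.even_iff] at hpos
      have hl : 1 ≤ l := hvz
      obtain rfl : m = 2 * l - 1 + 2 * 1 := by omega
      rw [Multiset.pair_comm] at hX ⊢
      exact flipVW h hXi hXnd le_rfl hl hX
    | pw m' c =>
      have ho' : m' % 2 = 1 := Nat.odd_iff.1 hz'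
      simp only [Lab.pos, Nat.even_iff] at hpos
      obtain rfl : m = m' := by omega
      exact flipWW h hXi hXnd hz hX

theorem exists_vsmall {U : Submodule F V} :
    ∀ (c : ℕ) (M : Multiset (Lab F)), M.card = c → Dec B Q g U M → ∃ M', Dec B Q g U M' ∧ VSmall M' := by
  classical
  intro c
  induction c using Nat.strong_induction_on with
  | _ c ih =>
    intro M hc hM
    by_cases hs : VSmall M
    · exact ⟨M, hM, hs⟩
    simp only [VSmall] at hs
    push Not at hs
    obtain ⟨k, hk⟩ := hs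
    obtain ⟨R3, hR3m⟩ := Multiset.card_pos_iff_exists_mem.1
      (show 0 < (Multiset.powersetCard 3 (M.filter fun z => z.isPv k = true)).card by
        rw [Multiset.card_powersetCard]; exact Nat.choose_pos (by omega))
    obtain ⟨hR3, hcard⟩ := Multiset.mem_powersetCard.1 hR3m
    have hmem : ∀ z ∈ R3, z.isPv k = true := fun z hz => (Multiset.mem_filter.1 (Multiset.mem_of_le hR3 hz)).2
    obtain ⟨z1, z2, z3, rfl⟩ := Multiset.card_eq_three.1 hcard
    have hpv : ∀ z : Lab F, z.isPv k = true → ∃ b, z = Lab.pv k b := by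
      intro z hz
      cases z with
      | reg P e => simp [Lab.isPv] at hz
      | pv l b => exact ⟨b, by rw [show l = k by simpa [Lab.isPv] using hz]⟩
      | pw m b => simp [Lab.isPv] at hz
    obtain ⟨b1, rfl⟩ := hpv z1 (hmem _ (by simp))
    obtain ⟨b2, rfl⟩ := hpv z2 (hmem _ (by simp))
    obtain ⟨b3, rfl⟩ := hpv z3 (hmem _ (by simp))
    obtain ⟨R, rfl⟩ := Multiset.le_iff_exists_add.1 (hR3.trans (Multiset.filter_le _ _))
    obtain ⟨X, hX, hXi, hXnd, hXd, hrest⟩ := Dec.split h _ hM
    obtain ⟨b, hb⟩ := tradeVVV h hXi hXnd (show Dec B Q g X (Lab.pv k b1 ::ₘ Lab.pv k b2 ::ₘ Lab.pv k b3 ::ₘ 0) from hXd)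
    refine ih _ ?_ _ rfl (Dec.join h hb hXi hXnd hX hrest)
    simp at hc ⊢
    omega

/-- a normalised decomposition -/
theorem exists_good {U : Submodule F V} :
    ∀ (c : ℕ) (M : Multiset (Lab F)), bitWt M = c → VSmall M → Dec B Q g U M →
      ∃ M', Dec B Q g U M' ∧ VSmall M' ∧ Good M' := by
  classical
  intro c
  induction c using Nat.strong_induction_on with
  | _ c ih =>
    intro M hc hs hM
    by_cases hG : Good M
    · exact ⟨M, hM, hs, hG⟩
    simp only [Good] at hG
    push Not at hG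
    obtain ⟨z, R0, rfl, hz, z', hz', hl⟩ := hG
    obtain ⟨R, rfl⟩ := Multiset.exists_cons_of_mem hz'
    have hn : z.IsNode := node_of_bit (hM.valid z (Multiset.mem_cons_self _ _)) hz
    have hn' : z'.IsNode := hl.1
    refine ih _ ?_ _ rfl (fun k => ?_) (hM.toggle h hn hl)
    · rw [← hc, bitWt_cons, bitWt_cons, bitWt_cons, bitWt_cons, (bit_flip hn).1, (bit_flip hn').1, (bit_flip hn).2,
        (bit_flip hn').2, hz]
      have h2 : ∀ i : ℕ, 0 < 2 ^ i := fun i => Nat.two_pow_pos i
      cases hb : z'.bit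
      · have hlt : z'.pos < z.pos := by
          rcases hl.2 with ⟨-, e⟩ | e | ⟨-, e⟩
          · rw [hb] at e; exact absurd e Bool.false_ne_true
          · omega
          · omega
        have := Nat.pow_lt_pow_right (a := 2) one_lt_two hlt
        simp
        omega
      · have := h2 z.pos
        have := h2 z'.pos
        simp
        omega
    · have hk := hs k
      simp only [Multiset.filter_cons, isPv_flip] at hk ⊢
      split_ifs at hk ⊢ <;> simpa using hk

theorem exists_normal (hnd : NdOn B (⊤ : Submodule F V)) :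
    ∃ M, Dec B Q g ⊤ M ∧ VSmall M ∧ Good M := by
  obtain ⟨M0, hM0⟩ := exists_dec h _ ⊤ rfl (fun _ _ => Submodule.mem_top) hnd
  obtain ⟨M1, hM1, hs⟩ := exists_vsmall h _ M0 rfl hM0
  exact exists_good h _ M1 rfl hs hM1

omit [Fintype F] [CharP F 2] [FiniteDimensional F V] h in
theorem Dec.congrQ {U : Submodule F V} {M : Multiset (Lab F)} {Q' : V → F} (hU : ∀ x ∈ U, g x ∈ U)
    (hQ : ∀ x ∈ U, Q' x = Q x) (hM : Dec B Q g U M) (hi : ∀ U' ≤ U, ∀ x ∈ U', Q' x = Q x := fun _ h x hx => hQ x (h hx)) :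
    Dec B Q' g U M := by
  clear hU hQ
  induction hM with
  | zero => exact Dec.zero
  | @cons U W z M hW hle hM ih =>
    refine Dec.cons ?_ hle (ih fun U' hU' => hi U' (hU'.trans inf_le_left))
    have hq := hi W hle
    cases z with
    | reg P e => exact hW
    | pv k b =>
      obtain ⟨x, ⟨hk, hx, ht, hb⟩, rfl⟩ := hW
      refine ⟨x, ⟨hk, hx, ht, ?_⟩, rfl⟩
      have e : Q' (tp g (k - 1) x) = Q (tp g (k - 1) x) :=
        hq _ (tp_mem_spanT (x := ![x]) (fun i => by fin_cases i; exact hx) 0 _)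
      rw [e]
      exact hb
    | pw m b =>
      obtain ⟨x, y, ⟨hm, hx, hy, ht, hxx, hyy, hb⟩, rfl⟩ := hW
      have hk : ∀ i, tp g m (![x, y] i) = 0 := fun i => by fin_cases i <;> assumption
      refine ⟨x, y, ⟨hm, hx, hy, ht, hxx, hyy, ?_⟩, rfl⟩
      have e1 : Q' (tp g ((m - 1) / 2) x) = Q (tp g ((m - 1) / 2) x) := hq _ (tp_mem_spanT (x := ![x, y]) hk 0 _)
      have e2 : Q' (tp g ((m - 1) / 2) y) = Q (tp g ((m - 1) / 2) y) := hq _ (tp_mem_spanT (x := ![x, y]) hk 1 _)
      rw [e1, e2]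
      exact hb

omit [Fintype F] [FiniteDimensional F V] in
theorem QAut.add_sq {w : V} (hw : g w = w) : QAut B (fun v => Q v + B w v * B w v) g where
  add x y := by
    rw [h.add, _root_.map_add]
    have e : B w x * B w y + B w x * B w y = 0 := CharTwo.add_self_eq_zero _
    linear_combination e
  smul c x := by
    rw [h.smul, _root_.map_smul, smul_eq_mul]
    ring
  inv x := by
    have e : B w (g x) = B w x := by
      have := h.binv w x
      rwa [hw] at this
    rw [h.inv, e]

theorem ground_step (hnd : NdOn B (⊤ : Submodule F V)) {z : Lab F} {R : Multiset (Lab F)}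
    (hM : Dec B Q g ⊤ (z ::ₘ R)) (hz : z.bit = true) (hp : z.pos ≤ 2) :
    ∃ Q', QAut B Q' g ∧ Dec B Q' g ⊤ (z.flip ::ₘ R) := by
  obtain ⟨W, R', hW, hle, hRR, hrest⟩ := hM.front h (Multiset.mem_cons_self z R)
  rw [Multiset.cons_inj_right] at hRR
  subst hRR
  suffices key : ∃ w ∈ W, g w = w ∧ IsPc B (fun v => Q v + B w v * B w v) g W z.flip by
    obtain ⟨w, hw, hgw, hW'⟩ := key
    refine ⟨_, h.add_sq hgw, Dec.cons hW' hle ?_⟩
    obtain ⟨hWi, hWnd, -⟩ := pc_props h hW
    refine Dec.congrQ (rest_props h.formAut (fun _ _ => Submodule.mem_top) hnd hle hWi hWnd).1 (fun x hx => ?_) hrest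
    rw [show B w x = 0 from hx.2 w hw, mul_zero, add_zero]
  set α := asRoot F
  have hshift : ∀ a : F, asB (a + α * α) = !asB a := fun a => by
    rw [asB_add, show α * α = asT F from rfl, asB_asT, Bool.xor_true]
  cases z with
  | reg P e => simp [Lab.bit] at hz
  | pv k b =>
    obtain ⟨x0, hx0, rfl⟩ := hW
    obtain ⟨x, hxm, hVx, ht, -⟩ := hx0.normal h
    have hk : k = 1 := by
      have : 1 ≤ k := hVx.1
      simp only [Lab.pos] at hp
      omega
    subst hk
    obtain ⟨-, hx, -, hb⟩ := hVx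
    rw [ht, div_one] at hb
    simp only [Nat.sub_self, tp_zero, show 2 * 1 - 1 = 1 from rfl] at hb ht
    have hinv : ∀ v ∈ spanT g (2 * 1) ![x0], g v ∈ spanT g (2 * 1) ![x0] := fun v hv => spanT_inv (hx0.sys h).kill hv
    set w := α • tp g 1 x with hw
    have hgw : g w = w := by
      have e : tp g 1 w = 0 := by rw [hw, _root_.map_smul, ← tp_add, hx, smul_zero]
      rw [tp_one, nT_apply, sub_eq_zero] at e
      exact e
    have h' := h.add_sq hgw
    refine ⟨w, Submodule.smul_mem _ _ (tp_mem hinv 1 hxm), hgw, x, ⟨le_rfl, hx, ?_, ?_⟩, ?_⟩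
    · rw [show 2 * 1 - 1 = 1 from rfl, ht]; exact one_ne_zero
    · simp only [Nat.sub_self, tp_zero, show 2 * 1 - 1 = 1 from rfl]
      have e : B w x = α := by rw [hw, LinearMap.map_smul₂, ht, smul_eq_mul, mul_one]
      rw [ht, div_one, e, hshift, hb]
    · exact ((hx0.sys h).span_eq h (isV_of h le_rfl hx (by simpa using ht) rfl |>.sys h)
        (fun i => by fin_cases i; exact hxm)).symm
  | pw m b =>
    obtain ⟨a0, c0, hW0, rfl⟩ := hW
    have hm1 : m = 1 := by
      have ho : Odd m := (hW0.2.2.2.2.2.2.1 hz).1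
      rw [Nat.odd_iff] at ho
      simp only [Lab.pos] at hp
      omega
    subst hm1
    obtain ⟨x, hxm, y, hym, hx, hy, ht, hqx, hqy⟩ := hW0.scaled_one h odd_one
    simp only [Nat.sub_self, Nat.zero_div, tp_zero] at ht hqx hqy
    set w := α • x with hw
    have hgw : g w = w := by
      have e : tp g 1 w = 0 := by rw [hw, _root_.map_smul, hx, smul_zero]
      rw [tp_one, nT_apply, sub_eq_zero] at e
      exact e
    refine ⟨w, Submodule.smul_mem _ _ hxm, hgw, x, y, isW_of (h.add_sq hgw) odd_one hx hy (by simpa [tp_zero] using ht) ?_, ?_⟩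
    · simp only [Nat.sub_self, Nat.zero_div, tp_zero]
      rw [hw, LinearMap.map_smul₂, LinearMap.map_smul₂, h.alt, ht, hqx, smul_eq_mul, smul_eq_mul, mul_zero, mul_zero,
        add_zero, one_mul, mul_one, hshift, hqy]
    · refine ((hW0.sys h).span_eq h (isW_of h odd_one hx hy (by simpa [tp_zero] using ht) rfl |>.sys h)
        (fun i => by fin_cases i <;> [exact hxm; exact hym])).symm

/-- some invariant form has no bits at positions one and two -/
theorem exists_grounded (hnd : NdOn B (⊤ : Submodule F V)) :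
    ∃ (Q' : V → F) (M : Multiset (Lab F)), QAut B Q' g ∧ Dec B Q' g ⊤ M ∧ VSmall M ∧ Good M ∧
      ∀ z ∈ M, z.pos ≤ 2 → z.bit = false := by
  classical
  obtain ⟨M0, hM0, hs0, hG0⟩ := exists_normal h hnd
  suffices key : ∀ (c : ℕ) (Q' : V → F) (M : Multiset (Lab F)),
      (M.filter fun z => z.pos ≤ 2 ∧ z.bit = true).card = c → QAut B Q' g → Dec B Q' g ⊤ M → VSmall M → Good M →
      ∃ (Q'' : V → F) (M' : Multiset (Lab F)), QAut B Q'' g ∧ Dec B Q'' g ⊤ M' ∧ VSmall M' ∧ Good M' ∧
        ∀ z ∈ M', z.pos ≤ 2 → z.bit = false from key _ Q M0 rfl h hM0 hs0 hG0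
  intro c
  induction c with
  | zero =>
    intro Q' M hc h' hM hs hG
    refine ⟨Q', M, h', hM, hs, hG, fun z hz hp => ?_⟩
    rw [Multiset.card_eq_zero, Multiset.filter_eq_nil] at hc
    simpa using fun hb => hc z hz ⟨hp, hb⟩
  | succ c ih =>
    intro Q' M hc h' hM hs hG
    obtain ⟨z, hz⟩ := Multiset.card_pos_iff_exists_mem.1 (show 0 < (M.filter _).card by rw [hc]; omega)
    obtain ⟨hzM, hp, hb⟩ := Multiset.mem_filter.1 hz
    obtain ⟨R, rfl⟩ := Multiset.exists_cons_of_mem hzM
    have hn := node_of_bit (hM.valid z hzM) hb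
    obtain ⟨hfb, hfp⟩ := bit_flip hn
    rw [hb] at hfb
    obtain ⟨Q2, h2, hM2⟩ := ground_step h' hnd hM hb hp
    refine ih Q2 _ ?_ h2 hM2 (fun k => ?_) ?_
    · rw [Multiset.filter_cons_of_neg _ (by simp [hfb])]
      rw [Multiset.filter_cons_of_pos _ ⟨hp, hb⟩, Multiset.card_cons] at hc
      omega
    · have hk := hs k
      simp only [Multiset.filter_cons, isPv_flip] at hk ⊢
      split_ifs at hk ⊢ <;> simpa using hk
    · intro y R1 he hy z' hz'
      have hne : y ≠ z.flip := fun e => by rw [e, hfb] at hy; exact Bool.false_ne_true hy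
      have hyR : y ∈ R := ((Multiset.mem_cons.1 (he ▸ Multiset.mem_cons_self y R1)).resolve_left hne)
      obtain ⟨R2, rfl⟩ := Multiset.exists_cons_of_mem hyR
      rw [Multiset.cons_swap, Multiset.cons_inj_right] at he
      subst he
      have hold := hG y (z ::ₘ R2) (Multiset.cons_swap _ _ _) hy
      rcases Multiset.mem_cons.1 hz' with rfl | hz'
      · intro hl
        refine hold z (Multiset.mem_cons_self _ _) ⟨hn, ?_⟩
        rcases hl.2 with ⟨-, e⟩ | e
        · rw [hfb] at e; exact absurd e Bool.false_ne_true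
        · rw [hfp] at e; exact Or.inr e
      · exact hold z' (Multiset.mem_cons_of_mem hz')

end Cfsg.Agent.CN9.Two
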