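import Cfsg.Agent.ClassNum9.Two.Count
import Cfsg.Agent.Lib.GLSemisimple.SpClasses

/-!
`k(Sp_{2n}(q)) ≤ 15.2 q^n` for even `q`.
-/

set_option autoImplicit false

namespace Cfsg.Agent.CN9.Two

open Polynomial Module Cfsg.Agent.GLSemi

universe u v

variable {F : Type u} [Field F] [Fintype F] [CharP F 2] {V : Type v} [AddCommGroup V] [Module F V]

omit [Fintype F] in
theorem sq_inj {a b : F} (h : a * a = b * b) : a = b := by
  have e : a * b + a * b = 0 := CharTwo.add_self_eq_zero _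
  have e2 : b * b + b * b = 0 := CharTwo.add_self_eq_zero _
  have h1 : (a + b) * (a + b) = 0 := by linear_combination h + e + e2
  have h2 : a + b = 0 := mul_self_eq_zero.1 h1
  have e3 : b + b = 0 := CharTwo.add_self_eq_zero _
  linear_combination h2 - e3

/-- an invariant quadratic map with given polar form -/
theorem exists_inv_form {B : LinearMap.BilinForm F V} {Q : V → F} {g : V ≃ₗ[F] V}
    (hadd : ∀ x y, Q (x + y) = Q x + Q y + B x y) (hsmul : ∀ (c : F) x, Q (c • x) = c * c * Q x)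
    (hB : ∀ x y, B (g x) (g y) = B x y) : ∃ Q', QAut B Q' g := by
  choose sq hsq using fun x => exists_sqrt_two (Q (g x) + Q x)
  have e : ∀ a : F, a + a = 0 := CharTwo.add_self_eq_zero
  let l : V →ₗ[F] F :=
    { toFun := sq
      map_add' := fun x y => sq_inj (by
        rw [hsq, _root_.map_add, hadd, hadd, hB]
        linear_combination e (B x y) - (sq x) * e (sq y) - hsq x - hsq y)
      map_smul' := fun c x => sq_inj (by
        rw [hsq, _root_.map_smul, hsmul, hsmul, RingHom.id_apply, smul_eq_mul]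
        linear_combination -(c * c) * hsq x) }
  obtain ⟨m, hm⟩ : ∃ m : V →ₗ[F] F, m.comp (nT g) = l := by
    have hl : l ∈ (LinearMap.ker (nT g)).dualAnnihilator := by
      rw [Submodule.mem_dualAnnihilator]
      intro x hx
      have hx' : g x = x := sub_eq_zero.1 (by rw [← nT_apply]; exact hx)
      refine sq_inj ?_
      show sq x * sq x = 0 * 0
      rw [hsq, hx', e, zero_mul]
    rw [← LinearMap.range_dualMap_eq_dualAnnihilator_ker] at hl
    exact hl
  refine ⟨fun x => Q x + m x * m x, fun x y => ?_, fun c x => ?_, fun x => ?_⟩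
  · rw [hadd, _root_.map_add]
    linear_combination (m x) * e (m y)
  · rw [hsmul, _root_.map_smul, smul_eq_mul]
    ring
  · have h1 : m (g x) = m x + sq x := by
      have h2 : m (nT g x) = sq x := LinearMap.congr_fun hm x
      rw [← h2, ← _root_.map_add, nT_apply, add_sub_cancel]
    rw [h1]
    linear_combination hsq x + (m x) * e (sq x) + e (Q (g x))

variable {V' : Type v} [AddCommGroup V'] [Module F V'] [FiniteDimensional F V] [FiniteDimensional F V']

/-- equal labels: isometric -/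
theorem exists_isometry2 {B : LinearMap.BilinForm F V} {Q : V → F} {g : V ≃ₗ[F] V} (h : QAut B Q g)
    {B' : LinearMap.BilinForm F V'} {Q' : V' → F} {g' : V' ≃ₗ[F] V'} (h' : QAut B' Q' g')
    (hnd : NdOn B (⊤ : Submodule F V)) (hr : finrank F V = finrank F V') {M : Multiset (Lab F)}
    (hM : Dec B Q g ⊤ M) (hM' : Dec B' Q' g' ⊤ M) :
    ∃ f : V ≃ₗ[F] V', (∀ x y, B' (f x) (f y) = B x y) ∧ (∀ x, Q' (f x) = Q x) ∧ ∀ x, f (g x) = g' (f x) := by
  obtain ⟨f, hf, hfB, hfQ, hfg⟩ := dec_iso h h' hM (fun _ _ => Submodule.mem_top) hnd hM'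
  rw [Submodule.map_top] at hf
  have hsur : Function.Surjective f := LinearMap.range_eq_top.1 hf
  exact ⟨LinearEquiv.ofBijective f ⟨(LinearMap.injective_iff_surjective_of_finrank_eq_finrank hr).2 hsur, hsur⟩,
    fun x y => hfB x Submodule.mem_top y Submodule.mem_top, fun x => hfQ x Submodule.mem_top,
    fun x => hfg x Submodule.mem_top⟩

open Matrix in
theorem card_classes_Sp_two (n : ℕ) :
    5 * Nat.card (ConjClasses ↥(Matrix.symplecticGroup (Fin n) F)) ≤ 76 * Fintype.card F ^ n := by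
  classical
  let B : LinearMap.BilinForm F (Fin n ⊕ Fin n → F) := Matrix.toBilin' (Matrix.J (Fin n) F)
  have hB : ∀ x y, B x y = x ⬝ᵥ Matrix.J (Fin n) F *ᵥ y := fun x y => Matrix.toBilin'_apply' _ x y
  let Q0 : (Fin n ⊕ Fin n → F) → F := fun x => ∑ i, x (Sum.inl i) * x (Sum.inr i)
  have hQadd : ∀ x y, Q0 (x + y) = Q0 x + Q0 y + B x y := by
    intro x y
    rw [hB, dotProduct, Fintype.sum_sum_type]
    simp only [Q0, Matrix.mulVec, dotProduct, Fintype.sum_sum_type, Matrix.J, Matrix.fromBlocks_apply₁₁,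
      Matrix.fromBlocks_apply₁₂, Matrix.fromBlocks_apply₂₁, Matrix.fromBlocks_apply₂₂, Matrix.zero_apply,
      Matrix.neg_apply, Matrix.one_apply, Pi.add_apply, CharTwo.neg_eq, ite_mul, zero_mul, one_mul,
      Finset.sum_const_zero, Finset.sum_ite_eq, Finset.mem_univ, if_true, zero_add, add_zero]
    rw [← Finset.sum_add_distrib, ← Finset.sum_add_distrib, ← Finset.sum_add_distrib]
    exact Finset.sum_congr rfl fun i _ => by ring
  have hQsmul : ∀ (c : F) x, Q0 (c • x) = c * c * Q0 x := fun c x => by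
    simp only [Q0, Pi.smul_apply, smul_eq_mul, Finset.mul_sum]
    exact Finset.sum_congr rfl fun i _ => by ring
  have hdot : ∀ (A : Matrix (Fin n ⊕ Fin n) (Fin n ⊕ Fin n) F) x y,
      (A *ᵥ x) ⬝ᵥ Matrix.J (Fin n) F *ᵥ (A *ᵥ y) = x ⬝ᵥ (Aᵀ * Matrix.J (Fin n) F * A) *ᵥ y := fun A x y => by
    rw [← Matrix.mulVec_mulVec, ← Matrix.mulVec_mulVec, Matrix.dotProduct_mulVec x Aᵀ, Matrix.vecMul_transpose]
  have hBsymm : ∀ x y, B x y = B y x := fun x y => by
    have h1 := hQadd x y
    rw [add_comm x y, hQadd y x, add_comm (Q0 y)] at h1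
    exact (add_left_cancel h1).symm
  have hBnd : NdOn B (⊤ : Submodule F (Fin n ⊕ Fin n → F)) := by
    intro x _ hx
    have h1 : Matrix.J (Fin n) F *ᵥ x = 0 := funext fun i => by
      have h := hBsymm x (Pi.single i 1)
      rw [hx _ Submodule.mem_top, hB, single_dotProduct, one_mul] at h
      exact h.symm
    have h3 : (Matrix.J (Fin n) F * Matrix.J (Fin n) F) *ᵥ x = 0 := by
      rw [← Matrix.mulVec_mulVec, h1, Matrix.mulVec_zero]
    rwa [Matrix.J_squared, Matrix.neg_mulVec, Matrix.one_mulVec, neg_eq_zero] at h3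
  let toEquiv : ↥(Matrix.symplecticGroup (Fin n) F) → ((Fin n ⊕ Fin n → F) ≃ₗ[F] (Fin n ⊕ Fin n → F)) := fun a =>
    LinearEquiv.ofLinearMap (Matrix.toLin' (a : Matrix (Fin n ⊕ Fin n) (Fin n ⊕ Fin n) F))
      (Matrix.toLin' ((a⁻¹ : ↥(Matrix.symplecticGroup (Fin n) F)) : Matrix (Fin n ⊕ Fin n) (Fin n ⊕ Fin n) F))
      (by rw [← Matrix.toLin'_mul, ← Submonoid.coe_mul, mul_inv_cancel]; exact Matrix.toLin'_one)
      (by rw [← Matrix.toLin'_mul, ← Submonoid.coe_mul, inv_mul_cancel]; exact Matrix.toLin'_one)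
  have happ : ∀ a x, toEquiv a x = (a : Matrix (Fin n ⊕ Fin n) (Fin n ⊕ Fin n) F) *ᵥ x := fun a x => rfl
  have hBinv : ∀ a x y, B (toEquiv a x) (toEquiv a y) = B x y := fun a x y => by
    rw [happ, happ, hB, hB, hdot, SymplecticGroup.mem_iff'.1 a.2]
  have hex : ∀ a, ∃ (Q : (Fin n ⊕ Fin n → F) → F) (M : Multiset (Lab F)), QAut B Q (toEquiv a) ∧
      Dec B Q (toEquiv a) ⊤ M ∧ VSmall M ∧ Good M ∧ ∀ z ∈ M, z.pos ≤ 2 → z.bit = false := fun a => by
    obtain ⟨Q, hQ⟩ := exists_inv_form hQadd hQsmul (hBinv a)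
    exact exists_grounded hQ hBnd
  choose Qf Mf hQf hMf hs hG hgr using hex
  let L : ↥(Matrix.symplecticGroup (Fin n) F) → LSet F n := fun a => ⟨Mf a, (hMf a).valid, hs a, hG a, by
    rw [dec_dim (hQf a) (hMf a) (fun _ _ => Submodule.mem_top) hBnd, finrank_top,
      Module.finrank_fintype_fun_eq_card, Fintype.card_sum, Fintype.card_fin, two_mul]⟩
  have hconj : ∀ a b, codeOf (L a) = codeOf (L b) → IsConj a b := by
    intro a b hab
    have hMM : Mf a = Mf b := congrArg Subtype.val (codeOf_inj hab)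
    obtain ⟨f, hfB, -, hfg⟩ := exists_isometry2 (hQf a) (hQf b) hBnd rfl (hMf a) (hMM ▸ hMf b)
    set c := LinearMap.toMatrix' (f : (Fin n ⊕ Fin n → F) →ₗ[F] (Fin n ⊕ Fin n → F))
    have hc : ∀ x, c *ᵥ x = f x := fun x => by rw [← Matrix.toLin'_apply, Matrix.toLin'_toMatrix']; rfl
    have hcmem : c ∈ Matrix.symplecticGroup (Fin n) F := by
      rw [SymplecticGroup.mem_iff']
      refine Matrix.toBilin'.injective (LinearMap.ext fun x => LinearMap.ext fun y => ?_)
      rw [Matrix.toBilin'_apply', Matrix.toBilin'_apply', ← hdot, hc, hc]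
      have := hfB x y
      rw [hB, hB] at this
      exact this
    refine isConj_iff.2 ⟨⟨c, hcmem⟩, ?_⟩
    rw [mul_inv_eq_iff_eq_mul]
    refine Subtype.ext (Matrix.ext_of_mulVec_single fun i => ?_)
    rw [Submonoid.coe_mul, Submonoid.coe_mul, ← Matrix.mulVec_mulVec, ← Matrix.mulVec_mulVec]
    show c *ᵥ _ = _
    rw [← happ, hc, hfg, happ, ← hc]
  haveI : ∀ d, Finite (SPoly F d) := fun d => (card_SPoly_le d).1
  let S := {x : Code F n // cWt x = n ∧ CCond x ∧ (true = true → ∀ j : Fin n, (j : ℕ) = 0 → x.2.2 j = false)}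
  have hle : Nat.card (ConjClasses ↥(Matrix.symplecticGroup (Fin n) F)) ≤ Nat.card S := by
    refine Nat.card_le_card_of_injective (fun C => (⟨(codeOf (L (Quotient.out C))).1, (codeOf (L (Quotient.out C))).2.1,
      (codeOf (L (Quotient.out C))).2.2, fun _ j hj => ?_⟩ : S)) fun C C' h => ?_
    · show betaAt (Mf (Quotient.out C)) j = false
      by_contra hc
      obtain ⟨z, hz, hb, hp⟩ := (betaAt_iff _ _).1 (Bool.eq_true_of_not_eq_false hc)
      have := hgr _ z hz (by omega)
      rw [hb] at this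
      exact Bool.false_ne_true this.symm
    · have := ConjClasses.mk_eq_mk_iff_isConj.2 (hconj _ _ (Subtype.ext (congrArg Subtype.val h :)))
      exact (Quotient.out_eq C).symm.trans (this.trans (Quotient.out_eq C'))
  have h1 := card_chain_le (F := F) n true
  rw [if_pos rfl] at h1
  have hle' : (Nat.card (ConjClasses ↥(Matrix.symplecticGroup (Fin n) F)) : ℝ) ≤ (Nat.card S : ℝ) :=
    Nat.cast_le.2 hle
  have h2 := mul_le_mul_of_nonneg_left (gSum_sp n) (show (0 : ℝ) ≤ (Fintype.card F : ℝ) ^ n by positivity)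
  rw [← Nat.cast_le (α := ℝ)]
  push_cast
  linarith [h1, hle', h2]

end Cfsg.Agent.CN9.Two
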