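import Cfsg.Agent.ClassNum9.Two.Gauss
import Cfsg.Agent.ClassNum9.Two.SpBound
import Cfsg.Prelude.Def_Classical

/-!
`k(O^±_{2n}(q)) ≤ 15 q^n` for even `q`.
-/

set_option autoImplicit false

namespace Cfsg.Agent.CN9.Two

open Polynomial Module Cfsg.Agent.GLSemi

universe u

variable {F : Type u} [Field F]

theorem isPv_vInd (z : Lab F) (k : ℕ) : z.flip.vInd k = z.vInd k ∧ z.flip.wInd k = z.wInd k ∧ z.flip.regs k = z.regs k := by
  cases z <;> exact ⟨rfl, rfl, rfl⟩

theorem Good.drop {z : Lab F} {R : Multiset (Lab F)} (hG : Good (z ::ₘ R)) (hn : z.IsNode) (hb : z.bit = true) :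
    Good (z.flip ::ₘ R) := by
  classical
  obtain ⟨hfb, hfp⟩ := bit_flip hn
  rw [hb] at hfb
  intro y R1 he hy z' hz'
  have hne : y ≠ z.flip := fun e => by rw [e, hfb] at hy; exact Bool.false_ne_true hy
  have hyR : y ∈ R := ((Multiset.mem_cons.1 (he ▸ Multiset.mem_cons_self y R1)).resolve_left hne)
  obtain ⟨R2, rfl⟩ := Multiset.exists_cons_of_mem hyR
  rw [Multiset.cons_swap, Multiset.cons_inj_right] at he
  subst he
  have hold := hG y (z ::ₘ R2) (Multiset.cons_swap _ _ _) hy
  rcases Multiset.mem_cons.1 hz' with rfl | hz'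
  · intro hl
    refine hold z (Multiset.mem_cons_self _ _) ⟨hn, ?_⟩
    rcases hl.2 with ⟨-, e⟩ | e
    · rw [hfb] at e; exact absurd e Bool.false_ne_true
    · rw [hfp] at e; exact Or.inr e
  · exact hold z' (Multiset.mem_cons_of_mem hz')

theorem valid_flip {z : Lab F} (hv : z.Valid) (hn : z.IsNode) : z.flip.Valid := by
  cases z with
  | reg P e => exact hn.elim
  | pv k b => exact hv
  | pw m b => exact ⟨hv.1, fun _ => hn⟩

variable [CharP F 2]

/-- labels differing only in the bit of one level -/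
theorem exists_flip {n : ℕ} (M M' : LSet F n) {j0 : ℕ} (hp : ∀ k, 1 ≤ k → polyAt M.1 k = polyAt M'.1 k)
    (hc : ∀ k, 1 ≤ k → nV M.1 k = nV M'.1 k) (hb : ∀ j, j ≠ j0 → betaAt M.1 j = betaAt M'.1 j)
    (h1 : betaAt M.1 j0 = true) (h2 : betaAt M'.1 j0 = false) :
    ∃ z R, z.IsNode ∧ M.1 = z ::ₘ R ∧ M'.1 = z.flip ::ₘ R := by
  classical
  obtain ⟨z, hz, hzb, hzp⟩ := (betaAt_iff _ _).1 h1
  obtain ⟨R, hR⟩ := Multiset.exists_cons_of_mem hz
  have hn := node_of_bit (M.2.1 z hz) hzb
  have hG : Good (z ::ₘ R) := hR ▸ M.2.2.2.1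
  obtain ⟨hfb, hfp⟩ := bit_flip hn
  rw [hzb] at hfb
  have honly : ∀ y ∈ R, y.bit = true → y.pos ≠ 2 * j0 + 1 ∧ y.pos ≠ 2 * j0 + 2 := by
    intro y hy hyb
    have hny := node_of_bit (M.2.1 y (hR ▸ Multiset.mem_cons_of_mem hy)) hyb
    have e1 : ¬ Linked z y := hG z R rfl hzb y hy
    obtain ⟨R2, rfl⟩ := Multiset.exists_cons_of_mem hy
    have e2 : ¬ Linked y z := hG y (z ::ₘ R2) (Multiset.cons_swap _ _ _) hyb z (Multiset.mem_cons_self _ _)
    simp only [Linked, hny, hn, hyb, hzb, true_and, and_true, not_or] at e1 e2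
    omega
  refine ⟨z, R, hn, hR, (labels_inj ?_ M'.2.1 (hG.drop hn hzb) M'.2.2.2.1 (fun k hk => ?_) (fun k hk => ?_) fun j => ?_).symm⟩
  · intro y hy
    rcases Multiset.mem_cons.1 hy with rfl | hy
    · exact valid_flip (M.2.1 z hz) hn
    · exact M.2.1 y (hR ▸ Multiset.mem_cons_of_mem hy)
  · rw [← hp k hk, hR]
    simp only [polyAt, regsAt, nW, Multiset.map_cons, Multiset.sum_cons, (isPv_vInd z k).2.1, (isPv_vInd z k).2.2]
  · rw [← hc k hk, hR]
    simp only [nV, Multiset.map_cons, Multiset.sum_cons, (isPv_vInd z k).1]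
  · by_cases hj : j = j0
    · subst hj
      rw [h2, ← Bool.not_eq_true, betaAt_iff]
      rintro ⟨y, hy, hyb, hyp⟩
      rcases Multiset.mem_cons.1 hy with rfl | hy
      · rw [hfb] at hyb; exact Bool.false_ne_true hyb
      · obtain ⟨a, b⟩ := honly y hy hyb
        omega
    · rw [← hb j hj, hR, Bool.eq_iff_iff, betaAt_iff, betaAt_iff]
      constructor
      · rintro ⟨y, hy, hyb, hyp⟩
        rcases Multiset.mem_cons.1 hy with rfl | hy
        · rw [hfb] at hyb; exact absurd hyb Bool.false_ne_true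
        · exact ⟨y, Multiset.mem_cons_of_mem hy, hyb, hyp⟩
      · rintro ⟨y, hy, hyb, hyp⟩
        rcases Multiset.mem_cons.1 hy with rfl | hy
        · omega
        · exact ⟨y, Multiset.mem_cons_of_mem hy, hyb, hyp⟩

/-- a level that can carry a bit -/
def hasNode {n : ℕ} (x : Code F n) (j : Fin n) : Prop :=
  (x.2.1 j : ℕ) ≠ 0 ∨ (X - C (1 : F)) ^ 2 ∣ ((x.1 ⟨2 * (j : ℕ), by omega⟩).2 : F[X])

/-- the lowest such level -/
noncomputable def lowNode {n : ℕ} (x : Code F n) : Option (Fin n) := by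
  classical
  exact if h : (Finset.univ.filter (hasNode x)).Nonempty then some ((Finset.univ.filter (hasNode x)).min' h) else none

/-- setting the bit of a level -/
def setBit {n : ℕ} (x : Code F n) (j : Fin n) (b : Bool) : Code F n :=
  (x.1, x.2.1, Function.update x.2.2 j b)

omit [CharP F 2] in
theorem lowNode_congr {n : ℕ} {x y : Code F n} (h1 : x.1 = y.1) (h2 : x.2.1 = y.2.1) : lowNode x = lowNode y := by
  classical
  have e : hasNode x = hasNode y := by
    funext j
    rw [hasNode, hasNode, h1, h2]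
  unfold lowNode
  simp only [e]

omit [CharP F 2] in
theorem lowNode_some {n : ℕ} {x : Code F n} {j : Fin n} (h : lowNode x = some j) :
    hasNode x j ∧ ∀ i, hasNode x i → j ≤ i := by
  classical
  simp only [lowNode] at h
  split_ifs at h with hne
  obtain rfl := Option.some_injective _ h
  refine ⟨(Finset.mem_filter.1 (Finset.min'_mem _ hne)).2, fun i hi => Finset.min'_le _ _ ?_⟩
  exact Finset.mem_filter.2 ⟨Finset.mem_univ _, hi⟩

omit [CharP F 2] in
theorem lowNode_none {n : ℕ} {x : Code F n} (h : lowNode x = none) (hx : CCond x) :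
    cbOf x = fun _ => (0, false) := by
  classical
  simp only [lowNode] at h
  split_ifs at h with hne
  rw [Finset.not_nonempty_iff_eq_empty, Finset.filter_eq_empty_iff] at hne
  funext j
  have hj := hne (Finset.mem_univ j)
  simp only [hasNode, not_or, not_not] at hj
  refine Prod.ext (Fin.val_eq_zero_iff.1 hj.1) ?_
  show x.2.2 j = false
  by_contra hb
  rcases (hx j (Bool.eq_true_of_not_eq_false hb)).2 with h1 | h1
  · exact hj.2 h1
  · exact h1 hj.1

variable [Fintype F]

open Matrix in
theorem card_classes_O_two {ι : Type} [Fintype ι] [DecidableEq ι] {n : ℕ} (hι : Fintype.card ι = 2 * n)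
    (B : LinearMap.BilinForm F (ι → F)) (Q : (ι → F) → F) (hadd : ∀ x y, Q (x + y) = Q x + Q y + B x y)
    (hsmul : ∀ (c : F) x, Q (c • x) = c * c * Q x) (hnd : NdOn B (⊤ : Submodule F (ι → F))) :
    Nat.card (ConjClasses ↥(Cfsg.isometryGroup F Q)) ≤ 15 * Fintype.card F ^ n := by
  classical
  let G := ↥(Cfsg.isometryGroup F Q)
  let toEquiv : G → ((ι → F) ≃ₗ[F] (ι → F)) := fun a =>
    LinearEquiv.ofLinearMap (Matrix.toLin' ((a : Matrix.GeneralLinearGroup ι F) : Matrix ι ι F))
      (Matrix.toLin' (((a : Matrix.GeneralLinearGroup ι F)⁻¹ : Matrix.GeneralLinearGroup ι F) : Matrix ι ι F))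
      (by rw [← Matrix.toLin'_mul, ← Units.val_mul, mul_inv_cancel]; exact Matrix.toLin'_one)
      (by rw [← Matrix.toLin'_mul, ← Units.val_mul, inv_mul_cancel]; exact Matrix.toLin'_one)
  have happ : ∀ a x, toEquiv a x = ((a : Matrix.GeneralLinearGroup ι F) : Matrix ι ι F) *ᵥ x := fun a x => rfl
  have haut : ∀ a, QAut B Q (toEquiv a) := fun a => ⟨hadd, hsmul, fun v => a.2 v v⟩
  choose Mf hMf hs hG using fun a => exists_normal (haut a) hnd
  let L : G → LSet F n := fun a => ⟨Mf a, (hMf a).valid, hs a, hG a, by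
    rw [dec_dim (haut a) (hMf a) (fun _ _ => Submodule.mem_top) hnd, finrank_top,
      Module.finrank_fintype_fun_eq_card, hι]⟩
  have hconj : ∀ a b, Mf a = Mf b → IsConj a b := by
    intro a b hab
    obtain ⟨f, -, hfQ, hfg⟩ := exists_isometry2 (haut a) (haut b) hnd rfl (hMf a) (hab ▸ hMf b)
    have hu : IsUnit (LinearMap.toMatrix' (f : (ι → F) →ₗ[F] (ι → F))) :=
      ⟨⟨LinearMap.toMatrix' (f : (ι → F) →ₗ[F] (ι → F)), LinearMap.toMatrix' (f.symm : (ι → F) →ₗ[F] (ι → F)),
        by rw [← LinearMap.toMatrix'_comp]; simp, by rw [← LinearMap.toMatrix'_comp]; simp⟩, rfl⟩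
    have hc : ∀ x, LinearMap.toMatrix' (f : (ι → F) →ₗ[F] (ι → F)) *ᵥ x = f x := fun x => by
      rw [← Matrix.toLin'_apply, Matrix.toLin'_toMatrix']; rfl
    let c : G := ⟨hu.unit, fun v w => by
      show Q (LinearMap.toMatrix' (f : (ι → F) →ₗ[F] (ι → F)) *ᵥ v) = Q v
      rw [hc, hfQ]⟩
    refine isConj_iff.2 ⟨c, ?_⟩
    rw [mul_inv_eq_iff_eq_mul]
    refine Subtype.ext (Units.ext (Matrix.ext_of_mulVec_single fun i => ?_))
    rw [Subgroup.coe_mul, Subgroup.coe_mul, Units.val_mul, Units.val_mul, ← Matrix.mulVec_mulVec,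
      ← Matrix.mulVec_mulVec]
    show LinearMap.toMatrix' (f : (ι → F) →ₗ[F] (ι → F)) *ᵥ _ = _
    rw [← happ, hc, hfg, happ]
    congr 1
    exact (hc _).symm
  haveI : ∀ d, Finite (SPoly F d) := fun d => (card_SPoly_le d).1
  let All := {x : Code F n // cWt x = n ∧ CCond x ∧ (false = true → ∀ j : Fin n, (j : ℕ) = 0 → x.2.2 j = false)}
  let None' := {x : Code F n // cWt x = n ∧ CCond x ∧ cbOf x = fun _ => (0, false)}
  let cd : ConjClasses G → {x : Code F n // cWt x = n ∧ CCond x} := fun C => codeOf (L (Quotient.out C))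
  have hcd : ∀ (C : ConjClasses G) (j : Fin n) (b : Bool), lowNode (cd C).1 = some j → CCond (setBit (cd C).1 j b) := by
    intro C j b hj i hi
    obtain ⟨hn, hmin⟩ := lowNode_some hj
    by_cases hij : i = j
    · subst hij
      refine ⟨fun l hl => ?_, ?_⟩
      · by_contra hne
        have := hmin l (Or.inl hne)
        rw [Fin.le_def] at this
        omega
      · exact hn.symm
    · simp only [setBit, Function.update_of_ne hij] at hi
      exact (cd C).2.2 i hi
  have hout : ∀ D D' : ConjClasses G, Mf (Quotient.out D) = Mf (Quotient.out D') → D = D' := fun D D' he =>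
    (Quotient.out_eq D).symm.trans ((ConjClasses.mk_eq_mk_iff_isConj.2 (hconj _ _ he)).trans (Quotient.out_eq D'))
  have houtc : ∀ D D' : ConjClasses G, (cd D).1 = (cd D').1 → D = D' := fun D D' he =>
    hout D D' (congrArg Subtype.val (codeOf_inj (Subtype.ext he)))
  -- the image of a pair is its code with the bit of the lowest node replaced
  let img : ConjClasses G × Bool → Code F n := fun Cb =>
    match lowNode (cd Cb.1).1 with
    | some j => setBit (cd Cb.1).1 j Cb.2
    | none => (cd Cb.1).1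
  have himg1 : ∀ Cb, (img Cb).1 = (cd Cb.1).1.1 ∧ (img Cb).2.1 = (cd Cb.1).1.2.1 := fun Cb => by
    cases hlo : lowNode (cd Cb.1).1 <;> simp [img, hlo, setBit]
  have himg2 : ∀ Cb, cWt (img Cb) = n ∧ CCond (img Cb) ∧
      (lowNode (cd Cb.1).1 = none → cbOf (img Cb) = fun _ => (0, false)) := fun Cb => by
    refine ⟨?_, ?_, fun h0 => ?_⟩
    · simp only [cWt, (himg1 Cb).1, (himg1 Cb).2]
      exact (cd Cb.1).2.1
    · cases hlo : lowNode (cd Cb.1).1 with
      | none => simp only [img, hlo]; exact (cd Cb.1).2.2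
      | some j => simp only [img, hlo]; exact hcd _ j _ hlo
    · simp only [img, h0]
      exact lowNode_none h0 (cd Cb.1).2.2
  let Φ : ConjClasses G × Bool → All ⊕ None' := fun Cb =>
    if hr : lowNode (cd Cb.1).1 = none ∧ Cb.2 = true then
      Sum.inr ⟨img Cb, (himg2 Cb).1, (himg2 Cb).2.1, (himg2 Cb).2.2 hr.1⟩
    else Sum.inl ⟨img Cb, (himg2 Cb).1, (himg2 Cb).2.1, fun h => absurd h Bool.false_ne_true⟩
  have himg : ∀ Cb, img Cb = Sum.elim (fun x : All => x.1) (fun x : None' => x.1) (Φ Cb) ∧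
      (lowNode (cd Cb.1).1 = none → (Φ Cb).isRight = Cb.2) := by
    rintro ⟨C, b⟩
    simp only [Φ]
    split_ifs with hr
    · exact ⟨rfl, fun _ => hr.2.symm⟩
    · refine ⟨rfl, fun h0 => ?_⟩
      cases b
      · rfl
      · exact absurd ⟨h0, rfl⟩ hr
  have hΦ : Function.Injective Φ := by
    rintro ⟨C, b⟩ ⟨C', b'⟩ h
    obtain ⟨e1, e2⟩ := himg (C, b)
    obtain ⟨e1', e2'⟩ := himg (C', b')
    rw [h] at e1 e2
    have he : img (C, b) = img (C', b') := e1.trans e1'.symm
    have hP : (cd C).1.1 = (cd C').1.1 ∧ (cd C).1.2.1 = (cd C').1.2.1 :=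
      ⟨(himg1 (C, b)).1.symm.trans ((congrArg (fun x : Code F n => x.1) he).trans (himg1 (C', b')).1),
        (himg1 (C, b)).2.symm.trans ((congrArg (fun x : Code F n => x.2.1) he).trans (himg1 (C', b')).2)⟩
    have hl := lowNode_congr hP.1 hP.2
    cases hlo : lowNode (cd C).1 with
    | none =>
      rw [hlo] at hl
      obtain rfl : b = b' := (e2 hlo).symm.trans (e2' hl.symm)
      simp only [img, hlo, ← hl] at he
      exact Prod.ext (houtc _ _ he) rfl
    | some j =>
      rw [hlo] at hl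
      simp only [img, hlo, ← hl, setBit] at he
      have hbb : ∀ i, Function.update (cd C).1.2.2 j b i = Function.update (cd C').1.2.2 j b' i := fun i =>
        congrFun (congrArg (fun x : Code F n => x.2.2) he) i
      obtain rfl : b = b' := by simpa using hbb j
      refine Prod.ext ?_ rfl
      by_cases hsame : (cd C).1.2.2 j = (cd C').1.2.2 j
      · refine houtc _ _ (Prod.ext hP.1 (Prod.ext hP.2 (funext fun i => ?_)))
        by_cases hij : i = j
        · rw [hij, hsame]
        · simpa [Function.update_of_ne hij] using hbb i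
      exfalso
      have hne0 : ∀ D D' : ConjClasses G, (cd D).1.1 = (cd D').1.1 → (cd D).1.2.1 = (cd D').1.2.1 →
          (∀ i, i ≠ j → (cd D).1.2.2 i = (cd D').1.2.2 i) → (cd D).1.2.2 j = true → (cd D').1.2.2 j = false → False := by
        intro D D' hp1 hp2 hp3 ht hf
        set M := L (Quotient.out D)
        set M' := L (Quotient.out D')
        have q1 : ∀ k, 1 ≤ k → polyAt M.1 k = polyAt M'.1 k := fun k hk => by
          rcases Nat.lt_or_ge (2 * n) k with hlt | hle
          · rw [(none_above M (show n < k by omega)).1, (none_above M' (show n < k by omega)).1]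
          · have hk' : k - 1 < 2 * n := by omega
            have e := congrArg (fun P : Fin (2 * n) → Σ d : Fin (n + 1), SPoly F d => ((P ⟨k - 1, hk'⟩).2 : F[X])) hp1
            simp only [cd, codeOf, Nat.sub_add_cancel hk] at e
            exact e
        have q2 : ∀ k, 1 ≤ k → nV M.1 k = nV M'.1 k := fun k hk => by
          rcases Nat.lt_or_ge n k with hlt | hle
          · rw [(none_above M hlt).2.2, (none_above M' hlt).2.2]
          · have hk' : k - 1 < n := by omega
            have e := congrArg (fun c : Fin n → Fin 3 => ((c ⟨k - 1, hk'⟩ : Fin 3) : ℕ)) hp2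
            simp only [cd, codeOf, Nat.sub_add_cancel hk] at e
            exact e
        have q3 : ∀ i, i ≠ (j : ℕ) → betaAt M.1 i = betaAt M'.1 i := fun i hi => by
          rcases Nat.lt_or_ge i n with hlt | hge
          · exact hp3 ⟨i, hlt⟩ fun e => hi (congrArg Fin.val e)
          · have hnone : ∀ N : LSet F n, betaAt N.1 i = false := fun N => by
              by_contra hc
              obtain ⟨-, h1⟩ := betaAt_cond N.2.1 N.2.2.2.1 (Bool.eq_true_of_not_eq_false hc)
              obtain ⟨-, a, -⟩ := none_above N (show n < 2 * i + 1 by omega)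
              obtain ⟨-, -, c⟩ := none_above N (show n < i + 1 by omega)
              omega
            rw [hnone M, hnone M']
        obtain ⟨z, R, hn, hz, hz'⟩ := exists_flip M M' q1 q2 q3 ht hf
        have d1 := hMf (Quotient.out D)
        have d2 := hMf (Quotient.out D')
        rw [show Mf (Quotient.out D) = _ from hz] at d1
        rw [show Mf (Quotient.out D') = _ from hz'] at d2
        exact flip_absurd (haut _) hnd (haut _) hn d1 d2
      have hoth : ∀ i, i ≠ j → (cd C).1.2.2 i = (cd C').1.2.2 i := fun i hij => by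
        simpa [Function.update_of_ne hij] using hbb i
      cases hc : (cd C).1.2.2 j with
      | true => exact hne0 C C' hP.1 hP.2 hoth hc (by cases hc' : (cd C').1.2.2 j <;> simp [hc, hc'] at hsame ⊢)
      | false =>
        exact hne0 C' C hP.1.symm hP.2.symm (fun i hi => (hoth i hi).symm) (by cases hc' : (cd C').1.2.2 j <;> simp [hc, hc'] at hsame ⊢) hc
  have hle := Nat.card_le_card_of_injective _ hΦ
  rw [Nat.card_prod, Nat.card_sum, Nat.card_eq_fintype_card (α := Bool), Fintype.card_bool] at hle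
  have hle' : (2 * Nat.card (ConjClasses G) : ℝ) ≤ (Nat.card All : ℝ) + (Nat.card None' : ℝ) := by
    rw [mul_comm]
    exact_mod_cast hle
  have c1 := card_chain_le (F := F) n false
  rw [if_neg Bool.false_ne_true] at c1
  have c2 := card_nonode_le (F := F) n
  have h2 := mul_le_mul_of_nonneg_left (gSum_o n) (show (0 : ℝ) ≤ (Fintype.card F : ℝ) ^ n by positivity)
  rw [← Nat.cast_le (α := ℝ)]
  push_cast
  linarith [hle', c1, c2, h2]

end Cfsg.Agent.CN9.Two
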