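import Cfsg.Agent.ClassNum9.Two.OrthBound
import Cfsg.Agent.ClassNum9.Orth.Lower

/-!
`k(O^±_{2n}(q)) ≥ q^n / 2` for even `q`.
-/

set_option autoImplicit false

namespace Cfsg.Agent.CN9.Two

open Polynomial Module Matrix Cfsg.Agent.GLSemi

universe u v w

variable {F : Type u} [Field F] [CharP F 2]

omit [Field F] [CharP F 2] in
theorem sum_sum_symm {R : Type*} [CommRing R] [CharP R 2] {ι : Type*} [Fintype ι] (f : ι → ι → R)
    (hf : ∀ i j, f i j = f j i) : ∑ i, ∑ j, f i j = ∑ i, f i i := by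
  classical
  have hsplit : ∀ i, ∑ j, f i j = f i i + ∑ j, if i = j then 0 else f i j := fun i => by
    have : ∀ j, f i j = (if i = j then f i i else 0) + if i = j then 0 else f i j := fun j => by
      split_ifs with h <;> simp [h]
    conv_lhs => rw [Finset.sum_congr rfl fun j _ => this j]
    rw [Finset.sum_add_distrib, Finset.sum_ite_eq, if_pos (Finset.mem_univ _)]
  rw [Finset.sum_congr rfl fun i _ => hsplit i, Finset.sum_add_distrib, add_eq_left, ← Fintype.sum_prod_type']
  refine Finset.sum_involution (fun p _ => (p.2, p.1)) (fun p _ => ?_) (fun p _ hp => ?_) (fun p _ => Finset.mem_univ _)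
    (fun p _ => rfl)
  · dsimp only
    rw [hf p.2 p.1]
    by_cases h : p.1 = p.2
    · simp [h]
    · simp [h, Ne.symm h, CharTwo.add_self_eq_zero]
  · intro he
    exact hp (if_pos (congrArg Prod.snd he))

variable [Fintype F] {V : Type v} [AddCommGroup V] [Module F V] [FiniteDimensional F V]

theorem dec_refl_labels {B : LinearMap.BilinForm F V} {Q : V → F} (h : QAut B Q (LinearEquiv.refl F V))
    {U : Submodule F V} {M : Multiset (Lab F)} (hM : Dec B Q (LinearEquiv.refl F V) U M) :
    ∀ z ∈ M, z = Lab.pw 1 z.bit := by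
  have hT : ∀ (a : ℕ) (x : V), 1 ≤ a → tp (LinearEquiv.refl F V) a x = 0 := fun a x ha =>
    tp_of_le _ ha (by rw [tp_one, nT_apply, LinearEquiv.refl_apply, sub_self])
  induction hM with
  | zero => simp
  | @cons U W z M hW hle hM ih =>
    intro y hy
    rcases Multiset.mem_cons.1 hy with rfl | hy
    swap
    · exact ih y hy
    cases y with
    | reg P e =>
      obtain ⟨he, hP, v, hv⟩ := hW
      obtain ⟨-, -, hdim, hsur⟩ := h.reg_piece hP hv
      have hb : W = ⊥ := (Submodule.eq_bot_iff _).2 fun x hx => by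
        obtain ⟨y, -, rfl⟩ := hsur x hx
        rw [← tp_one, hT 1 y le_rfl]
      rw [hb, finrank_bot, eq_comm, Nat.mul_eq_zero] at hdim
      have := (shape_two hP).2.2
      omega
    | pv k b =>
      obtain ⟨x, ⟨hk, -, ht, -⟩, -⟩ := hW
      rw [hT (2 * k - 1) x (by omega)] at ht
      simp at ht
    | pw m b =>
      obtain ⟨x, y, ⟨hm, -, -, ht, -⟩, -⟩ := hW
      rcases Nat.eq_or_lt_of_le hm with h1 | h1
      · subst h1; rfl
      · rw [hT (m - 1) x (by omega)] at ht
        simp at ht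

variable {W : Type v} [AddCommGroup W] [Module F W] [FiniteDimensional F W]

/-- forms with equal sums are equivalent -/
theorem equiv_of_gauss {n : ℕ} {B : LinearMap.BilinForm F V} {Q : V → F} {B' : LinearMap.BilinForm F W} {Q' : W → F}
    (hadd : ∀ x y, Q (x + y) = Q x + Q y + B x y) (hsmul : ∀ (c : F) x, Q (c • x) = c * c * Q x)
    (hnd : NdOn B (⊤ : Submodule F V)) (hadd' : ∀ x y, Q' (x + y) = Q' x + Q' y + B' x y)
    (hsmul' : ∀ (c : F) x, Q' (c • x) = c * c * Q' x) (hnd' : NdOn B' (⊤ : Submodule F W))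
    (hV : finrank F V = 2 * n) (hW : finrank F W = 2 * n) (hg : gauss Q ⊤ = gauss Q' ⊤) :
    ∃ f : V ≃ₗ[F] W, ∀ x, Q' (f x) = Q x := by
  classical
  have h : QAut B Q (LinearEquiv.refl F V) := ⟨hadd, hsmul, fun x => rfl⟩
  have h' : QAut B' Q' (LinearEquiv.refl F W) := ⟨hadd', hsmul', fun x => rfl⟩
  obtain ⟨M, hM, hs, hG⟩ := exists_normal h hnd
  obtain ⟨M', hM', hs', hG'⟩ := exists_normal h' hnd'
  let L : LSet F n := ⟨M, hM.valid, hs, hG, by
    rw [dec_dim h hM (fun _ _ => Submodule.mem_top) hnd, finrank_top, hV]⟩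
  let L' : LSet F n := ⟨M', hM'.valid, hs', hG', by
    rw [dec_dim h' hM' (fun _ _ => Submodule.mem_top) hnd', finrank_top, hW]⟩
  have key : ∀ N : LSet F n, (∀ z ∈ N.1, z = Lab.pw 1 z.bit) →
      (∀ k, regsAt N.1 k = 0 ∧ nV N.1 k = 0 ∧ nW N.1 k = if k = 1 then n else 0) ∧
        ∀ j, j ≠ 0 → betaAt N.1 j = false := by
    intro N hN
    have hone : ∀ k, k ≠ 1 → nW N.1 k = 0 := fun k hk => by
      by_contra hne
      obtain ⟨b, hb⟩ := mem_of_nW_pos (Nat.pos_of_ne_zero hne)
      have := hN _ hb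
      simp [Lab.bit] at this
      exact hk this
    have hr : ∀ k, regsAt N.1 k = 0 := fun k => Multiset.eq_zero_of_forall_notMem fun P hP => by
      have := hN _ (mem_regsAt.1 hP)
      simp at this
    have hv : ∀ k, nV N.1 k = 0 := fun k => by
      by_contra hne
      obtain ⟨b, hb⟩ := mem_of_nV_pos (Nat.pos_of_ne_zero hne)
      have := hN _ hb
      simp [Lab.bit] at this
    refine ⟨fun k => ⟨hr k, hv k, ?_⟩, fun j hj => ?_⟩
    · split_ifs with hk
      · subst hk
        have h1 := dim_sum N.2.1 1 fun z hz => by rw [hN z hz]; exact le_rfl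
        rw [N.2.2.2.2] at h1
        simp [hr, hv] at h1
        omega
      · exact hone k hk
    · by_contra hc
      obtain ⟨z, hz, -, hp⟩ := (betaAt_iff _ _).1 (Bool.eq_true_of_not_eq_false hc)
      rw [hN z hz] at hp
      simp only [Lab.pos] at hp
      omega
  obtain ⟨c1, d1⟩ := key L (dec_refl_labels h hM)
  obtain ⟨c2, d2⟩ := key L' (dec_refl_labels h' hM')
  have hp : ∀ k, 1 ≤ k → polyAt M k = polyAt M' k := fun k _ => by
    rw [polyAt, polyAt, show regsAt M k = 0 from (c1 k).1, show regsAt M' k = 0 from (c2 k).1,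
      show nW M k = _ from (c1 k).2.2, show nW M' k = _ from (c2 k).2.2]
  have hc : ∀ k, 1 ≤ k → nV M k = nV M' k := fun k _ => by
    rw [show nV M k = 0 from (c1 k).2.1, show nV M' k = 0 from (c2 k).2.1]
  have hb : ∀ j, j ≠ 0 → betaAt M j = betaAt M' j := fun j hj => (d1 j hj).trans (d2 j hj).symm
  by_cases h0 : betaAt M 0 = betaAt M' 0
  · have hMM : M = M' := labels_inj hM.valid hM'.valid hG hG' hp hc fun j => by
      rcases eq_or_ne j 0 with rfl | hj
      · exact h0
      · exact hb j hj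
    obtain ⟨f, -, hfQ, -⟩ := exists_isometry2 h h' hnd (hV.trans hW.symm) hM (hMM ▸ hM')
    exact ⟨f, hfQ⟩
  exfalso
  have hne := gauss_ne h hnd
  cases hb0 : betaAt M 0 with
  | true =>
    have hb0' : betaAt M' 0 = false := by cases hx : betaAt M' 0 <;> simp [hb0, hx] at h0 ⊢
    obtain ⟨z, R, hn, hz, hz'⟩ := exists_flip L L' hp hc hb hb0 hb0'
    rw [show M = _ from hz] at hM
    rw [show M' = _ from hz'] at hM'
    have := gauss_dec_flip h h' hnd hnd' hn hM hM'
    exact hne (by linarith)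
  | false =>
    have hb0' : betaAt M' 0 = true := by cases hx : betaAt M' 0 <;> simp [hb0, hx] at h0 ⊢
    obtain ⟨z, R, hn, hz, hz'⟩ := exists_flip L' L (fun k hk => (hp k hk).symm) (fun k hk => (hc k hk).symm)
      (fun j hj => (hb j hj).symm) hb0' hb0
    rw [show M' = _ from hz] at hM'
    rw [show M = _ from hz'] at hM
    have := gauss_dec_flip h' h hnd' hnd hn hM' hM
    exact hne (by linarith)

omit [CharP F 2] in
theorem gauss_top {ι : Type} [Fintype ι] [DecidableEq ι] (Q : (ι → F) → F) :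
    gauss Q ⊤ = ∑ v : ι → F, chiAS (Q v) := by
  classical
  haveI := finite_sub (F := F) (⊤ : Submodule F (ι → F))
  haveI := Fintype.ofFinite (⊤ : Submodule F (ι → F))
  rw [gauss, finsum_eq_sum_of_fintype]
  exact Fintype.sum_bijective Subtype.val
    ⟨Subtype.val_injective, fun v => ⟨⟨v, Submodule.mem_top⟩, rfl⟩⟩ _ _ fun u => rfl

/-- the sign of a bit -/
noncomputable def sgnB (b : Bool) : ℝ := if b then -1 else 1

/-- a form of given sign with an isometry of characteristic polynomial `P` -/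
def OrthReal2 (n : ℕ) (P : F[X]) (b : Bool) : Prop :=
  ∃ (B : LinearMap.BilinForm F (Fin n ⊕ Fin n → F)) (Q : (Fin n ⊕ Fin n → F) → F)
    (g : Matrix (Fin n ⊕ Fin n) (Fin n ⊕ Fin n) F),
    (∀ x y, Q (x + y) = Q x + Q y + B x y) ∧ (∀ (c : F) x, Q (c • x) = c * c * Q x) ∧
      NdOn B (⊤ : Submodule F (Fin n ⊕ Fin n → F)) ∧ (∀ v, Q (g *ᵥ v) = Q v) ∧ g.charpoly = P ∧
      gauss Q ⊤ = sgnB b * (Fintype.card F : ℝ) ^ n

omit [CharP F 2] [Fintype F] in
theorem bilin_of_matrix {ι : Type*} [Fintype ι] [DecidableEq ι] (J : Matrix ι ι F) (x y : ι → F) :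
    Matrix.toBilin' J x y = x ⬝ᵥ J *ᵥ y := Matrix.toBilin'_apply' J x y

open Classical in
theorem sum_chi_dot {n : ℕ} (a : Fin n → F) :
    ∑ x : Fin n → F, chiAS (x ⬝ᵥ a) = if a = 0 then (Fintype.card F : ℝ) ^ n else 0 := by
  classical
  split_ifs with ha
  · subst ha
    simp [chiAS_zero]
  · refine sum_chi_linear ((dotProductBilin F F).flip a) fun hl => ha (funext fun i => ?_)
    have := LinearMap.congr_fun hl (Pi.single i 1)
    simpa using this

theorem trace_inv {n : ℕ} (C : Matrix (Fin n) (Fin n) F) (hC : IsUnit C) :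
    C⁻¹.trace = C.charpoly.coeff 1 / C.charpoly.coeff 0 := by
  rcases Nat.eq_zero_or_pos n with rfl | hn
  · have h1 : C.charpoly.coeff 1 = 0 := coeff_eq_zero_of_natDegree_lt (by
      rw [Matrix.charpoly_natDegree_eq_dim]; simp)
    rw [h1, zero_div]
    simp [Matrix.trace]
  haveI : Nonempty (Fin n) := ⟨⟨0, hn⟩⟩
  have hneg : ∀ a : F, -a = a := CharTwo.neg_eq
  have hdet : C.det = C.charpoly.coeff 0 := by
    rw [Matrix.det_eq_sign_charpoly_coeff, hneg, one_pow, one_mul]
  rw [Matrix.trace_eq_neg_charpoly_coeff, hneg, Matrix.charpoly_inv C hC, CharTwo.neg_eq, one_pow, one_mul, coeff_C_mul,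
    Ring.inverse_eq_inv, hdet, ← Matrix.reverse_charpoly, coeff_reverse, Matrix.charpoly_natDegree_eq_dim,
    Fintype.card_fin, revAt_le (Nat.sub_le n 1), show n - (n - 1) = 1 by omega]
  ring

theorem orthReal2_base {n : ℕ} {h : F[X]} (hm : h.Monic) (hd : h.natDegree = n) (h0 : h.coeff 0 ≠ 0) :
    OrthReal2 n (palOf n h) (asB (h.coeff 1 / h.coeff 0)) := by
  classical
  obtain ⟨C, T, hC, hT, hTu, hCT⟩ := exists_sym_companion hm hd
  have hCu : IsUnit C := by
    rw [Matrix.isUnit_iff_isUnit_det, isUnit_iff_ne_zero, Matrix.det_eq_sign_charpoly_coeff, hC]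
    exact mul_ne_zero (pow_ne_zero _ (neg_ne_zero.2 one_ne_zero)) h0
  set A := T * C with hA
  have hAs : Aᵀ = A := by rw [hA, Matrix.transpose_mul, hT, hCT]
  have hAu : IsUnit A := hTu.mul hCu
  let J : Matrix (Fin n ⊕ Fin n) (Fin n ⊕ Fin n) F := Matrix.fromBlocks 0 A A 0
  let B : LinearMap.BilinForm F (Fin n ⊕ Fin n → F) := Matrix.toBilin' J
  let px : (Fin n ⊕ Fin n → F) → Fin n → F := fun v => v ∘ Sum.inl
  let py : (Fin n ⊕ Fin n → F) → Fin n → F := fun v => v ∘ Sum.inr
  let Q : (Fin n ⊕ Fin n → F) → F := fun v => px v ⬝ᵥ T *ᵥ px v + px v ⬝ᵥ A *ᵥ py v + py v ⬝ᵥ T *ᵥ py v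
  have e : ∀ a : F, a + a = 0 := CharTwo.add_self_eq_zero
  have sym : ∀ (M : Matrix (Fin n) (Fin n) F), Mᵀ = M → ∀ x y, x ⬝ᵥ M *ᵥ y = y ⬝ᵥ M *ᵥ x := fun M hM x y => by
    rw [Matrix.dotProduct_mulVec, ← Matrix.mulVec_transpose, hM, dotProduct_comm]
  have hB : ∀ v w, B v w = px v ⬝ᵥ A *ᵥ py w + py v ⬝ᵥ A *ᵥ px w := fun v w => by
    rw [bilin_of_matrix, Matrix.fromBlocks_mulVec, dotProduct, Fintype.sum_sum_type]
    simp only [Sum.elim_inl, Sum.elim_inr, Matrix.zero_mulVec, zero_add, add_zero]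
    rfl
  let g : Matrix (Fin n ⊕ Fin n) (Fin n ⊕ Fin n) F := Matrix.fromBlocks C (-1) 1 0
  have hg : ∀ v, px (g *ᵥ v) = C *ᵥ px v + py v ∧ py (g *ᵥ v) = px v := fun v => by
    constructor
    · funext i
      show (g *ᵥ v) (Sum.inl i) = _
      rw [Matrix.fromBlocks_mulVec, Sum.elim_inl, Matrix.neg_mulVec, Matrix.one_mulVec]
      simp [px, py, CharTwo.neg_eq]
    · funext i
      show (g *ᵥ v) (Sum.inr i) = _
      rw [Matrix.fromBlocks_mulVec, Sum.elim_inr, Matrix.zero_mulVec, Matrix.one_mulVec, add_zero]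
  refine ⟨B, Q, g, fun v w => ?_, fun c v => ?_, fun v _ hv => ?_, fun v => ?_, ?_, ?_⟩
  · have px_add : px (v + w) = px v + px w := rfl
    have py_add : py (v + w) = py v + py w := rfl
    simp only [Q, hB, px_add, py_add, Matrix.mulVec_add, dotProduct_add, add_dotProduct]
    rw [sym T hT (px w) (px v), sym T hT (py w) (py v), sym A hAs (py v) (px w)]
    linear_combination e (px v ⬝ᵥ T *ᵥ px w) + e (py v ⬝ᵥ T *ᵥ py w)
  · have px_smul : px (c • v) = c • px v := rfl
    have py_smul : py (c • v) = c • py v := rfl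
    simp only [Q, px_smul, py_smul, Matrix.mulVec_smul, smul_dotProduct, dotProduct_smul, smul_eq_mul]
    ring
  · have hz : ∀ u : Fin n → F, (∀ i, Pi.single i 1 ⬝ᵥ A *ᵥ u = 0) → u = 0 := fun u hu => by
      refine Matrix.mulVec_injective_iff_isUnit.2 hAu (?_ : A *ᵥ u = A *ᵥ 0)
      rw [Matrix.mulVec_zero]
      funext i
      simpa using hu i
    have e1 : px v = 0 := hz _ fun i => by
      have h1 := hv (Sum.elim 0 (Pi.single i 1)) Submodule.mem_top
      rw [hB, show px (Sum.elim 0 (Pi.single i 1)) = 0 from rfl,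
        show py (Sum.elim (0 : Fin n → F) (Pi.single i 1)) = Pi.single i 1 from rfl, Matrix.mulVec_zero,
        dotProduct_zero, add_zero] at h1
      rw [sym A hAs, h1]
    have e2 : py v = 0 := hz _ fun i => by
      have h1 := hv (Sum.elim (Pi.single i 1) 0) Submodule.mem_top
      rw [hB, show py (Sum.elim (Pi.single i 1) (0 : Fin n → F)) = 0 from rfl,
        show px (Sum.elim (Pi.single i 1) (0 : Fin n → F)) = Pi.single i 1 from rfl, Matrix.mulVec_zero,
        dotProduct_zero, zero_add] at h1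
      rw [sym A hAs, h1]
    funext i
    rcases i with i | i
    · exact congrFun e1 i
    · exact congrFun e2 i
  · obtain ⟨g1, g2⟩ := hg v
    simp only [Q, g1, g2, Matrix.mulVec_add, dotProduct_add, add_dotProduct]
    have e1 : (C *ᵥ px v) ⬝ᵥ A *ᵥ px v = (C *ᵥ px v) ⬝ᵥ T *ᵥ (C *ᵥ px v) := by
      rw [hA, Matrix.mulVec_mulVec]
    have e2 : (C *ᵥ px v) ⬝ᵥ T *ᵥ py v = px v ⬝ᵥ A *ᵥ py v := by
      rw [← hCT, ← Matrix.mulVec_mulVec, Matrix.dotProduct_mulVec (px v), Matrix.vecMul_transpose]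
    rw [e1, sym T hT (py v) (C *ᵥ px v), e2, sym A hAs (py v) (px v)]
    linear_combination e ((C *ᵥ px v) ⬝ᵥ T *ᵥ (C *ᵥ px v)) + e (px v ⬝ᵥ A *ᵥ py v)
  · rw [det_blocks_charpoly C 1 1 (one_mul 1), det_subst_eq_palOf, hC]
  · choose d hd2 using fun i => exists_sqrt_two (T i i)
    have hxx : ∀ x : Fin n → F, chiAS (x ⬝ᵥ T *ᵥ x) = chiAS (x ⬝ᵥ d) := fun x => by
      have h1 : x ⬝ᵥ T *ᵥ x = ∑ i, x i * T i i * x i := by
        simp only [dotProduct, Matrix.mulVec, Finset.mul_sum, ← mul_assoc]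
        exact sum_sum_symm (fun i j => x i * T i j * x j) fun i j => by
          rw [show T j i = T i j from congrFun (congrFun hT i) j]
          ring
      have h2 : (x ⬝ᵥ d) * (x ⬝ᵥ d) = x ⬝ᵥ T *ᵥ x := by
        rw [h1, dotProduct, CharTwo.sum_mul_self]
        exact Finset.sum_congr rfl fun i _ => by rw [← hd2 i]; ring
      rw [← h2, chiAS_sq]
    obtain ⟨y0, hy0⟩ := (Matrix.mulVec_surjective_iff_isUnit.2 hAu) d
    have hsum : gauss Q ⊤ = chiAS (y0 ⬝ᵥ d) * (Fintype.card F : ℝ) ^ n := by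
      rw [gauss_top, ← (Equiv.sumArrowEquivProdArrow (Fin n) (Fin n) F).symm.sum_comp, Fintype.sum_prod_type_right]
      have e1 : ∀ y x : Fin n → F, chiAS (Q ((Equiv.sumArrowEquivProdArrow (Fin n) (Fin n) F).symm (x, y))) =
          chiAS (y ⬝ᵥ d) * chiAS (x ⬝ᵥ (d + A *ᵥ y)) := fun y x => by
        simp only [Q]
        rw [show px ((Equiv.sumArrowEquivProdArrow (Fin n) (Fin n) F).symm (x, y)) = x from rfl,
          show py ((Equiv.sumArrowEquivProdArrow (Fin n) (Fin n) F).symm (x, y)) = y from rfl,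
          dotProduct_add, chiAS_add, chiAS_add, chiAS_add, hxx, hxx]
        ring
      simp only [e1, ← Finset.mul_sum, sum_chi_dot, mul_ite, mul_zero]
      rw [Finset.sum_eq_single y0]
      · rw [if_pos]
        rw [hy0]
        funext i
        exact e _
      · intro y _ hy
        rw [if_neg]
        intro h1
        refine hy (Matrix.mulVec_injective_iff_isUnit.2 hAu ?_)
        rw [hy0]
        funext i
        have := congrFun h1 i
        simp only [Pi.add_apply, Pi.zero_apply] at this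
        linear_combination this - e (d i)
      · simp
    have hAdet := (Matrix.isUnit_iff_isUnit_det A).1 hAu
    have hTdet := (Matrix.isUnit_iff_isUnit_det T).1 hTu
    have hy : y0 = A⁻¹ *ᵥ d := by rw [← hy0, Matrix.mulVec_mulVec, Matrix.nonsing_inv_mul A hAdet, Matrix.one_mulVec]
    have hMs : (A⁻¹)ᵀ = A⁻¹ := by rw [Matrix.transpose_nonsing_inv, hAs]
    have htr : y0 ⬝ᵥ d = C⁻¹.trace := by
      rw [hy, dotProduct_comm]
      have h1 : d ⬝ᵥ A⁻¹ *ᵥ d = ∑ i, A⁻¹ i i * T i i := by
        simp only [dotProduct, Matrix.mulVec, Finset.mul_sum]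
        rw [sum_sum_symm (fun i j => d i * (A⁻¹ i j * d j)) fun i j => by
          rw [show A⁻¹ j i = A⁻¹ i j from congrFun (congrFun hMs i) j]
          ring]
        exact Finset.sum_congr rfl fun i _ => by rw [← hd2 i]; ring
      have h2 : (A⁻¹ * T).trace = ∑ i, A⁻¹ i i * T i i := by
        simp only [Matrix.trace, Matrix.diag, Matrix.mul_apply]
        exact sum_sum_symm (fun i j => A⁻¹ i j * T j i) fun i j => by
          rw [show A⁻¹ j i = A⁻¹ i j from congrFun (congrFun hMs i) j,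
            show T j i = T i j from congrFun (congrFun hT i) j]
      rw [h1, ← h2, hA, Matrix.mul_inv_rev, mul_assoc, Matrix.nonsing_inv_mul T hTdet, mul_one]
    rw [hsum, htr, trace_inv C hCu, hC]
    rfl

theorem orthReal2_exists : ∀ (n : ℕ) (h : F[X]), h.Monic → h.natDegree = n → ∀ b : Bool,
    (h.coeff 0 = 0 ∨ asB (h.coeff 1 / h.coeff 0) = b) → OrthReal2 n (palOf n h) b := by
  classical
  intro n
  induction n with
  | zero =>
    intro h hm hd b hcond
    have h1 : h = 1 := hm.natDegree_eq_zero.1 hd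
    subst h1
    have hb := hcond.resolve_left (by simp)
    exact hb ▸ orthReal2_base hm hd (by simp)
  | succ n ih =>
    intro h hm hd b hcond
    by_cases hz : h.coeff 0 = 0
    swap
    · exact (hcond.resolve_left hz) ▸ orthReal2_base hm hd hz
    obtain ⟨h1, rfl⟩ := X_dvd_iff.2 hz
    have hm1 : h1.Monic := monic_X.of_mul_monic_left hm
    have hd1 : h1.natDegree = n := by
      rw [monic_X.natDegree_mul hm1, natDegree_X] at hd
      omega
    set b1 := asB (h1.coeff 1 / h1.coeff 0)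
    obtain ⟨B1, Q1, g1, hadd1, hsmul1, hnd1, hinv1, hcp1, hG1⟩ := ih h1 hm1 hd1 b1 (Or.inr rfl)
    set b2 := xor b1 b
    let σ : (Fin n ⊕ Fin n) ⊕ Fin 2 ≃ Fin (n + 1) ⊕ Fin (n + 1) := Fintype.equivOfCardEq (by simp; omega)
    let p1 : (Fin (n + 1) ⊕ Fin (n + 1) → F) →ₗ[F] (Fin n ⊕ Fin n → F) := LinearMap.funLeft F F (σ ∘ Sum.inl)
    let p2 : (Fin (n + 1) ⊕ Fin (n + 1) → F) →ₗ[F] (Fin 2 → F) := LinearMap.funLeft F F (σ ∘ Sum.inr)
    let P : (Fin 2 → F) → F := fun z =>
      z 0 * z 0 * (if b2 then 1 else 0) + z 0 * z 1 + z 1 * z 1 * asRep F b2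
    let B2 : LinearMap.BilinForm F (Fin 2 → F) := Matrix.toBilin' !![0, 1; 1, 0]
    have hB2 : ∀ z w, B2 z w = z 0 * w 1 + z 1 * w 0 := fun z w => by
      rw [bilin_of_matrix]
      simp [dotProduct, Matrix.mulVec, Fin.sum_univ_two]
    have e : ∀ a : F, a + a = 0 := CharTwo.add_self_eq_zero
    let B' := B1.compl₁₂ p1 p1 + B2.compl₁₂ p2 p2
    let Q' := fun v => Q1 (p1 v) + P (p2 v)
    let g' := Matrix.reindex σ σ (Matrix.fromBlocks g1 0 0 (1 : Matrix (Fin 2) (Fin 2) F))
    have hg : ∀ v, p1 (g' *ᵥ v) = g1 *ᵥ p1 v ∧ p2 (g' *ᵥ v) = p2 v := fun v => by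
      have e0 : g' *ᵥ v = (Matrix.fromBlocks g1 0 0 (1 : Matrix (Fin 2) (Fin 2) F) *ᵥ (v ∘ σ)) ∘ σ.symm := by
        simp only [g', Matrix.reindex_apply]
        rw [Matrix.submatrix_mulVec_equiv]
        rfl
      constructor
      · funext i
        show (g' *ᵥ v) (σ (Sum.inl i)) = _
        rw [e0, Function.comp_apply, σ.symm_apply_apply, Matrix.fromBlocks_mulVec, Sum.elim_inl, Matrix.zero_mulVec,
          add_zero]
        rfl
      · funext i
        show (g' *ᵥ v) (σ (Sum.inr i)) = _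
        rw [e0, Function.comp_apply, σ.symm_apply_apply, Matrix.fromBlocks_mulVec, Sum.elim_inr, Matrix.zero_mulVec,
          Matrix.one_mulVec, zero_add]
        rfl
    have hsurj : ∀ (a : Fin n ⊕ Fin n → F) (c : Fin 2 → F), p1 (Sum.elim a c ∘ σ.symm) = a ∧ p2 (Sum.elim a c ∘ σ.symm) = c :=
      fun a c => ⟨funext fun i => by simp [p1, LinearMap.funLeft_apply], funext fun i => by simp [p2, LinearMap.funLeft_apply]⟩
    refine ⟨B', Q', g', fun v w => ?_, fun c v => ?_, fun v _ hv => ?_, fun v => ?_, ?_, ?_⟩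
    · simp only [Q', B', LinearMap.add_apply, LinearMap.compl₁₂_apply, _root_.map_add, hadd1, hB2, P, Pi.add_apply]
      linear_combination (if b2 then (1 : F) else 0) * e (p2 v 0 * p2 w 0) + asRep F b2 * e (p2 v 1 * p2 w 1)
    · simp only [Q', _root_.map_smul, hsmul1, P, Pi.smul_apply, smul_eq_mul]
      ring
    · have e1 : p1 v = 0 := hnd1 _ Submodule.mem_top fun a _ => by
        have h2 := hv (Sum.elim a 0 ∘ σ.symm) Submodule.mem_top
        simp only [B', LinearMap.add_apply, LinearMap.compl₁₂_apply, hB2, (hsurj a 0).1, (hsurj a 0).2] at h2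
        simpa using h2
      have e2 : ∀ c : Fin 2 → F, p2 v 0 * c 1 + p2 v 1 * c 0 = 0 := fun c => by
        have h2 := hv (Sum.elim 0 c ∘ σ.symm) Submodule.mem_top
        simp only [B', LinearMap.add_apply, LinearMap.compl₁₂_apply, hB2, (hsurj 0 c).1, (hsurj 0 c).2] at h2
        simpa using h2
      funext i
      rcases hsi : σ.symm i with a | a
      · rw [show i = σ (Sum.inl a) by rw [← hsi, σ.apply_symm_apply]]
        exact congrFun e1 a
      · rw [show i = σ (Sum.inr a) by rw [← hsi, σ.apply_symm_apply]]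
        show p2 v a = 0
        fin_cases a
        · simpa using e2 ![0, 1]
        · simpa using e2 ![1, 0]
    · simp only [Q', (hg v).1, (hg v).2, hinv1]
    · rw [Matrix.charpoly_reindex, Matrix.charpoly_fromBlocks_zero₂₁, hcp1,
        show (X : F[X]) = X - C 0 by simp, palOf_step hd1.le, mul_comm]
      congr 1
      rw [Matrix.charpoly_fin_two, Matrix.trace_fin_two, Matrix.det_fin_two]
      simp [CharTwo.add_self_eq_zero]
    · let E : (Fin n ⊕ Fin n → F) × (Fin 2 → F) ≃ (Fin (n + 1) ⊕ Fin (n + 1) → F) :=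
        (Equiv.sumArrowEquivProdArrow _ _ F).symm.trans (Equiv.arrowCongr σ (Equiv.refl F))
      have hE : ∀ a c, p1 (E (a, c)) = a ∧ p2 (E (a, c)) = c := fun a c =>
        ⟨funext fun i => by simp [E, p1, LinearMap.funLeft_apply], funext fun i => by simp [E, p2, LinearMap.funLeft_apply]⟩
      have hP : ∑ c : Fin 2 → F, chiAS (P c) = sgnB b2 * (Fintype.card F : ℝ) := by
        rw [← (finTwoArrowEquiv F).symm.sum_comp, Fintype.sum_prod_type]
        simp only [P, finTwoArrowEquiv_symm_apply, Matrix.cons_val_zero, Matrix.cons_val_one]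
        set α := asRoot F
        have hx : ∀ z0 z1 : F, chiAS (z0 * z0 * (if b2 then 1 else 0) + z0 * z1 + z1 * z1 * asRep F b2) =
            chiAS (z0 * z0 * (if b2 then 1 else 0)) * chiAS (z1 * (z0 + (if b2 then α else 0))) := fun z0 z1 => by
          rw [add_assoc, chiAS_add, chiAS_add (z0 * z1)]
          congr 1
          rw [mul_add, chiAS_add, mul_comm z1 z0]
          congr 1
          cases b2
          · simp [asRep]
          · rw [← chiAS_sq (z1 * _)]
            congr 1
            simp only [asRep, if_true, asT]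
            ring
        have hz : ∀ z0 : F, ∑ z1 : F, chiAS (z1 * z0) = if z0 = 0 then (Fintype.card F : ℝ) else 0 := fun z0 => by
          split_ifs with h0
          · simp [h0, chiAS_zero]
          · refine sum_chi_linear ((LinearMap.id : F →ₗ[F] F).smulRight z0) fun hl => h0 ?_
            simpa using LinearMap.congr_fun hl 1
        simp only [hx, ← Finset.mul_sum, hz]
        rw [Finset.sum_eq_single (if b2 then α else 0)]
        · cases b2
          · simp [sgnB, chiAS_zero]
          · rw [if_pos (e _)]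
            simp [sgnB, chiAS, α, asB_sq, (exists_asB_true (F := F)).choose_spec, asRoot]
        · intro z _ hne
          have hh : ¬ (z + if b2 then α else 0) = 0 := fun h0 =>
            hne (by linear_combination h0 - e (if b2 then α else 0))
          rw [if_neg hh, mul_zero]
        · simp
      have hsum : gauss Q' ⊤ = gauss Q1 ⊤ * ∑ c : Fin 2 → F, chiAS (P c) := by
        rw [gauss_top, gauss_top, ← E.sum_comp, Fintype.sum_prod_type, Finset.sum_mul_sum]
        refine Finset.sum_congr rfl fun a _ => Finset.sum_congr rfl fun c _ => ?_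
        simp only [Q']
        rw [(hE a c).1, (hE a c).2, chiAS_add]
      rw [hsum, hG1, hP, pow_succ]
      cases hb1 : b1 <;> cases b <;> simp [sgnB, b2, hb1] <;> ring

theorem card_good_two {n : ℕ} (hn : 2 ≤ n) (b : Bool) :
    Fintype.card F ^ n ≤ 2 * Nat.card {r : Fin n → F // r ⟨0, by omega⟩ = 0 ∨
      asB (r ⟨1, by omega⟩ / r ⟨0, by omega⟩) = b} := by
  classical
  let i0 : Fin n := ⟨0, by omega⟩
  let i1 : Fin n := ⟨1, by omega⟩
  let P : (Fin n → F) → Prop := fun r => r i0 = 0 ∨ asB (r i1 / r i0) = b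
  let upd : (Fin n → F) → (Fin n → F) := fun r => Function.update r i1 (r i1 + asT F * r i0)
  have hne : i0 ≠ i1 := by simp [i0, i1, Fin.ext_iff]
  have hinj : Function.Injective upd := by
    intro r r' h
    have h0 : r i0 = r' i0 := by simpa [upd, Function.update_of_ne hne] using congrFun h i0
    funext i
    by_cases hi : i = i1
    · subst hi
      have h1 := congrFun h i1
      simp only [upd, Function.update_self, h0] at h1
      exact add_right_cancel h1
    · simpa [upd, Function.update_of_ne hi] using congrFun h i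
  have hmap : ∀ r, ¬ P r → P (upd r) := by
    intro r hr
    simp only [P, not_or] at hr
    refine Or.inr ?_
    simp only [upd, Function.update_self, Function.update_of_ne hne]
    rw [add_div, mul_div_cancel_right₀ _ hr.1, asB_add, asB_asT, Bool.xor_true]
    cases hx : asB (r i1 / r i0) <;> cases b <;> simp [hx] at hr ⊢
  have hle : Nat.card {r // ¬ P r} ≤ Nat.card {r // P r} :=
    Nat.card_le_card_of_injective (fun r : {r // ¬ P r} => (⟨upd r.1, hmap r.1 r.2⟩ : {r // P r}))
      fun r r' h => Subtype.ext (hinj (congrArg Subtype.val h))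
  have htot : Nat.card {r // P r} + Nat.card {r // ¬ P r} = Fintype.card F ^ n := by
    rw [← Nat.card_sum, Nat.card_congr (Equiv.sumCompl P), Nat.card_fun, Nat.card_fin, Nat.card_eq_fintype_card]
  show _ ≤ 2 * Nat.card {r // P r}
  omega

theorem card_classes_O_lower_two {ι : Type} [Fintype ι] [DecidableEq ι] {n : ℕ} (hn : 2 ≤ n)
    (hι : Fintype.card ι = 2 * n) (B : LinearMap.BilinForm F (ι → F)) (Q : (ι → F) → F)
    (hadd : ∀ x y, Q (x + y) = Q x + Q y + B x y) (hsmul : ∀ (c : F) x, Q (c • x) = c * c * Q x)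
    (hnd : NdOn B (⊤ : Submodule F (ι → F))) :
    Fintype.card F ^ n ≤ 2 * Nat.card (ConjClasses ↥(Cfsg.isometryGroup F Q)) := by
  classical
  have h : QAut B Q (LinearEquiv.refl F (ι → F)) := ⟨hadd, hsmul, fun x => rfl⟩
  obtain ⟨b, hb⟩ : ∃ b, gauss Q ⊤ = sgnB b * (Fintype.card F : ℝ) ^ n := by
    have h1 := gauss_sq h hnd
    have hc : Nat.card (⊤ : Submodule F (ι → F)) = Fintype.card F ^ (2 * n) := by
      rw [Nat.card_congr Submodule.topEquiv.toEquiv, Nat.card_fun, Nat.card_eq_fintype_card, Nat.card_eq_fintype_card, hι]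
    rw [hc, Nat.cast_pow, pow_mul', sq, mul_self_eq_mul_self_iff] at h1
    rcases h1 with h1 | h1
    · exact ⟨false, by simp [sgnB, h1]⟩
    · exact ⟨true, by simp [sgnB, h1]⟩
  let mat : ↥(Cfsg.isometryGroup F Q) → Matrix ι ι F := fun g =>
    ((g : Matrix.GeneralLinearGroup ι F) : Matrix ι ι F)
  let cp : ConjClasses ↥(Cfsg.isometryGroup F Q) → F[X] :=
    Quotient.lift (fun g => (mat g).charpoly) (fun g h hgh => by
      obtain ⟨x, hx⟩ := isConj_iff.mp hgh
      rw [← hx]
      show _ = ((x * g * x⁻¹ : ↥(Cfsg.isometryGroup F Q)) : Matrix.GeneralLinearGroup ι F).val.charpoly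
      rw [Subgroup.coe_mul, Subgroup.coe_mul, Subgroup.coe_inv, Units.val_mul, Units.val_mul, Matrix.coe_units_inv]
      exact (Matrix.charpoly_units_conj _ _).symm)
  let S := {r : Fin n → F // r ⟨0, by omega⟩ = 0 ∨ asB (r ⟨1, by omega⟩ / r ⟨0, by omega⟩) = b}
  have key : ∀ r : S, ∃ g : ↥(Cfsg.isometryGroup F Q), (mat g).charpoly = palOf n (monicOf n r.1) := by
    intro r
    obtain ⟨hm, hd, hc⟩ := monicOf_props n r.1
    have e0 := hc ⟨0, by omega⟩
    have e1 := hc ⟨1, by omega⟩
    simp only at e0 e1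
    obtain ⟨B', Q', g, hadd', hsmul', hnd', hinv, hcp, hG⟩ :=
      orthReal2_exists n _ hm hd b (by rw [e0, e1]; exact r.2)
    obtain ⟨f, hf⟩ := equiv_of_gauss (n := n) hadd' hsmul' hnd' hadd hsmul hnd
      (by rw [Module.finrank_fintype_fun_eq_card, Fintype.card_sum, Fintype.card_fin, two_mul])
      (by rw [Module.finrank_fintype_fun_eq_card, hι]) (hG.trans hb.symm)
    set T : (ι → F) →ₗ[F] (ι → F) := f.conj (Matrix.toLin' g) with hT
    have hTQ : ∀ v, Q (T v) = Q v := fun v => by
      rw [hT, LinearEquiv.conj_apply_apply, hf, Matrix.toLin'_apply, hinv, ← hf, f.apply_symm_apply]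
    have hTinj : Function.Injective T := by
      rw [← LinearMap.ker_eq_bot, LinearMap.ker_eq_bot']
      intro v hv
      refine hnd v Submodule.mem_top fun w _ => ?_
      have h1 : Q (T v + T w) = Q (v + w) := by rw [← _root_.map_add, hTQ]
      rw [hadd, hadd, hTQ, hTQ, hv, _root_.map_zero, LinearMap.zero_apply] at h1
      exact (add_left_cancel h1).symm
    have hu : IsUnit (LinearMap.toMatrix' T) := Matrix.mulVec_injective_iff_isUnit.1 fun v w h => hTinj (by
      simpa [LinearMap.toMatrix'_mulVec] using h)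
    refine ⟨⟨hu.unit, fun v w => ?_⟩, ?_⟩
    · show Q (LinearMap.toMatrix' T *ᵥ v) = Q v
      rw [LinearMap.toMatrix'_mulVec]
      exact hTQ v
    · show (LinearMap.toMatrix' T).charpoly = _
      rw [← Matrix.charpoly_toLin' (LinearMap.toMatrix' T), Matrix.toLin'_toMatrix', hT, LinearEquiv.charpoly_conj,
        Matrix.charpoly_toLin', hcp]
  choose g hg using key
  have hinj : Function.Injective (fun r : S => cp (ConjClasses.mk (g r))) := by
    intro r r' h
    have h1 : palOf n (monicOf n r.1) = palOf n (monicOf n r'.1) := (hg r).symm.trans (h.trans (hg r'))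
    obtain ⟨hm, hd, hc⟩ := monicOf_props n r.1
    obtain ⟨hm', hd', hc'⟩ := monicOf_props n r'.1
    have h3 := palOf_injective hm hd hm' hd' h1
    exact Subtype.ext (funext fun i => by rw [← hc i, h3, hc' i])
  refine (card_good_two hn b).trans (Nat.mul_le_mul_left 2 ?_)
  exact Nat.card_le_card_of_injective (fun r : S => ConjClasses.mk (g r)) (fun r r' h => hinj (congrArg cp h))

end Cfsg.Agent.CN9.Two
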