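import Cfsg.Agent.ClassNum9.Two.Sys
import Cfsg.Agent.ClassNum9.Two.AS
import Mathlib.FieldTheory.Finite.Basic

/-!
The unipotent pieces of an isometry of a quadratic form in characteristic two and their normal forms.
-/

set_option autoImplicit false

namespace Cfsg.Agent.CN9.Two

open Module

universe u v w

variable {F : Type u} [Field F] [CharP F 2] {V : Type v} [AddCommGroup V] [Module F V]
variable {V' : Type w} [AddCommGroup V'] [Module F V']
variable {B : LinearMap.BilinForm F V} {Q : V → F} {g : V ≃ₗ[F] V}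
variable {B' : LinearMap.BilinForm F V'} {Q' : V' → F} {g' : V' ≃ₗ[F] V'}

/-- a generator of a piece of size `2k` -/
def IsV (B : LinearMap.BilinForm F V) (Q : V → F) (g : V ≃ₗ[F] V) (k : ℕ) (b : Bool) (x : V) : Prop :=
  1 ≤ k ∧ tp g (2 * k) x = 0 ∧ B (tp g (2 * k - 1) x) x ≠ 0 ∧
    asB (Q (tp g (k - 1) x) / B (tp g (2 * k - 1) x) x) = b

/-- generators of a piece of size `m + m` -/
def IsW (B : LinearMap.BilinForm F V) (Q : V → F) (g : V ≃ₗ[F] V) (m : ℕ) (b : Bool) (x y : V) : Prop :=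
  1 ≤ m ∧ tp g m x = 0 ∧ tp g m y = 0 ∧ B (tp g (m - 1) x) y ≠ 0 ∧ B (tp g (m - 1) x) x = 0 ∧
    B (tp g (m - 1) y) y = 0 ∧
    (b = true ↔ Odd m ∧ asB (Q (tp g ((m - 1) / 2) x) * Q (tp g ((m - 1) / 2) y) /
      (B (tp g (m - 1) x) y * B (tp g (m - 1) x) y)) = true)

theorem exists_sqrt_two [Finite F] (a : F) : ∃ c : F, c * c = a := by
  haveI : Fintype F := Fintype.ofFinite F
  obtain ⟨c, hc⟩ := FiniteField.isSquare_of_char_two (ringChar.eq F 2) a
  exact ⟨c, hc.symm⟩

variable (h : QAut B Q g)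
include h

omit [CharP F 2] in
theorem QAut.q_comb (c d : F) (u v : V) : Q (c • u + d • v) = c * c * Q u + d * d * Q v + c * (d * B u v) := by
  rw [h.add, h.smul, h.smul, _root_.map_smul, _root_.map_smul, LinearMap.smul_apply, smul_eq_mul, smul_eq_mul]
  ring

theorem QAut.top_comm {N : ℕ} (hN : 1 ≤ N) {x : V} (y : V) (hx : tp g N x = 0) :
    B (tp g (N - 1) y) x = B (tp g (N - 1) x) y := by
  rw [← h.pair_top (y := y) hx 0 (N - 1) (by omega), tp_zero, h.symm]

/-- vanishing of `Q` high up -/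
theorem QAut.q_high {N : ℕ} (hN : 1 ≤ N) {x : V} (hx : tp g N x = 0) (ht : B (tp g (N - 1) x) x = 0) {i : ℕ}
    (hi : N ≤ 2 * i) : Q (tp g i x) = 0 := by
  rcases eq_or_lt_of_le hi with he | hlt
  · rw [h.q_top hx he.symm hN, ht]
  · exact h.q_zero hx hlt

theorem IsV.sys {k : ℕ} {b : Bool} {x : V} (hV : IsV B Q g k b x) : Sys B g (2 * k) ![x] := by
  obtain ⟨hk, hx, ht, -⟩ := hV
  refine ⟨by omega, fun i => by fin_cases i; exact hx, fun c hc => ?_⟩
  have h0 := hc 0
  simp at h0
  funext i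
  fin_cases i
  exact h0.resolve_right ht

theorem IsW.sys {m : ℕ} {b : Bool} {x y : V} (hW : IsW B Q g m b x y) : Sys B g m ![x, y] := by
  obtain ⟨hm, hx, hy, ht, hxx, hyy, -⟩ := hW
  refine ⟨hm, fun i => by fin_cases i <;> assumption, fun c hc => ?_⟩
  have hyx : B (tp g (m - 1) y) x = B (tp g (m - 1) x) y := h.top_comm hm y hx
  have h0 := hc 0
  have h1 := hc 1
  simp [Fin.sum_univ_two, hxx, hyy] at h0 h1
  rw [hyx] at h1
  funext i
  fin_cases i
  · exact h1.resolve_right ht
  · exact h0.resolve_right ht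

theorem IsW.swap {m : ℕ} {b : Bool} {x y : V} (hW : IsW B Q g m b x y) : IsW B Q g m b y x := by
  obtain ⟨hm, hx, hy, ht, hxx, hyy, hb⟩ := hW
  refine ⟨hm, hy, hx, ?_, hyy, hxx, ?_⟩
  · rwa [h.top_comm hm y hx]
  · rw [h.top_comm hm y hx, mul_comm (Q (tp g _ y))]
    exact hb

/-- moving a generator of a piece of size `2k` -/
theorem moveV {k : ℕ} (hk : 1 ≤ k) {x : V} (hx : tp g (2 * k) x = 0) (ht : B (tp g (2 * k - 1) x) x = 1)
    {d : ℕ} (hd : 1 ≤ d) (b : F) :
    tp g (2 * k) (x + b • tp g d x) = 0 ∧ B (tp g (2 * k - 1) (x + b • tp g d x)) (x + b • tp g d x) = 1 ∧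
    ∀ i, 2 * k ≤ 2 * i + d + 1 → Q (tp g i (x + b • tp g d x)) =
      Q (tp g i x) + (if i + d = k then b * b else 0) + (if 2 * i + d + 1 = 2 * k then b else 0) := by
  refine ⟨?_, ?_, fun i hi => ?_⟩
  · rw [_root_.map_add, _root_.map_smul, tp_comm, hx, _root_.map_zero, smul_zero, add_zero]
  · simp only [_root_.map_add, _root_.map_smul, LinearMap.add_apply, LinearMap.smul_apply, ← tp_add, smul_eq_mul]
    rw [ht, tp_of_le g (show 2 * k ≤ 2 * k - 1 + d by omega) hx,
      h.pair_zero hx (2 * k - 1) d (by omega)]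
    simp
  · rw [_root_.map_add, _root_.map_smul, h.add, h.smul, _root_.map_smul, smul_eq_mul, ← tp_add]
    congr 1
    · congr 1
      split_ifs with he
      · rw [h.q_top hx (by omega) (by omega), show i + d = k by omega] at *
        rw [ht, mul_one]
      · rw [h.q_zero hx (by omega), mul_zero]
    · split_ifs with he
      · rw [h.pair_top hx _ _ (by omega), ht, mul_one]
      · rw [h.pair_zero hx _ _ (by omega), mul_zero]

/-- a normalised generator -/
theorem IsV.normal [Finite F] {k : ℕ} {b : Bool} {x : V} (hV : IsV B Q g k b x) :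
    ∃ x' ∈ spanT g (2 * k) ![x], IsV B Q g k b x' ∧ B (tp g (2 * k - 1) x') x' = 1 ∧
      ∀ i < k, Q (tp g i x') = if i + 1 = k then asRep F b else 0 := by
  have hs := hV.sys h
  obtain ⟨hk, hx, ht, hb⟩ := hV
  have hxm : x ∈ spanT g (2 * k) ![x] := tp_mem_spanT (x := ![x]) hs.kill 0 0
  obtain ⟨c, hc⟩ := exists_sqrt_two (B (tp g (2 * k - 1) x) x)⁻¹
  suffices key : ∀ j ≤ k, 1 ≤ j → ∃ x' ∈ spanT g (2 * k) ![x], tp g (2 * k) x' = 0 ∧
      B (tp g (2 * k - 1) x') x' = 1 ∧ ∀ i, k ≤ i + j → i < k → Q (tp g i x') = if i + 1 = k then asRep F b else 0 by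
    obtain ⟨x', hm, h1, h2, h3⟩ := key k le_rfl hk
    refine ⟨x', hm, ⟨hk, h1, by rw [h2]; exact one_ne_zero, ?_⟩, h2, fun i hi => h3 i (by omega) hi⟩
    rw [h2, div_one, h3 (k - 1) (by omega) (by omega), if_pos (by omega), asB_asRep]
  intro j
  induction j with
  | zero => intro _ h0; omega
  | succ j ih =>
    intro hjk _
    rcases Nat.eq_zero_or_pos j with rfl | hj
    · set x0 := c • x with hx0
      have hm0 : x0 ∈ spanT g (2 * k) ![x] := Submodule.smul_mem _ _ hxm
      have hk0 : tp g (2 * k) x0 = 0 := by rw [hx0, _root_.map_smul, hx, smul_zero]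
      have ht0 : B (tp g (2 * k - 1) x0) x0 = 1 := by
        simp only [hx0, _root_.map_smul, LinearMap.smul_apply, smul_eq_mul]
        rw [← mul_assoc, hc, inv_mul_cancel₀ ht]
      obtain ⟨e, he⟩ := exists_shift (Q (tp g (k - 1) x0))
      have hb0 : asB (Q (tp g (k - 1) x0)) = b := by
        rw [hx0, _root_.map_smul, h.smul, hc, ← hb, div_eq_inv_mul]
      obtain ⟨m1, m2, m3⟩ := moveV h hk hk0 ht0 (le_refl 1) e
      refine ⟨_, add_mem hm0 (Submodule.smul_mem _ _ (tp_mem (fun v hv => spanT_inv hs.kill hv) 1 hm0)), m1, m2,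
        fun i h1 h2 => ?_⟩
      have hi : i = k - 1 := by omega
      subst hi
      rw [m3 _ (by omega), if_pos (by omega), if_pos (by omega), if_pos (by omega), ← hb0, ← he]
      ring
    · obtain ⟨x1, hm1, hk1, ht1, hv1⟩ := ih (by omega) hj
      set i0 := k - (j + 1) with hi0
      obtain ⟨m1, m2, m3⟩ := moveV h hk hk1 ht1 (show 1 ≤ 2 * k - 1 - 2 * i0 by omega) (Q (tp g i0 x1))
      refine ⟨_, add_mem hm1 (Submodule.smul_mem _ _ (tp_mem (fun v hv => spanT_inv hs.kill hv) _ hm1)), m1, m2,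
        fun i h1 h2 => ?_⟩
      rw [m3 i (by omega)]
      by_cases hi : i = i0
      · subst hi
        rw [if_neg (show ¬ i0 + (2 * k - 1 - 2 * i0) = k by omega),
          if_pos (show 2 * i0 + (2 * k - 1 - 2 * i0) + 1 = 2 * k by omega), if_neg (show ¬ i0 + 1 = k by omega),
          add_zero, CharTwo.add_self_eq_zero]
      · rw [if_neg (show ¬ i + (2 * k - 1 - 2 * i0) = k by omega),
          if_neg (show ¬ 2 * i + (2 * k - 1 - 2 * i0) + 1 = 2 * k by omega), add_zero, add_zero,
          hv1 i (by omega) h2]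

/-- generators with leading value one, and first quadratic value one in odd size -/
theorem IsW.scaled [Finite F] {m : ℕ} {b : Bool} {x y : V} (hW : IsW B Q g m b x y) :
    ∃ x' ∈ spanT g m ![x, y], ∃ y' ∈ spanT g m ![x, y], IsW B Q g m b x' y' ∧ B (tp g (m - 1) x') y' = 1 ∧
      (Odd m → (b = true → Q (tp g ((m - 1) / 2) x') = 1 ∧ Q (tp g ((m - 1) / 2) y') = asT F) ∧
        (b = false → Q (tp g ((m - 1) / 2) x') = 0 ∧ Q (tp g ((m - 1) / 2) y') = 0)) := by
  have hs := hW.sys h
  obtain ⟨hm, hx, hy, ht, hxx, hyy, hb⟩ := hW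
  set t := B (tp g (m - 1) x) y with ht_def
  set H := (m - 1) / 2 with hH
  have hxm : x ∈ spanT g m ![x, y] := tp_mem_spanT (x := ![x, y]) hs.kill 0 0
  have hym : y ∈ spanT g m ![x, y] := tp_mem_spanT (x := ![x, y]) hs.kill 1 0
  have hyx : B (tp g (m - 1) y) x = t := h.top_comm hm y hx
  -- general combinations
  have comb : ∀ c1 c2 d1 d2 : F, (c1 * d2 + c2 * d1) * t = 1 →
      (Odd m → asB (Q (tp g H (c1 • x + c2 • y)) * Q (tp g H (d1 • x + d2 • y))) = b) →
      IsW B Q g m b (c1 • x + c2 • y) (d1 • x + d2 • y) ∧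
        B (tp g (m - 1) (c1 • x + c2 • y)) (d1 • x + d2 • y) = 1 := by
    intro c1 c2 d1 d2 hc hbit
    have htop : B (tp g (m - 1) (c1 • x + c2 • y)) (d1 • x + d2 • y) = 1 := by
      simp only [_root_.map_add, _root_.map_smul, LinearMap.add_apply, LinearMap.smul_apply, smul_eq_mul, hxx, hyy,
        hyx]
      rw [← ht_def]
      linear_combination hc
    have hdiag : ∀ e1 e2 : F, B (tp g (m - 1) (e1 • x + e2 • y)) (e1 • x + e2 • y) = 0 := by
      intro e1 e2
      simp only [_root_.map_add, _root_.map_smul, LinearMap.add_apply, LinearMap.smul_apply, smul_eq_mul, hxx, hyy,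
        hyx]
      rw [← ht_def]
      have e : e1 * e2 * t + e1 * e2 * t = 0 := CharTwo.add_self_eq_zero _
      linear_combination e
    refine ⟨⟨hm, ?_, ?_, by rw [htop]; exact one_ne_zero, hdiag _ _, hdiag _ _, ?_⟩, htop⟩
    · simp [hx, hy]
    · simp [hx, hy]
    · rw [htop, mul_one, div_one]
      constructor
      · intro hbt
        exact ⟨(hb.1 hbt).1, by rw [← hH, hbit (hb.1 hbt).1, hbt]⟩
      · rintro ⟨ho, hA⟩
        rw [← hH, hbit ho] at hA
        exact hA
  by_cases ho : Odd m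
  swap
  · obtain ⟨h1, h2⟩ := comb t⁻¹ 0 0 1 (by simp [ht]) (fun hc => absurd hc ho)
    exact ⟨_, add_mem (Submodule.smul_mem _ _ hxm) (Submodule.smul_mem _ _ hym), _,
      add_mem (Submodule.smul_mem _ _ hxm) (Submodule.smul_mem _ _ hym), h1, h2, fun hc => absurd hc ho⟩
  have hB : B (tp g H x) (tp g H y) = t := h.pair_top hx _ _ (by
    obtain ⟨l, hl⟩ := ho
    omega)
  have hq : ∀ c d : F, Q (tp g H (c • x + d • y)) =
      c * c * Q (tp g H x) + d * d * Q (tp g H y) + c * (d * t) := fun c d => by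
    rw [_root_.map_add, _root_.map_smul, _root_.map_smul, h.q_comb, hB]
  set a := Q (tp g H x) with ha
  set d := Q (tp g H y) with hd
  have hbit : asB (a * d / (t * t)) = b := by
    cases hb' : b
    · by_contra hc
      have : b = true := hb.2 ⟨ho, by simpa using hc⟩
      rw [hb'] at this
      exact Bool.false_ne_true this
    · exact (hb.1 hb').2
  -- it suffices to find coefficients
  suffices key : ∃ c1 c2 d1 d2 : F, (c1 * d2 + c2 * d1) * t = 1 ∧
      c1 * c1 * a + c2 * c2 * d + c1 * (c2 * t) = (if b then 1 else 0) ∧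
      d1 * d1 * a + d2 * d2 * d + d1 * (d2 * t) = asRep F b by
    obtain ⟨c1, c2, d1, d2, h1, h2, h3⟩ := key
    obtain ⟨g1, g2⟩ := comb c1 c2 d1 d2 h1 (fun _ => by
      rw [hq, hq, h2, h3]
      cases b <;> simp [asRep, asB_zero, asB_asT])
    refine ⟨_, add_mem (Submodule.smul_mem _ _ hxm) (Submodule.smul_mem _ _ hym), _,
      add_mem (Submodule.smul_mem _ _ hxm) (Submodule.smul_mem _ _ hym), g1, g2, fun _ => ⟨fun hbt => ?_, fun hbf => ?_⟩⟩
    · rw [hq, hq, h2, h3, hbt]; exact ⟨rfl, rfl⟩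
    · rw [hq, hq, h2, h3, hbf]; exact ⟨rfl, rfl⟩
  by_cases ha0 : a = 0
  · rw [ha0, zero_mul, zero_div, asB_zero] at hbit
    subst hbit
    refine ⟨1, 0, d / (t * t), t⁻¹, by simp [ht], by simp [ha0], ?_⟩
    have e : d / (t * t) + d / (t * t) = 0 := CharTwo.add_self_eq_zero _
    simp only [asRep, ha0, mul_zero, zero_add]
    field_simp at e ⊢
    simp only [Bool.false_eq_true, if_false, mul_zero]
    linear_combination e
  · obtain ⟨r, hr⟩ := exists_sqrt_two a
    have hr0 : r ≠ 0 := fun h0 => ha0 (by rw [← hr, h0, mul_zero])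
    obtain ⟨s, hs'⟩ := exists_shift (a * d / (t * t))
    rw [hbit] at hs'
    cases b
    · -- isotropic
      have e : s * s + s + a * d / (t * t) = 0 := by
        simp only [asRep, Bool.false_eq_true, if_false] at hs'
        linear_combination hs'
      refine ⟨s / r, r / t, (s + 1) / r, r / t, ?_, ?_, ?_⟩
      · have e2 : s + s = (0 : F) := CharTwo.add_self_eq_zero s
        field_simp
        linear_combination e2
      · simp only [Bool.false_eq_true, if_false]
        rw [← hr]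
        field_simp at e ⊢
        linear_combination e + d * hr
      · simp only [asRep, Bool.false_eq_true, if_false]
        have e2 : (1 : F) + 1 = 0 := CharTwo.add_self_eq_zero 1
        rw [← hr]
        field_simp at e ⊢
        linear_combination e + d * hr + (s * t ^ 2 + t ^ 2) * e2
    · refine ⟨1 / r, 0, s / r, r / t, ?_, ?_, ?_⟩
      · field_simp
        ring
      · simp only [if_true]
        rw [← hr]
        field_simp
        ring
      · rw [← hs']
        rw [← hr]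
        field_simp
        ring

/-- moving generators of a piece of size `m + m` -/
theorem moveW {m : ℕ} (hm : 1 ≤ m) {x y : V} (hx : tp g m x = 0) (hy : tp g m y = 0)
    (ht : B (tp g (m - 1) x) y = 1) (hxx : B (tp g (m - 1) x) x = 0) (hyy : B (tp g (m - 1) y) y = 0)
    {d : ℕ} (hd : 1 ≤ d) (a b c : F) :
    let x' := x + a • tp g d y
    let y' := y + (b • tp g d x + c • tp g d y)
    tp g m x' = 0 ∧ tp g m y' = 0 ∧ B (tp g (m - 1) x') x' = 0 ∧ B (tp g (m - 1) y') y' = 0 ∧
    (∀ i, m ≤ 2 * i + d + 1 → Q (tp g i x') = Q (tp g i x) + (if 2 * i + d + 1 = m then a else 0) ∧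
      Q (tp g i y') = Q (tp g i y) + (if 2 * i + d + 1 = m then b else 0)) ∧
    ∀ s, m ≤ s + d + 1 → B (tp g s x') y' = B (tp g s x) y + (if s + d + 1 = m then c else 0) := by
  intro x' y'
  have hyx : B (tp g (m - 1) y) x = 1 := by rw [h.top_comm hm y hx, ht]
  refine ⟨?_, ?_, ?_, ?_, fun i hi => ?_, fun s hs => ?_⟩
  · simp only [x', _root_.map_add, _root_.map_smul, tp_comm g m d, hx, hy, _root_.map_zero, smul_zero, add_zero]
  · simp only [y', _root_.map_add, _root_.map_smul, tp_comm g m d, hx, hy, _root_.map_zero, smul_zero, add_zero]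
  · simp only [x', _root_.map_add, _root_.map_smul, LinearMap.add_apply, LinearMap.smul_apply, smul_eq_mul, ← tp_add]
    rw [hxx, h.pair_zero hx (m - 1) d (by omega), tp_of_le g (show m ≤ m - 1 + d by omega) hy]
    simp
  · simp only [y', _root_.map_add, _root_.map_smul, LinearMap.add_apply, LinearMap.smul_apply, smul_eq_mul, ← tp_add]
    rw [hyy, h.pair_zero hy (m - 1) d (by omega), h.pair_zero hy (m - 1) d (by omega),
      tp_of_le g (show m ≤ m - 1 + d by omega) hy, tp_of_le g (show m ≤ m - 1 + d by omega) hx]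
    simp
  · constructor
    · simp only [x', _root_.map_add, _root_.map_smul, h.add, h.smul, smul_eq_mul, ← tp_add]
      rw [h.q_high hm hy hyy (by omega), mul_zero, add_zero]
      congr 1
      split_ifs with he
      · rw [h.pair_top hx _ _ (by omega), ht, mul_one]
      · rw [h.pair_zero hx _ _ (by omega), mul_zero]
    · simp only [y', _root_.map_add (tp g i), _root_.map_smul (tp g i), ← tp_add]
      rw [h.add, h.q_comb, h.q_high hm hy hyy (i := i + d) (by omega), h.q_high hm hx hxx (i := i + d) (by omega),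
        h.pair_zero hx (i + d) (i + d) (by omega)]
      simp only [_root_.map_add, _root_.map_smul, smul_eq_mul, mul_zero, add_zero]
      congr 1
      split_ifs with he
      · rw [h.pair_top hy _ _ (by omega), h.pair_top hy _ _ (by omega), hyx, hyy, mul_one, mul_zero, add_zero]
      · rw [h.pair_zero hy _ _ (by omega), h.pair_zero hy _ _ (by omega), mul_zero, mul_zero, add_zero]
  · simp only [x', y', _root_.map_add, _root_.map_smul, LinearMap.add_apply, LinearMap.smul_apply, smul_eq_mul,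
      ← tp_add]
    rw [h.pair_zero hy (s + d) d (by omega), h.pair_zero hy (s + d) d (by omega)]
    have e1 : B (tp g s x) (tp g d x) = 0 := by
      rcases Nat.lt_or_ge (s + d) m with h1 | h1
      · rw [h.pair_top hx _ _ (by omega), hxx]
      · exact h.pair_zero hx _ _ h1
    have e2 : B (tp g (s + d) y) y = 0 := by
      rcases Nat.lt_or_ge (s + d) m with h1 | h1
      · rw [show s + d = m - 1 by omega, hyy]
      · rw [tp_of_le g h1 hy]; simp
    rw [e1, e2]
    split_ifs with he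
    · rw [h.pair_top hx _ _ (by omega), ht]; ring
    · rw [h.pair_zero hx _ _ (by omega)]; ring

/-- normalised generators -/
theorem IsW.normal [Finite F] {m : ℕ} {b : Bool} {x y : V} (hW : IsW B Q g m b x y) :
    ∃ x' ∈ spanT g m ![x, y], ∃ y' ∈ spanT g m ![x, y], IsW B Q g m b x' y' ∧
      (∀ s < m, B (tp g s x') y' = if s + 1 = m then 1 else 0) ∧
      ∀ i < m, Q (tp g i x') = (if 2 * i + 1 = m ∧ b = true then 1 else 0) ∧
        Q (tp g i y') = (if 2 * i + 1 = m ∧ b = true then asT F else 0) := by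
  have hs := hW.sys h
  obtain ⟨x0, hx0m, y0, hy0m, hW0, ht0, hv0⟩ := hW.scaled h
  obtain ⟨hm, hx0, hy0, -, hxx0, hyy0, hb0⟩ := hW0
  suffices key : ∀ j < m, ∃ x' ∈ spanT g m ![x, y], ∃ y' ∈ spanT g m ![x, y], tp g m x' = 0 ∧ tp g m y' = 0 ∧
      B (tp g (m - 1) x') x' = 0 ∧ B (tp g (m - 1) y') y' = 0 ∧ B (tp g (m - 1) x') y' = 1 ∧
      (∀ i, 2 * i + 1 = m → Q (tp g i x') = Q (tp g i x0) ∧ Q (tp g i y') = Q (tp g i y0)) ∧
      (∀ s, m ≤ s + j + 1 → s + 1 < m → B (tp g s x') y' = 0) ∧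
      ∀ i, m ≤ 2 * i + j + 1 → 2 * i + 1 < m → Q (tp g i x') = 0 ∧ Q (tp g i y') = 0 by
    obtain ⟨x', hx'm, y', hy'm, hx', hy', hxx, hyy, ht, hh, hψ, hq⟩ := key (m - 1) (by omega)
    refine ⟨x', hx'm, y', hy'm, ⟨hm, hx', hy', by rw [ht]; exact one_ne_zero, hxx, hyy, ?_⟩, fun s hs => ?_, fun i _ => ?_⟩
    · rw [hb0, ht0, ht]
      refine and_congr_right fun ho => ?_
      obtain ⟨l, hl⟩ := ho
      rw [(hh ((m - 1) / 2) (by omega)).1, (hh ((m - 1) / 2) (by omega)).2]
    · split_ifs with he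
      · rwa [show s = m - 1 by omega]
      · exact hψ s (by omega) (by omega)
    · rcases Nat.lt_trichotomy (2 * i + 1) m with hlt | he | hgt
      · rw [if_neg (fun hc => by omega), if_neg (fun hc => by omega)]
        exact hq i (by omega) hlt
      · have ho : Odd m := ⟨i, he.symm⟩
        rw [(hh i he).1, (hh i he).2, show i = (m - 1) / 2 by omega]
        have hm2 : 2 * ((m - 1) / 2) + 1 = m := by omega
        cases b
        · simpa [hm2] using (hv0 ho).2 rfl
        · simpa [hm2] using (hv0 ho).1 rfl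
      · rw [if_neg (fun hc => by omega), if_neg (fun hc => by omega)]
        exact ⟨h.q_high hm hx' hxx (by omega), h.q_high hm hy' hyy (by omega)⟩
  intro j
  induction j with
  | zero =>
    intro _
    exact ⟨x0, hx0m, y0, hy0m, hx0, hy0, hxx0, hyy0, ht0, fun _ _ => ⟨rfl, rfl⟩, fun s h1 h2 => by omega,
      fun i h1 h2 => by omega⟩
  | succ j ih =>
    intro hj
    obtain ⟨x1, hx1m, y1, hy1m, hx1, hy1, hxx1, hyy1, ht1, hh1, hψ1, hq1⟩ := ih (by omega)
    set s0 := m - 1 - (j + 1) with hs0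
    obtain ⟨m1, m2, m3, m4, m5, m6⟩ := moveW h hm hx1 hy1 ht1 hxx1 hyy1 (show 1 ≤ j + 1 by omega)
      (Q (tp g (s0 / 2) x1)) (Q (tp g (s0 / 2) y1)) (B (tp g s0 x1) y1)
    have hinv : ∀ v ∈ spanT g m ![x, y], g v ∈ spanT g m ![x, y] := fun v hv => spanT_inv hs.kill hv
    refine ⟨_, add_mem hx1m (Submodule.smul_mem _ _ (tp_mem hinv _ hy1m)), _,
      add_mem hy1m (add_mem (Submodule.smul_mem _ _ (tp_mem hinv _ hx1m)) (Submodule.smul_mem _ _ (tp_mem hinv _ hy1m))),
      m1, m2, m3, m4, ?_, fun i hi => ?_, fun s h1 h2 => ?_, fun i h1 h2 => ?_⟩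
    · rw [m6 _ (by omega), if_neg (by omega), add_zero, ht1]
    · obtain ⟨a1, a2⟩ := m5 i (by omega)
      rw [a1, a2, if_neg (show ¬ 2 * i + (j + 1) + 1 = m by omega), if_neg (show ¬ 2 * i + (j + 1) + 1 = m by omega),
        add_zero, add_zero]
      exact hh1 i hi
    · rw [m6 s h1]
      split_ifs with he
      · rw [show s = s0 by omega, CharTwo.add_self_eq_zero]
      · rw [add_zero]; exact hψ1 s (by omega) h2
    · obtain ⟨a1, a2⟩ := m5 i h1
      rw [a1, a2]
      split_ifs with he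
      · rw [show i = s0 / 2 by omega, CharTwo.add_self_eq_zero, CharTwo.add_self_eq_zero]
        exact ⟨rfl, rfl⟩
      · rw [add_zero, add_zero]; exact hq1 i (by omega) h2

variable (h' : QAut B' Q' g')
include h'

theorem IsV.iso [Finite F] {k : ℕ} {b : Bool} {x : V} {x' : V'} (hV : IsV B Q g k b x)
    (hV' : IsV B' Q' g' k b x') :
    IsoQ B Q g (spanT g (2 * k) ![x]) B' Q' g' (spanT g' (2 * k) ![x']) := by
  obtain ⟨y, hy, hVy, hty, hqy⟩ := hV.normal h
  obtain ⟨y', hy', hVy', hty', hqy'⟩ := hV'.normal h'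
  rw [← (hV.sys h).span_eq h (hVy.sys h) (fun i => by fin_cases i; exact hy),
    ← (hV'.sys h').span_eq h' (hVy'.sys h') (fun i => by fin_cases i; exact hy')]
  refine isoQ_of_sys h h' (hVy.sys h) (hVy'.sys h') (fun i a ha => ?_) fun i j hij => ?_
  · fin_cases i
    show Q (tp g a y) = Q' (tp g' a y')
    rcases Nat.lt_trichotomy a k with h1 | h1 | h1
    · rw [hqy a h1, hqy' a h1]
    · rw [h.q_top hVy.2.1 (by omega) (by omega), h'.q_top hVy'.2.1 (by omega) (by omega), hty, hty']
    · rw [h.q_zero hVy.2.1 (by omega), h'.q_zero hVy'.2.1 (by omega)]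
  · exact absurd (Subsingleton.elim i j) hij

theorem IsW.iso [Finite F] {m : ℕ} {b : Bool} {x y : V} {x' y' : V'} (hW : IsW B Q g m b x y)
    (hW' : IsW B' Q' g' m b x' y') :
    IsoQ B Q g (spanT g m ![x, y]) B' Q' g' (spanT g' m ![x', y']) := by
  obtain ⟨u, hu, v, hv, hWu, htu, hqu⟩ := hW.normal h
  obtain ⟨u', hu', v', hv', hWu', htu', hqu'⟩ := hW'.normal h'
  rw [← (hW.sys h).span_eq h (hWu.sys h) (fun i => by fin_cases i <;> [exact hu; exact hv]),
    ← (hW'.sys h').span_eq h' (hWu'.sys h') (fun i => by fin_cases i <;> [exact hu'; exact hv'])]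
  have hflip : ∀ s < m, B (tp g s v) u = B' (tp g' s v') u' := fun s hs => by
    have e := h.gram_det h' hWu.2.1 hWu'.2.1 (fun t ht => by rw [htu t ht, htu' t ht]) s 0
    rw [tp_zero, tp_zero] at e
    rw [h.symm, h'.symm, e]
  refine isoQ_of_sys h h' (hWu.sys h) (hWu'.sys h') (fun i a ha => ?_) fun i j hij s hs => ?_
  · fin_cases i
    · exact (hqu a ha).1.trans (hqu' a ha).1.symm
    · exact (hqu a ha).2.trans (hqu' a ha).2.symm
  · fin_cases i <;> fin_cases j
    · exact absurd rfl hij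
    · exact (htu s hs).trans (htu' s hs).symm
    · exact hflip s hs
    · exact absurd rfl hij

end Cfsg.Agent.CN9.Two
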