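import Cfsg.Agent.ClassNum9.Two.Decomp

/-!
Replacing some of the pieces of a decomposition.
-/

set_option autoImplicit false

namespace Cfsg.Agent.CN9.Two

open Polynomial Module Cfsg.Agent.GLSemi

universe u v

variable {F : Type u} [Field F] [CharP F 2] {V : Type v} [AddCommGroup V] [Module F V]
variable {B : LinearMap.BilinForm F V} {Q : V → F} {g : V ≃ₗ[F] V}

omit [CharP F 2] in
theorem perp_bot : perp' B (⊥ : Submodule F V) = ⊤ := by
  rw [eq_top_iff]
  intro x _ w hw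
  rw [Submodule.mem_bot] at hw
  simp [hw]

omit [CharP F 2] in
theorem perp_sup (W X : Submodule F V) : perp' B (W ⊔ X) = perp' B W ⊓ perp' B X := by
  refine le_antisymm (fun x hx => ⟨fun y hy => hx y (Submodule.mem_sup_left hy),
    fun y hy => hx y (Submodule.mem_sup_right hy)⟩) fun x hx y hy => ?_
  obtain ⟨p, hp, r, hr, rfl⟩ := Submodule.mem_sup.1 hy
  rw [_root_.map_add, LinearMap.add_apply, hx.1 p hp, hx.2 r hr, add_zero]

variable (h : QAut B Q g) [FiniteDimensional F V]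
include h

theorem sum_props {W X : Submodule F V} (hW : ∀ x ∈ W, g x ∈ W) (hX : ∀ x ∈ X, g x ∈ X) (hWnd : NdOn B W)
    (hXnd : NdOn B X) (horth : X ≤ perp' B W) :
    (∀ x ∈ W ⊔ X, g x ∈ W ⊔ X) ∧ NdOn B (W ⊔ X) ∧ (W ⊔ X) ⊓ perp' B W = X := by
  have hkey : ∀ x ∈ X, ∀ w ∈ W, B w x = 0 ∧ B x w = 0 := fun x hx w hw =>
    ⟨horth hx w hw, h.perp_symm (horth hx) hw⟩
  refine ⟨?_, ?_, ?_⟩
  · intro x hx
    obtain ⟨p, hp, r, hr, rfl⟩ := Submodule.mem_sup.1 hx
    rw [_root_.map_add]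
    exact Submodule.add_mem_sup (hW p hp) (hX r hr)
  · intro x hx hxy
    obtain ⟨p, hp, r, hr, rfl⟩ := Submodule.mem_sup.1 hx
    have e1 : p = 0 := hWnd p hp fun w hw => by
      have := hxy w (Submodule.mem_sup_left hw)
      rwa [_root_.map_add, LinearMap.add_apply, (hkey r hr w hw).2, add_zero] at this
    have e2 : r = 0 := hXnd r hr fun y hy => by
      have := hxy y (Submodule.mem_sup_right hy)
      rwa [_root_.map_add, LinearMap.add_apply, (hkey y hy p hp).1, zero_add] at this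
    rw [e1, e2, add_zero]
  · refine le_antisymm ?_ (le_inf le_sup_right horth)
    rintro x ⟨hx, hxp⟩
    obtain ⟨p, hp, r, hr, rfl⟩ := Submodule.mem_sup.1 hx
    have e1 : p = 0 := hWnd p hp fun w hw => by
      have := h.perp_symm hxp hw
      rwa [_root_.map_add, LinearMap.add_apply, (hkey r hr w hw).2, add_zero] at this
    rwa [e1, zero_add]

/-- the part of a decomposition carried by some of its labels -/
theorem Dec.split : ∀ (S : Multiset (Lab F)) {U : Submodule F V} {M : Multiset (Lab F)},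
    Dec B Q g U (S + M) →
    ∃ X ≤ U, (∀ x ∈ X, g x ∈ X) ∧ NdOn B X ∧ Dec B Q g X S ∧ Dec B Q g (U ⊓ perp' B X) M := by
  intro S
  induction S using Multiset.induction_on with
  | empty =>
    intro U M hM
    rw [zero_add] at hM
    refine ⟨⊥, bot_le, fun x hx => ?_, fun x hx _ => by simpa using hx, Dec.zero, by rwa [perp_bot, inf_top_eq]⟩
    rw [Submodule.mem_bot] at hx
    simp [hx]
  | cons z S ih =>
    intro U M hM
    rw [Multiset.cons_add] at hM
    obtain ⟨W, M', hW, hle, hMM, hd⟩ := hM.front h (Multiset.mem_cons_self z (S + M))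
    rw [Multiset.cons_inj_right] at hMM
    subst hMM
    obtain ⟨X, hX, hXi, hXnd, hXd, hrest⟩ := ih hd
    obtain ⟨hWi, hWnd, -⟩ := pc_props h hW
    obtain ⟨hi, hnd, hinter⟩ := sum_props h hWi hXi hWnd hXnd (hX.trans inf_le_right)
    refine ⟨W ⊔ X, sup_le hle (hX.trans inf_le_left), hi, hnd, Dec.cons hW le_sup_left ?_, ?_⟩
    · rw [hinter]; exact hXd
    · rwa [perp_sup, ← inf_assoc]

theorem Dec.join {X : Submodule F V} {S : Multiset (Lab F)} (hX : Dec B Q g X S) :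
    ∀ {U : Submodule F V} {M : Multiset (Lab F)}, (∀ x ∈ X, g x ∈ X) → NdOn B X → X ≤ U →
      Dec B Q g (U ⊓ perp' B X) M → Dec B Q g U (S + M) := by
  induction hX with
  | zero => intro U M _ _ _ hM; rwa [perp_bot, inf_top_eq, ← zero_add M] at hM
  | @cons X W z S hW hle hS ih =>
    intro U M hXi hXnd hXU hM
    obtain ⟨hWi, hWnd, -⟩ := pc_props h hW
    obtain ⟨hi, hnd, -, hsup⟩ := rest_props h.formAut hXi hXnd hle hWi hWnd
    rw [Multiset.cons_add]
    refine Dec.cons hW (hle.trans hXU) (ih hi hnd (inf_le_inf_right _ hXU) ?_)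
    rwa [inf_assoc, ← perp_sup, hsup]

/-- replacing labels -/
theorem Dec.replace {U : Submodule F V} {S S' M : Multiset (Lab F)}
    (hS : ∀ X, (∀ x ∈ X, g x ∈ X) → NdOn B X → Dec B Q g X S → Dec B Q g X S')
    (hM : Dec B Q g U (S + M)) : Dec B Q g U (S' + M) := by
  obtain ⟨X, hX, hXi, hXnd, hXd, hrest⟩ := Dec.split h S hM
  exact Dec.join h (hS X hXi hXnd hXd) hXi hXnd hX hrest

/-- two pieces filling a subspace -/
theorem Dec.two {X W1 W2 : Submodule F V} (hXi : ∀ x ∈ X, g x ∈ X) (hXnd : NdOn B X) {z1 z2 : Lab F}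
    (h1 : IsPc B Q g W1 z1) (h2 : IsPc B Q g W2 z2) (hle1 : W1 ≤ X) (hle2 : W2 ≤ X ⊓ perp' B W1)
    (hdim : finrank F X = z1.dim + z2.dim) : Dec B Q g X {z1, z2} := by
  obtain ⟨hW1i, hW1nd, hd1⟩ := pc_props h h1
  obtain ⟨hW2i, hW2nd, hd2⟩ := pc_props h h2
  obtain ⟨hi, hnd, hdis, hsup⟩ := rest_props h.formAut hXi hXnd hle1 hW1i hW1nd
  have e1 := Submodule.finrank_sup_add_finrank_inf_eq W1 (X ⊓ perp' B W1)
  rw [hsup, hdis.eq_bot, finrank_bot, add_zero, hdim, hd1] at e1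
  have e2 : W2 = X ⊓ perp' B W1 := Submodule.eq_of_le_of_finrank_eq hle2 (by omega)
  have e3 : X ⊓ perp' B W1 ⊓ perp' B W2 = ⊥ := by
    rw [eq_bot_iff, ← e2]
    rintro x ⟨hx, hx'⟩
    exact hW2nd x hx fun y hy => h.perp_symm hx' hy
  show Dec B Q g X (z1 ::ₘ z2 ::ₘ 0)
  exact Dec.cons h1 hle1 (Dec.cons h2 hle2 (e3 ▸ Dec.zero))

/-- an orthogonal projection -/
theorem exists_part {X W : Submodule F V} (hXi : ∀ x ∈ X, g x ∈ X) (hXnd : NdOn B X) (hle : W ≤ X)
    (hWi : ∀ x ∈ W, g x ∈ W) (hWnd : NdOn B W) {y : V} (hy : y ∈ X) :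
    ∃ y' ∈ X ⊓ perp' B W, ∃ w ∈ W, y = y' + w ∧ (∀ i, tp g i y' ∈ X ⊓ perp' B W) ∧
      ∀ i, tp g i y = 0 → tp g i y' = 0 ∧ tp g i w = 0 := by
  obtain ⟨hi, -, hdis, hsup⟩ := rest_props h.formAut hXi hXnd hle hWi hWnd
  obtain ⟨w, hw, y', hy', rfl⟩ := Submodule.mem_sup.1 (hsup.symm ▸ hy : y ∈ W ⊔ (X ⊓ perp' B W))
  refine ⟨y', hy', w, hw, add_comm _ _, fun i => tp_mem hi i hy', fun i h0 => ?_⟩
  rw [_root_.map_add] at h0
  have e : tp g i w = 0 := by
    refine Submodule.disjoint_def.1 hdis _ (tp_mem hWi i hw) ?_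
    rw [eq_neg_of_add_eq_zero_left h0]
    exact neg_mem (tp_mem hi i hy')
  exact ⟨by rwa [e, zero_add] at h0, e⟩

end Cfsg.Agent.CN9.Two
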