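import Cfsg.Agent.ClassNum9.Two.Basic

/-!
Subspaces generated by vectors of a common height with a nondegenerate leading pairing.
-/

set_option autoImplicit false

namespace Cfsg.Agent.CN9.Two

open Module

universe u v w

variable {F : Type u} [Field F] [CharP F 2] {V : Type v} [AddCommGroup V] [Module F V]
variable {V' : Type w} [AddCommGroup V'] [Module F V']
variable {B : LinearMap.BilinForm F V} {Q : V → F} {g : V ≃ₗ[F] V}
variable {B' : LinearMap.BilinForm F V'} {Q' : V' → F} {g' : V' ≃ₗ[F] V'}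
variable {ι : Type} [Fintype ι]

/-- an isometry of invariant subspaces commuting with the automorphisms -/
def IsoQ (B : LinearMap.BilinForm F V) (Q : V → F) (g : V ≃ₗ[F] V) (W : Submodule F V)
    (B' : LinearMap.BilinForm F V') (Q' : V' → F) (g' : V' ≃ₗ[F] V') (W' : Submodule F V') : Prop :=
  ∃ f : V →ₗ[F] V', W.map f = W' ∧ (∀ x ∈ W, ∀ y ∈ W, B' (f x) (f y) = B x y) ∧
    (∀ x ∈ W, Q' (f x) = Q x) ∧ ∀ x ∈ W, f (g x) = g' (f x)

/-- the span of the orbits of `g - 1` -/
def spanT (g : V ≃ₗ[F] V) (N : ℕ) (x : ι → V) : Submodule F V :=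
  Submodule.span F (Set.range fun p : ι × Fin N => tp g p.2 (x p.1))

/-- vectors of height `N` with nondegenerate leading pairing -/
structure Sys (B : LinearMap.BilinForm F V) (g : V ≃ₗ[F] V) (N : ℕ) (x : ι → V) : Prop where
  pos : 1 ≤ N
  kill : ∀ i, tp g N (x i) = 0
  nd : ∀ c : ι → F, (∀ j, ∑ i, c i * B (tp g (N - 1) (x j)) (x i) = 0) → c = 0

omit [CharP F 2] [Fintype ι] in
theorem tp_mem_spanT {N : ℕ} {x : ι → V} (hk : ∀ i, tp g N (x i) = 0) (i : ι) (a : ℕ) :
    tp g a (x i) ∈ spanT g N x := by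
  rcases Nat.lt_or_ge a N with h | h
  · exact Submodule.subset_span ⟨(i, ⟨a, h⟩), rfl⟩
  · rw [tp_of_le g h (hk i)]; exact zero_mem _

omit [CharP F 2] [Fintype ι] in
theorem spanT_inv {N : ℕ} {x : ι → V} (hk : ∀ i, tp g N (x i) = 0) {w : V} (hw : w ∈ spanT g N x) :
    g w ∈ spanT g N x := by
  induction hw using Submodule.span_induction with
  | mem w hw =>
    obtain ⟨⟨i, a⟩, rfl⟩ := hw
    have e : g (tp g a (x i)) = tp g (a + 1) (x i) + tp g a (x i) := by rw [tp_succ, nT_apply, sub_add_cancel]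
    rw [e]
    exact add_mem (tp_mem_spanT hk i _) (tp_mem_spanT hk i _)
  | zero => rw [map_zero]; exact zero_mem _
  | add a b _ _ ha hb => rw [map_add]; exact add_mem ha hb
  | smul c a _ ha => rw [map_smul]; exact Submodule.smul_mem _ c ha

omit [CharP F 2] [Fintype ι] in
theorem spanT_kill {N : ℕ} {x : ι → V} (hk : ∀ i, tp g N (x i) = 0) {w : V} (hw : w ∈ spanT g N x) :
    tp g N w = 0 := by
  induction hw using Submodule.span_induction with
  | mem w hw =>
    obtain ⟨⟨i, a⟩, rfl⟩ := hw
    rw [tp_comm, hk, map_zero]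
  | zero => rw [map_zero]
  | add a b _ _ ha hb => rw [map_add, ha, hb, add_zero]
  | smul c a _ ha => rw [map_smul, ha, smul_zero]

omit [CharP F 2] [Fintype ι] in
theorem spanT_le {N : ℕ} {x : ι → V} {U : Submodule F V} (hU : ∀ v ∈ U, g v ∈ U) (hx : ∀ i, x i ∈ U) :
    spanT g N x ≤ U :=
  Submodule.span_le.2 (by rintro _ ⟨⟨i, a⟩, rfl⟩; exact tp_mem hU _ (hx i))

omit [CharP F 2] in
/-- separating the leading part -/
theorem spanT_split {N : ℕ} {x : ι → V} (hk : ∀ i, tp g N (x i) = 0) {w : V} (hw : w ∈ spanT g N x) :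
    ∃ (c : ι → F) (r : V), r ∈ spanT g N x ∧ w = ∑ i, c i • x i + nT g r := by
  classical
  induction hw using Submodule.span_induction with
  | mem w hw =>
    obtain ⟨⟨i, a, ha⟩, rfl⟩ := hw
    rcases a with _ | a
    · refine ⟨Pi.single i 1, 0, zero_mem _, ?_⟩
      simp [Pi.single_apply, tp_zero]
    · exact ⟨0, tp g a (x i), tp_mem_spanT hk i a, by simp [tp_succ]⟩
  | zero => exact ⟨0, 0, zero_mem _, by simp⟩
  | add a b _ _ ha hb =>
    obtain ⟨c, r, hr, rfl⟩ := ha
    obtain ⟨c', r', hr', rfl⟩ := hb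
    refine ⟨c + c', r + r', add_mem hr hr', ?_⟩
    simp only [Pi.add_apply, add_smul, Finset.sum_add_distrib, map_add]
    abel
  | smul d a _ ha =>
    obtain ⟨c, r, hr, rfl⟩ := ha
    exact ⟨d • c, d • r, Submodule.smul_mem _ d hr, by simp [smul_add, Finset.smul_sum, smul_smul]⟩

variable (h : QAut B Q g)
include h

omit [Fintype ι] in
theorem QAut.pair_span {N : ℕ} {x : ι → V} (hk : ∀ i, tp g N (x i) = 0) {r : V} (hr : r ∈ spanT g N x)
    (i : ι) {a b : ℕ} (hab : N ≤ a + b) : B (tp g a (x i)) (tp g b r) = 0 :=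
  h.pair_zero (hk i) a b hab

theorem Sys.pair_lead {N : ℕ} {x : ι → V} (hs : Sys B g N x) {j : ℕ} (hj : j < N) (c : ι → F) {r : V}
    (hr : r ∈ spanT g N x) (l : ι) :
    B (tp g (N - 1 - j) (x l)) (tp g j (∑ i, c i • x i) + tp g (j + 1) r) =
      ∑ i, c i * B (tp g (N - 1) (x l)) (x i) := by
  rw [_root_.map_add, h.pair_span hs.kill hr l (by omega), add_zero, map_sum, map_sum]
  refine Finset.sum_congr rfl fun i _ => ?_
  rw [_root_.map_smul, _root_.map_smul, smul_eq_mul, h.pair_top (hs.kill l) _ _ (by omega)]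

/-- an element orthogonal to the high powers starts high -/
theorem Sys.lead {N : ℕ} {x : ι → V} (hs : Sys B g N x) {w : V} (hw : w ∈ spanT g N x) :
    ∀ j, j ≤ N → (∀ i a, N - j ≤ a → B (tp g a (x i)) w = 0) →
      ∃ (c : ι → F) (r : V), r ∈ spanT g N x ∧ w = tp g j (∑ i, c i • x i) + tp g (j + 1) r := by
  intro j
  induction j with
  | zero =>
    intro _ _
    obtain ⟨c, r, hr, he⟩ := spanT_split hs.kill hw
    exact ⟨c, r, hr, by rw [he, tp_zero, tp_one]⟩
  | succ j ih =>
    intro hj hz
    obtain ⟨c, r, hr, he⟩ := ih (by omega) fun i a ha => hz i a (by omega)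
    have hc : c = 0 := hs.nd c fun l => by
      rw [← hs.pair_lead h (show j < N by omega) c hr l, ← he]
      exact hz l _ (by omega)
    obtain ⟨c', r', hr', he'⟩ := spanT_split hs.kill hr
    refine ⟨c', r', hr', ?_⟩
    rw [he, hc, he', tp_add g (j + 1) 1 r', tp_one]
    simp

theorem Sys.ndOn {N : ℕ} {x : ι → V} (hs : Sys B g N x) : NdOn B (spanT g N x) := by
  intro w hw hz
  obtain ⟨c, r, hr, he⟩ := hs.lead h hw N le_rfl fun i a _ => by
    rw [h.symm]; exact hz _ (tp_mem_spanT hs.kill i a)
  rw [he, tp_of_le g (Nat.le_succ N) (spanT_kill hs.kill hr), _root_.map_sum]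
  simp [hs.kill]

theorem Sys.indep {N : ℕ} {x : ι → V} (hs : Sys B g N x) :
    LinearIndependent F fun p : ι × Fin N => tp g p.2 (x p.1) := by
  classical
  rw [Fintype.linearIndependent_iff]
  intro c hc
  suffices key : ∀ j (hj : j < N), (fun i => c (i, ⟨j, hj⟩)) = 0 from
    fun p => congrFun (key p.2.1 p.2.2) p.1
  intro j
  induction j using Nat.strong_induction_on with
  | _ j ih =>
    intro hj
    refine hs.nd _ fun l => ?_
    have h0 : B (tp g (N - 1 - j) (x l)) (∑ p : ι × Fin N, c p • tp g p.2 (x p.1)) = 0 := by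
      rw [hc, _root_.map_zero]
    rw [map_sum, Fintype.sum_prod_type] at h0
    rw [← h0]
    refine Finset.sum_congr rfl fun i _ => ?_
    rw [Finset.sum_eq_single ⟨j, hj⟩]
    · rw [_root_.map_smul, smul_eq_mul, h.pair_top (hs.kill l) _ _ (show N - 1 - j + j + 1 = N by omega)]
    · intro b _ hb
      rw [_root_.map_smul, smul_eq_mul]
      rcases Nat.lt_trichotomy b.1 j with hlt | heq | hgt
      · have := congrFun (ih b.1 hlt b.2) i
        simp only [Pi.zero_apply] at this
        rw [show (i, b) = (i, (⟨b.1, b.2⟩ : Fin N)) from rfl, this, zero_mul]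
      · exact absurd (Fin.ext heq) hb
      · rw [h.pair_zero (hs.kill l) (N - 1 - j) b.1 (by omega), mul_zero]
    · simp

theorem Sys.finrank {N : ℕ} {x : ι → V} (hs : Sys B g N x) :
    Module.finrank F (spanT g N x) = Fintype.card ι * N := by
  rw [spanT, finrank_span_eq_card (hs.indep h), Fintype.card_prod, Fintype.card_fin]

/-- new generators in the same span -/
theorem Sys.span_eq {N : ℕ} {x y : ι → V} (hs : Sys B g N x) (ht : Sys B g N y)
    (hy : ∀ i, y i ∈ spanT g N x) : spanT g N y = spanT g N x := by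
  haveI : FiniteDimensional F (spanT g N x) := FiniteDimensional.span_of_finite F (Set.finite_range _)
  refine Submodule.eq_of_le_of_finrank_eq (spanT_le (fun v hv => spanT_inv hs.kill hv) hy) ?_
  rw [hs.finrank h, ht.finrank h]

omit [Fintype ι] in
/-- the pairings are determined by those with the second vector not moved -/
theorem QAut.gram_det (h' : QAut B' Q' g') {N : ℕ} {x y : V} {x' y' : V'} (hx : tp g N x = 0)
    (hx' : tp g' N x' = 0) (hψ : ∀ s < N, B (tp g s x) y = B' (tp g' s x') y') :
    ∀ b a, B (tp g a x) (tp g b y) = B' (tp g' a x') (tp g' b y') := by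
  intro b
  induction b with
  | zero =>
    intro a
    rcases Nat.lt_or_ge a N with ha | ha
    · exact hψ a ha
    · rw [tp_of_le g ha hx, tp_of_le g' ha hx', _root_.map_zero, _root_.map_zero]
      rfl
  | succ b ih =>
    suffices key : ∀ d a, N ≤ a + d → B (tp g a x) (tp g (b + 1) y) = B' (tp g' a x') (tp g' (b + 1) y') from
      fun a => key N a (Nat.le_add_left _ _)
    intro d
    induction d with
    | zero =>
      intro a ha
      rw [h.pair_zero hx _ _ (by omega), h'.pair_zero hx' _ _ (by omega)]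
    | succ d ihd =>
      intro a ha
      rw [tp_succ g b, tp_succ g' b, h.nT_right, h'.nT_right, ← tp_succ g a, ← tp_succ g' a, ← tp_succ g b,
        ← tp_succ g' b, ih (a + 1), ihd (a + 1) (by omega)]

omit [Fintype ι] in
/-- the pairings of the orbit of one vector are determined by the values of `Q` -/
theorem QAut.gram_self (h' : QAut B' Q' g') {N : ℕ} {x : V} {x' : V'} (hx : tp g N x = 0)
    (hx' : tp g' N x' = 0) (hq : ∀ i, Q (tp g i x) = Q' (tp g' i x')) :
    ∀ a b, B (tp g a x) (tp g b x) = B' (tp g' a x') (tp g' b x') := by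
  suffices key : ∀ d a b, N ≤ a + b + d → B (tp g a x) (tp g b x) = B' (tp g' a x') (tp g' b x') from
    fun a b => key N a b (Nat.le_add_left _ _)
  intro d
  induction d with
  | zero => intro a b hab; rw [h.pair_zero hx _ _ (by omega), h'.pair_zero hx' _ _ (by omega)]
  | succ d ih =>
    intro a b hab
    set D : ℕ → ℕ → F := fun a b => B (tp g a x) (tp g b x) - B' (tp g' a x') (tp g' b x') with hD
    have hstep : ∀ a b, N ≤ a + b + 1 + (d + 1) → D a (b + 1) = D (a + 1) b := by
      intro a b hab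
      have e := ih (a + 1) (b + 1) (by omega)
      simp only [hD]
      rw [tp_succ g b, tp_succ g' b, h.nT_right, h'.nT_right, ← tp_succ g a, ← tp_succ g' a, ← tp_succ g b,
        ← tp_succ g' b, e]
      ring
    have hconst : ∀ b a, N ≤ a + b + (d + 1) → D a b = D (a + b) 0 := by
      intro b
      induction b with
      | zero => intro a _; rfl
      | succ b ihb =>
        intro a hab
        rw [hstep a b (by omega), ihb (a + 1) (by omega), show a + 1 + b = a + (b + 1) by omega]
    refine sub_eq_zero.1 (show D a b = 0 from ?_)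
    rw [hconst b a hab]
    obtain ⟨i, hi⟩ := Nat.even_or_odd' (a + b)
    rcases hi with hi | hi
    · rw [show a + b = i + i by omega, ← hconst i i (by omega)]
      simp [hD, h.alt, h'.alt]
    · rw [show a + b = (i + 1) + i by omega, ← hconst i (i + 1) (by omega)]
      simp only [hD]
      rw [← h.q_tp, ← h'.q_tp, hq, sub_self]

/-- equal values give isometric spans -/
theorem isoQ_of_sys (h' : QAut B' Q' g') {N : ℕ} {x : ι → V} {x' : ι → V'} (hs : Sys B g N x)
    (hs' : Sys B' g' N x') (hq : ∀ i a, a < N → Q (tp g a (x i)) = Q' (tp g' a (x' i)))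
    (hb : ∀ i j, i ≠ j → ∀ s < N, B (tp g s (x i)) (x j) = B' (tp g' s (x' i)) (x' j)) :
    IsoQ B Q g (spanT g N x) B' Q' g' (spanT g' N x') := by
  classical
  let ρ : (ι × Fin N → F) →ₗ[F] V := Fintype.linearCombination F fun p => tp g p.2 (x p.1)
  let ρ' : (ι × Fin N → F) →ₗ[F] V' := Fintype.linearCombination F fun p => tp g' p.2 (x' p.1)
  have hinj : Function.Injective ρ := by
    rw [← LinearMap.ker_eq_bot, LinearMap.ker_eq_bot']
    intro c hc
    exact funext (Fintype.linearIndependent_iff.1 (hs.indep h) c hc)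
  obtain ⟨l, hl⟩ := ρ.exists_leftInverse_of_injective (LinearMap.ker_eq_bot.2 hinj)
  have hval : ∀ i (a : ℕ) (ha : a < N), ρ (Pi.single (i, ⟨a, ha⟩) 1) = tp g a (x i) ∧
      ρ' (Pi.single (i, ⟨a, ha⟩) 1) = tp g' a (x' i) := by
    intro i a ha
    constructor <;> simp [ρ, ρ', Fintype.linearCombination_apply_single]
  let f : V →ₗ[F] V' := ρ'.comp l
  have hf : ∀ i a, f (tp g a (x i)) = tp g' a (x' i) := by
    intro i a
    rcases Nat.lt_or_ge a N with ha | ha
    · rw [← (hval i a ha).1, ← (hval i a ha).2]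
      exact congrArg ρ' (LinearMap.congr_fun hl _)
    · rw [tp_of_le g ha (hs.kill i), tp_of_le g' ha (hs'.kill i), _root_.map_zero]
  have hgram : ∀ i j a b, B' (tp g' a (x' i)) (tp g' b (x' j)) = B (tp g a (x i)) (tp g b (x j)) := by
    intro i j a b
    by_cases hij : i = j
    · subst hij
      refine (h.gram_self h' (hs.kill i) (hs'.kill i) (fun k => ?_) a b).symm
      rcases Nat.lt_or_ge k N with hk | hk
      · exact hq i k hk
      · rw [tp_of_le g hk (hs.kill i), tp_of_le g' hk (hs'.kill i), h.q0, h'.q0]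
    · exact (h.gram_det h' (hs.kill i) (hs'.kill i) (hb i j hij) b a).symm
  have hB : ∀ v ∈ spanT g N x, ∀ w ∈ spanT g N x, B' (f v) (f w) = B v w := by
    intro v hv w hw
    induction hv using Submodule.span_induction with
    | mem v hv =>
      obtain ⟨⟨i, a⟩, rfl⟩ := hv
      induction hw using Submodule.span_induction with
      | mem w hw => obtain ⟨⟨j, b⟩, rfl⟩ := hw; rw [hf, hf, hgram]
      | zero => simp
      | add a b _ _ ha hb => rw [_root_.map_add, _root_.map_add, ha, hb, _root_.map_add]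
      | smul c a _ ha => rw [_root_.map_smul, _root_.map_smul, ha, _root_.map_smul]
    | zero => simp
    | add a b _ _ ha hb => rw [_root_.map_add, LinearMap.map_add₂, ha, hb, LinearMap.map_add₂]
    | smul c a _ ha => rw [_root_.map_smul, LinearMap.map_smul₂, ha, LinearMap.map_smul₂]
  refine ⟨f, ?_, hB, ?_, ?_⟩
  · rw [spanT, Submodule.map_span, ← Set.range_comp]
    simp only [Function.comp_def, hf]
    rfl
  · intro v hv
    induction hv using Submodule.span_induction with
    | mem v hv => obtain ⟨⟨i, a⟩, rfl⟩ := hv; rw [hf, hq i a a.2]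
    | zero => rw [_root_.map_zero, h.q0, h'.q0]
    | add a b ha' hb' ha hb => rw [_root_.map_add, h'.add, ha, hb, hB a ha' b hb', h.add]
    | smul c a _ ha => rw [_root_.map_smul, h'.smul, ha, h.smul]
  · intro v hv
    induction hv using Submodule.span_induction with
    | mem v hv =>
      obtain ⟨⟨i, a⟩, rfl⟩ := hv
      have e : ∀ y, g y = nT g y + y := fun y => by rw [nT_apply, sub_add_cancel]
      have e' : ∀ y, g' y = nT g' y + y := fun y => by rw [nT_apply, sub_add_cancel]
      rw [e, e', _root_.map_add, ← tp_succ, hf, hf, ← tp_succ]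
    | zero => simp
    | add a b _ _ ha hb => simp only [_root_.map_add, ha, hb]
    | smul c a _ ha => simp only [_root_.map_smul, ha]

end Cfsg.Agent.CN9.Two
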